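import Groth.Agent.H06EGA11.FibreProjective
import Groth.Agent.H06EGA11.ProjDim
import Groth.Agent.H4LC.RegularPDBound
import Mathlib.RingTheory.Spectrum.Prime.FreeLocus
import Mathlib.RingTheory.Flat.Localization

/-!
# Support and projective dimension of the fibres of a module flat over the base
-/

set_option autoImplicit false
set_option linter.style.haveILetI false
universe u

open TensorProduct CategoryTheory

namespace Groth.Agent.H06EGA12

theorem mem_support_baseChange_iff {P F : Type u} [CommRing P] [CommRing F] [Algebra P F]
    (M : Type u) [AddCommGroup M] [Module P M] [Module.Finite P M] (Q : PrimeSpectrum F) :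
    Q ∈ Module.support F (F ⊗[P] M) ↔ PrimeSpectrum.comap (algebraMap P F) Q ∈ Module.support P M := by
  rw [Module.mem_support_iff_nontrivial_residueField_tensorProduct,
    Module.mem_support_iff_nontrivial_residueField_tensorProduct]
  let q := PrimeSpectrum.comap (algebraMap P F) Q
  letI : Algebra q.asIdeal.ResidueField Q.asIdeal.ResidueField :=
    (Ideal.ResidueField.map q.asIdeal Q.asIdeal (algebraMap P F) rfl).toAlgebra
  haveI : IsScalarTower P q.asIdeal.ResidueField Q.asIdeal.ResidueField :=
    IsScalarTower.of_algebraMap_eq fun r => by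
      rw [IsScalarTower.algebraMap_apply P F Q.asIdeal.ResidueField]
      exact (Ideal.ResidueField.map_algebraMap q.asIdeal Q.asIdeal (algebraMap P F) rfl r).symm
  haveI : Module.FaithfullyFlat q.asIdeal.ResidueField Q.asIdeal.ResidueField :=
    inferInstance
  let e₁ := AlgebraTensorModule.cancelBaseChange P F F Q.asIdeal.ResidueField M
  let e₂ := AlgebraTensorModule.cancelBaseChange P q.asIdeal.ResidueField q.asIdeal.ResidueField
    Q.asIdeal.ResidueField M
  rw [← not_subsingleton_iff_nontrivial, ← not_subsingleton_iff_nontrivial, not_iff_not,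
    e₁.toEquiv.subsingleton_congr, ← e₂.toEquiv.subsingleton_congr,
    Module.FaithfullyFlat.subsingleton_tensorProduct_iff_right]

theorem isClosed_support {P : Type u} [CommRing P] (M : Type u) [AddCommGroup M] [Module P M]
    [Module.Finite P M] : IsClosed (Module.support P M) := by
  rw [Module.support_eq_zeroLocus]
  exact PrimeSpectrum.isClosed_zeroLocus _

/-- Freeness is detected after a base change along which a presentation stays injective. -/
theorem mem_freeLocus_baseChange_iff {P F L Fr M : Type u} [CommRing P] [CommRing F] [Algebra P F]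
    [AddCommGroup L] [Module P L] [Module.Finite P L] [AddCommGroup Fr] [Module P Fr]
    [Module.Finite P Fr] [Module.Free P Fr] [AddCommGroup M] [Module P M]
    (i : L →ₗ[P] Fr) (π : Fr →ₗ[P] M) (hπ : Function.Surjective π) (hex : Function.Exact i π)
    (hinj : Function.Injective (i.baseChange F)) (Q : PrimeSpectrum F) :
    Q ∈ Module.freeLocus F (F ⊗[P] M) ↔
      PrimeSpectrum.comap (algebraMap P F) Q ∈ Module.freeLocus P M := by
  refine ⟨fun hQ => ?_, fun hq => Module.comap_freeLocus_le hq⟩
  let q := PrimeSpectrum.comap (algebraMap P F) Q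
  let FQ := Localization.AtPrime Q.asIdeal
  let κ := Q.asIdeal.ResidueField
  let κq := q.asIdeal.ResidueField
  rw [Module.mem_freeLocus_iff_tensor _ FQ] at hQ
  haveI : Module.Flat F FQ := IsLocalization.flat FQ Q.asIdeal.primeCompl
  let l := (i.baseChange F).baseChange FQ
  let p := (π.baseChange F).baseChange FQ
  have hl : Function.Injective l := Module.Flat.lTensor_preserves_injective_linearMap _ hinj
  have hex' : Function.Exact l p :=
    lTensor_exact FQ (lTensor_exact F hex hπ) (LinearMap.lTensor_surjective F hπ)
  have hp : Function.Surjective p := LinearMap.lTensor_surjective FQ (LinearMap.lTensor_surjective F hπ)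
  obtain ⟨r, hr⟩ := ((Function.Exact.split_tfae hex' hl hp).out 0 1).mp
    (Module.projective_lifting_property p LinearMap.id hp)
  have hκ : Function.Injective (i.lTensor κ) := by
    let e (X : Type u) [AddCommGroup X] [Module P X] :=
      AlgebraTensorModule.cancelBaseChange F FQ FQ κ (F ⊗[P] X) ≪≫ₗ
        (AlgebraTensorModule.cancelBaseChange P F FQ κ X)
    have key : ∀ x, e Fr (l.lTensor κ x) = i.lTensor κ (e L x) := by
      intro x
      induction x with
      | zero => simp
      | tmul a c =>
        induction c with
        | zero => simp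
        | tmul c d =>
          induction d with
          | zero => simp
          | tmul d z => simp [e, l]
          | add u v hu hv => simp only [tmul_add, map_add, hu, hv]
        | add u v hu hv => simp only [tmul_add, map_add, hu, hv]
      | add u v hu hv => simp only [map_add, hu, hv]
    have hli : Function.Injective (l.lTensor κ) := by
      refine Function.HasLeftInverse.injective ⟨r.lTensor κ, fun x => ?_⟩
      rw [← LinearMap.lTensor_comp_apply, hr, LinearMap.lTensor_id, LinearMap.id_apply]
    intro x y hxy
    obtain ⟨x, rfl⟩ := (e L).surjective x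
    obtain ⟨y, rfl⟩ := (e L).surjective y
    rw [← key, ← key] at hxy
    exact congrArg _ (hli ((e Fr).injective hxy))
  letI : Algebra κq κ := (Ideal.ResidueField.map q.asIdeal Q.asIdeal (algebraMap P F) rfl).toAlgebra
  haveI : IsScalarTower P κq κ := IsScalarTower.of_algebraMap_eq fun z => by
    rw [IsScalarTower.algebraMap_apply P F κ]
    exact (Ideal.ResidueField.map_algebraMap q.asIdeal Q.asIdeal (algebraMap P F) rfl z).symm
  obtain ⟨ρ, hρ⟩ := LinearMap.exists_leftInverse_of_injective (Algebra.linearMap κq κ)
    (LinearMap.ker_eq_bot.2 (algebraMap κq κ).injective)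
  have hq : Function.Injective (i.lTensor κq) := by
    let j : κq →ₗ[P] κ := (Algebra.linearMap κq κ).restrictScalars P
    have hj : Function.Injective (j.rTensor L) := by
      refine Function.HasLeftInverse.injective ⟨(ρ.restrictScalars P).rTensor L, fun x => ?_⟩
      rw [← LinearMap.rTensor_comp_apply,
        show (ρ.restrictScalars P).comp j = LinearMap.id from
          LinearMap.ext fun z => LinearMap.congr_fun hρ z,
        LinearMap.rTensor_id, LinearMap.id_apply]
    intro x y hxy
    refine hj (hκ ?_)
    simp only [← LinearMap.comp_apply, LinearMap.lTensor_comp_rTensor, ← LinearMap.rTensor_comp_lTensor]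
    simp only [LinearMap.comp_apply, hxy]
  let Pq := Localization.AtPrime q.asIdeal
  have hkq : Function.Injective ((i.baseChange Pq).lTensor (IsLocalRing.ResidueField Pq)) := by
    let e (X : Type u) [AddCommGroup X] [Module P X] :=
      AlgebraTensorModule.cancelBaseChange P Pq Pq κq X
    have key : ∀ x, e Fr ((i.baseChange Pq).lTensor κq x) = i.lTensor κq (e L x) := by
      intro x
      induction x with
      | zero => simp
      | tmul a c =>
        induction c with
        | zero => simp
        | tmul c z => simp [e]
        | add u v hu hv => simp only [tmul_add, map_add, hu, hv]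
      | add u v hu hv => simp only [map_add, hu, hv]
    intro x y hxy
    refine (e L).injective (hq ?_)
    rw [← key, ← key]
    exact congrArg _ hxy
  exact (Module.mem_freeLocus_iff_tensor _ Pq).2 (Module.free_of_lTensor_residueField_injective
    (i.baseChange Pq) (π.baseChange Pq) (LinearMap.lTensor_surjective Pq hπ)
    (lTensor_exact Pq hex hπ) hkq)

variable (R P : Type u) [CommRing R] [CommRing P] [Algebra R P] [Algebra.FinitePresentation R P]
  [Module.Flat R P]

/-- For a module flat over the base, the locus where the fibres have projective dimension `≤ m` is open. -/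
theorem exists_open_pdLocus (m : ℕ) : ∀ (M : Type u) [AddCommGroup M] [Module P M] [Module R M]
    [IsScalarTower R P M] [Module.FinitePresentation P M] [Module.Flat R M],
    ∃ U : Set (PrimeSpectrum P), IsOpen U ∧ ∀ (K : Type u) [Field K] [Algebra R K]
      (Q : PrimeSpectrum (P ⊗[R] K)),
      Q ∈ H4LC.pdLocus (A := P ⊗[R] K) ((P ⊗[R] K) ⊗[P] M) m ↔
        PrimeSpectrum.comap (algebraMap P (P ⊗[R] K)) Q ∈ U := by
  induction m with
  | zero =>
    intro M _ _ _ _ _ _
    obtain ⟨k, π, hπ, hfp, hflat⟩ := H06EGA11.exists_syzygy R P M
    refine ⟨Module.freeLocus P M, Module.isOpen_freeLocus, fun K _ _ Q => ?_⟩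
    letI : Algebra K (P ⊗[R] K) := Algebra.TensorProduct.rightAlgebra
    haveI : Algebra.FiniteType K (P ⊗[R] K) := by
      exact Algebra.FiniteType.equiv (inferInstance : Algebra.FiniteType K (K ⊗[R] P))
        (Algebra.TensorProduct.commRight R K P)
    haveI : IsNoetherianRing (P ⊗[R] K) := Algebra.FiniteType.isNoetherianRing K _
    rw [H4LC.pdLocus_zero_eq]
    exact mem_freeLocus_baseChange_iff (LinearMap.ker π).subtype π hπ π.exact_subtype_ker_map
      (H06EGA11.baseChange_injective_of_flat _ π Subtype.val_injective hπ π.exact_subtype_ker_map K) Q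
  | succ m ih =>
    intro M _ _ _ _ _ _
    obtain ⟨k, π, hπ, hfp, hflat⟩ := H06EGA11.exists_syzygy R P M
    obtain ⟨U, hUo, hU⟩ := ih (LinearMap.ker π)
    refine ⟨U, hUo, fun K _ _ Q => ?_⟩
    rw [← hU K Q]
    let C := P ⊗[R] K
    let S := ShortComplex.mk (ModuleCat.ofHom ((LinearMap.ker π).subtype.baseChange C))
      (ModuleCat.ofHom (π.baseChange C)) (ModuleCat.hom_ext (LinearMap.ext fun x =>
        (lTensor_exact C π.exact_subtype_ker_map hπ).apply_apply_eq_zero x))
    have hS : S.ShortExact := ModuleCat.shortComplex_shortExact _ (lTensor_exact C π.exact_subtype_ker_map hπ)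
      (H06EGA11.baseChange_injective_of_flat _ π Subtype.val_injective hπ π.exact_subtype_ker_map K)
      (LinearMap.lTensor_surjective C hπ)
    haveI : Projective S.X₂ := (IsProjective.iff_projective (R := C) (C ⊗[P] (Fin k → P))).1 inferInstance
    have hproj : Projective (S.map (ModuleCat.localizedModuleFunctor Q.asIdeal.primeCompl)).X₂ :=
      (ModuleCat.localizedModuleFunctor.{u} Q.asIdeal.primeCompl).projective_obj_of_projective ‹_›
    exact (hS.map_of_exact (ModuleCat.localizedModuleFunctor Q.asIdeal.primeCompl))
      |>.hasProjectiveDimensionLT_X₃_iff m hproj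

end Groth.Agent.H06EGA12
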