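import Groth.Agent.H06EGA12.FieldDims
import Groth.Agent.H8Props.FibreDimSemicont
import Groth.Agent.H7Flat.FibreDim

/-!
# The points of large fibre dimension of a closed set, uniformly in the fibre
-/

set_option autoImplicit false
set_option linter.style.haveILetI false
universe u

open AlgebraicGeometry CategoryTheory CategoryTheory.Limits
open scoped TensorProduct

namespace Groth.Agent.H06EGA12

/-- The fibre dimension of an affine scheme over a field. -/
theorem fibreDimAt_Spec_field {K A : Type u} [Field K] [CommRing A] [Algebra K A]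
    [Algebra.FiniteType K A] (w : PrimeSpectrum A) :
    FlatMor.fibreDimAt (Spec.map (CommRingCat.ofHom (algebraMap K A))) w =
      ⨆ q : {q : PrimeSpectrum A // q ≤ w}, ringKrullDim (A ⧸ q.1.asIdeal) := by
  rw [← H8Props.FieldDim.height_add_dim_quotient_eq_iSup (k := K)]
  let f' := Spec.map (CommRingCat.ofHom (algebraMap K A))
  haveI : LocallyOfFiniteType f' := (HasRingHomProperty.Spec_iff (P := @LocallyOfFiniteType)).mpr
    (RingHom.finiteType_algebraMap.mpr inferInstance)
  have h0 : FlatMor.localDim (Spec (CommRingCat.of K)) (f' w) = 0 := by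
    refine le_antisymm ((H28Top.localDim_le_dim _).trans ?_) ?_
    · haveI : Subsingleton (Spec (CommRingCat.of K)) := inferInstanceAs (Subsingleton (PrimeSpectrum K))
      exact H8Props.FieldDim.dim_subsingleton_le
    · obtain ⟨s, hs⟩ := H8Props.FieldDim.exists_nat_cdim (k := K) (𝟙 (Spec (CommRingCat.of K))) (f' w)
      rw [H8Props.FieldDim.localDim_eq_stalk_add_cdim (k := K) (𝟙 (Spec (CommRingCat.of K))), hs]
      exact add_nonneg ringKrullDim_nonneg_of_nontrivial (by exact_mod_cast Nat.zero_le s)
  haveI : Flat f' := (HasRingHomProperty.Spec_iff (P := @Flat)).mpr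
    (show (algebraMap K A).Flat from RingHom.flat_algebraMap_iff.mpr inferInstance)
  have h1 := (H8Props.FieldDim.localDim_le_fibreDimAt_add (k := K) f' (𝟙 _) f' (Category.comp_id _) w).2
    (Flat.stalkMap f' w)
  rw [h0, add_zero] at h1
  rw [← h1]
  exact H8Props.FieldDim.localDim_chart (k := K) f' (𝟙 (Spec (CommRingCat.of A))) w

theorem tdim_comap_of_surjective {F A : Type u} [CommRing F] [CommRing A] (g : F →+* A)
    (hg : Function.Surjective g) (w : PrimeSpectrum A) : tdim (PrimeSpectrum.comap g w) = tdim w :=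
  congrArg (fun x : WithBot ℕ∞ => (x.unbotD 0).toNat)
    (ringKrullDim_eq_of_ringEquiv (RingEquiv.ofBijective
      (Ideal.quotientMap w.asIdeal g (le_refl (w.asIdeal.comap g)))
      ⟨Ideal.quotientMap_injective, Ideal.quotientMap_surjective hg⟩))

variable (R P : Type u) [CommRing R] [CommRing P] [Algebra R P] [Algebra.FiniteType R P]

theorem exists_closed_dimOn (W : Set (PrimeSpectrum P)) (hW : IsClosed W) (e : ℕ) :
    ∃ T : Set (PrimeSpectrum P), IsClosed T ∧ ∀ (K : Type u) [Field K] [Algebra R K]
      (Q : PrimeSpectrum (P ⊗[R] K)),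
      DimOn (PrimeSpectrum.comap (algebraMap P (P ⊗[R] K)) ⁻¹' W) Q e ↔
        PrimeSpectrum.comap (algebraMap P (P ⊗[R] K)) Q ∈ T := by
  obtain ⟨I, rfl⟩ : ∃ I : Ideal P, W = PrimeSpectrum.zeroLocus I :=
    (PrimeSpectrum.isClosed_iff_zeroLocus_ideal W).1 hW
  let A := P ⧸ I
  haveI : Algebra.FiniteType R A := Algebra.FiniteType.trans (R := R) (S := P) inferInstance inferInstance
  let φ := Spec.map (CommRingCat.ofHom (algebraMap R A))
  haveI : LocallyOfFiniteType φ := (HasRingHomProperty.Spec_iff (P := @LocallyOfFiniteType)).mpr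
    (RingHom.finiteType_algebraMap.mpr inferInstance)
  let c : PrimeSpectrum A → PrimeSpectrum P := PrimeSpectrum.comap (Ideal.Quotient.mk I)
  let Se : Set (PrimeSpectrum A) := {w | (e : WithBot ℕ∞) ≤ FlatMor.fibreDimAt φ w}
  refine ⟨c '' Se, ?_, fun K _ _ Q => ?_⟩
  · refine (PrimeSpectrum.isClosedEmbedding_comap_of_surjective _ _ Ideal.Quotient.mk_surjective).isClosedMap _ ?_
    rcases Nat.eq_zero_or_pos e with rfl | he
    · convert isClosed_univ
      refine Set.eq_univ_of_forall fun w => ?_
      simp only [Se, Set.mem_setOf_eq, Nat.cast_zero]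
      exact H7Flat.fibreDimAt_nonneg φ w
    · rw [show Se = {w | FlatMor.fibreDimAt φ w ≤ ((e - 1 : ℕ) : WithBot ℕ∞)}ᶜ from ?_]
      · exact (H8Props.FieldDim.isOpen_fibreDimAt_le φ (e - 1)).isClosed_compl
      · ext w
        show (e : WithBot ℕ∞) ≤ _ ↔ ¬ (_ ≤ ((e - 1 : ℕ) : WithBot ℕ∞))
        rw [not_le]
        generalize FlatMor.fibreDimAt φ w = x
        match x with
        | ⊥ => simp [WithBot.natCast_ne_bot]
        | (⊤ : ℕ∞) =>
          exact iff_of_true le_top (WithBot.coe_lt_coe.2 (WithTop.coe_lt_top _))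
        | ((m : ℕ) : ℕ∞) =>
          change ((e : ℕ) : WithBot ℕ∞) ≤ (m : WithBot ℕ∞) ↔ ((e - 1 : ℕ) : WithBot ℕ∞) < (m : WithBot ℕ∞)
          rw [Nat.cast_le, Nat.cast_lt]
          omega
  · let Fp := P ⊗[R] K
    let A' := A ⊗[R] K
    letI : Algebra K Fp := Algebra.TensorProduct.rightAlgebra
    letI : Algebra K A' := Algebra.TensorProduct.rightAlgebra
    haveI : Algebra.FiniteType K Fp := Algebra.FiniteType.equiv
      (inferInstance : Algebra.FiniteType K (K ⊗[R] P)) (Algebra.TensorProduct.commRight R K P)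
    haveI : Algebra.FiniteType K A' := Algebra.FiniteType.equiv
      (inferInstance : Algebra.FiniteType K (K ⊗[R] A)) (Algebra.TensorProduct.commRight R K A)
    let g : Fp →+* A' := (Algebra.TensorProduct.map (Ideal.Quotient.mkₐ R I) (AlgHom.id R K)).toRingHom
    have hg : Function.Surjective g :=
      TensorProduct.map_surjective Ideal.Quotient.mk_surjective Function.surjective_id
    have hgc : g.comp (algebraMap P Fp) = (algebraMap A A').comp (Ideal.Quotient.mk I) := RingHom.ext fun z => by
      simp [g, Algebra.TensorProduct.algebraMap_apply, Fp, A']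
    have hrange : Set.range (PrimeSpectrum.comap g) =
        PrimeSpectrum.comap (algebraMap P Fp) ⁻¹' PrimeSpectrum.zeroLocus (I : Set P) := by
      rw [range_comap_of_surjective _ _ hg, PrimeSpectrum.preimage_comap_zeroLocus]
      have hker : RingHom.ker g = I.map (algebraMap P Fp) := by
        refine le_antisymm ?_ (Ideal.map_le_iff_le_comap.2 fun z hz => ?_)
        · have h := Algebra.TensorProduct.rTensor_ker (R := R) (S := R) (C := K) (Ideal.Quotient.mkₐ R I) Ideal.Quotient.mk_surjective
          have hk : RingHom.ker (Ideal.Quotient.mkₐ R I) = I := Ideal.mk_ker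
          rw [hk] at h
          exact h.le
        · rw [Ideal.mem_comap, RingHom.mem_ker, ← RingHom.comp_apply, hgc, RingHom.comp_apply,
            Ideal.Quotient.eq_zero_iff_mem.2 hz, map_zero]
      rw [hker]
      exact PrimeSpectrum.zeroLocus_span _
    have hsq : IsPullback (Spec.map (CommRingCat.ofHom (algebraMap A A')))
        (Spec.map (CommRingCat.ofHom (algebraMap K A'))) φ
        (Spec.map (CommRingCat.ofHom (algebraMap R K))) :=
      (isPullback_SpecMap_of_isPushout _ _ _ _ (CommRingCat.isPushout_tensorProduct R A K))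
    have hfd : ∀ w : PrimeSpectrum A', FlatMor.fibreDimAt φ (PrimeSpectrum.comap (algebraMap A A') w) =
        ⨆ q : {q : PrimeSpectrum A' // q ≤ w}, ringKrullDim (A' ⧸ q.1.asIdeal) := fun w => by
      rw [← fibreDimAt_Spec_field (K := K) w]
      exact (H8Props.FieldDim.fibreDimAt_baseChange φ hsq w).symm
    have htd : ∀ w : PrimeSpectrum A', tdim w = tdim (PrimeSpectrum.comap g w) := fun w =>
      (tdim_comap_of_surjective g hg w).symm
    have hcomm : ∀ w : PrimeSpectrum A', c (PrimeSpectrum.comap (algebraMap A A') w) =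
        PrimeSpectrum.comap (algebraMap P Fp) (PrimeSpectrum.comap g w) := fun w => by
      rw [← PrimeSpectrum.comap_comp_apply, hgc, PrimeSpectrum.comap_comp_apply]
    constructor
    · rintro ⟨Q', hle, hQ', he⟩
      obtain ⟨w', rfl⟩ := hrange.ge hQ'
      have hQ : Q ∈ Set.range (PrimeSpectrum.comap g) := hrange.ge fun z hz => hle (hQ' hz)
      obtain ⟨w, rfl⟩ := hQ
      refine ⟨PrimeSpectrum.comap (algebraMap A A') w, ?_, hcomm w⟩
      show (e : WithBot ℕ∞) ≤ _
      rw [hfd]
      refine le_iSup_of_le ⟨w', ?_⟩ ?_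
      · show w'.asIdeal ≤ w.asIdeal
        rw [← Ideal.map_comap_of_surjective _ hg w'.asIdeal, ← Ideal.map_comap_of_surjective _ hg w.asIdeal]
        exact Ideal.map_mono hle
      · rw [coe_tdim (K := K) w', htd, Nat.cast_le]
        exact he
    · rintro ⟨w₀, hw₀, hw₀'⟩
      have hQ : Q ∈ Set.range (PrimeSpectrum.comap g) := hrange.ge fun z hz => by
        have : z ∈ (c w₀).asIdeal := by
          show Ideal.Quotient.mk I z ∈ w₀.asIdeal
          rw [Ideal.Quotient.eq_zero_iff_mem.2 hz]
          exact zero_mem _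
        rw [hw₀'] at this
        exact this
      obtain ⟨w, rfl⟩ := hQ
      obtain rfl : w₀ = PrimeSpectrum.comap (algebraMap A A') w :=
        PrimeSpectrum.comap_injective_of_surjective _ Ideal.Quotient.mk_surjective (hw₀'.trans (hcomm w).symm)
      have hmem : ∀ q : PrimeSpectrum A', PrimeSpectrum.comap g q ∈
          PrimeSpectrum.comap (algebraMap P Fp) ⁻¹' PrimeSpectrum.zeroLocus (I : Set P) :=
        fun q => hrange.le ⟨q, rfl⟩
      change (e : WithBot ℕ∞) ≤ _ at hw₀
      rw [hfd] at hw₀
      rcases Nat.eq_zero_or_pos e with rfl | he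
      · exact ⟨_, le_rfl, hmem w, Nat.zero_le _⟩
      · by_contra hne
        have hle : (⨆ q : {q : PrimeSpectrum A' // q ≤ w}, ringKrullDim (A' ⧸ q.1.asIdeal)) ≤
            ((e - 1 : ℕ) : WithBot ℕ∞) := iSup_le fun q => by
          rw [coe_tdim (K := K) q.1, Nat.cast_le]
          by_contra hlt
          exact hne ⟨PrimeSpectrum.comap g q.1, Ideal.comap_mono q.2, hmem _, by rw [← htd]; omega⟩
        have := hw₀.trans hle
        rw [Nat.cast_le] at this
        omega

end Groth.Agent.H06EGA12
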