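import Groth.Agent.H06EGA12.Transport
import Mathlib.RingTheory.IsTensorProduct
import Mathlib.RingTheory.Localization.BaseChange
import Mathlib.RingTheory.Localization.LocalizationLocalization
import Mathlib.LinearAlgebra.TensorProduct.Quotient

/-!
# Semilinear comparisons of base changes
-/

set_option autoImplicit false
set_option linter.style.haveILetI false
universe u

open TensorProduct

namespace Groth.Agent.H06EGA12

/-- Two base changes of a module along a surjection are semilinearly isomorphic when the kernel
kills the first. -/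
theorem exists_semilinear {F A O N M L : Type u} [CommRing F] [CommRing A] [CommRing O] [Algebra F A]
    [Algebra F O] [AddCommGroup N] [Module F N] [AddCommGroup M] [Module F M] [Module A M]
    [IsScalarTower F A M] [AddCommGroup L] [Module F L] [Module O L] [IsScalarTower F O L]
    {f : N →ₗ[F] M} (hf : IsBaseChange A f) {g : N →ₗ[F] L} (hg : IsBaseChange O g)
    (φ : A →ₐ[F] O) (hφ : Function.Surjective φ) (hker : ∀ a, φ a = 0 → ∀ m : M, a • m = 0) :
    ∃ e : M ≃+ L, ∀ (a : A) (m : M), e (a • m) = φ a • e m := by
  letI : Algebra A O := φ.toRingHom.toAlgebra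
  letI : Module A L := Module.compHom L φ.toRingHom
  haveI : IsScalarTower A O L := .of_algebraMap_smul fun _ _ => rfl
  haveI : IsScalarTower F A L := .of_algebraMap_smul fun c x => by
    show φ (algebraMap F A c) • x = c • x
    rw [φ.commutes, algebraMap_smul]
  haveI : IsScalarTower F A O := .of_algebraMap_eq fun c => (φ.commutes c).symm
  let h := hf.lift g
  have hgh : IsBaseChange O h := IsBaseChange.of_comp hf (by rw [hf.lift_comp]; exact hg)
  let I := RingHom.ker (algebraMap A O)
  have hI : I • (⊤ : Submodule A M) = ⊥ :=
    le_bot_iff.1 (Submodule.smul_le.2 fun a ha m _ => (Submodule.mem_bot A).2 (hker a ha m))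
  let k : (A ⧸ I) ≃ₗ[A] O := (Ideal.quotientKerAlgEquivOfSurjective (f := Algebra.ofId A O) hφ).toLinearEquiv
  let e₁ : M ≃ₗ[A] O ⊗[A] M := (Submodule.quotEquivOfEqBot _ hI).symm ≪≫ₗ
    (TensorProduct.quotTensorEquivQuotSMul M I).symm ≪≫ₗ LinearEquiv.rTensor M k
  have hone : ∀ m, e₁ m = 1 ⊗ₜ m := by
    intro m
    have h1 : (TensorProduct.quotTensorEquivQuotSMul M I).symm (Submodule.Quotient.mk m) =
        Ideal.Quotient.mk I 1 ⊗ₜ[A] m := by
      rw [LinearEquiv.symm_apply_eq, TensorProduct.quotTensorEquivQuotSMul_mk_tmul, one_smul]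
    show LinearEquiv.rTensor M k ((TensorProduct.quotTensorEquivQuotSMul M I).symm
      ((Submodule.quotEquivOfEqBot _ hI).symm m)) = _
    rw [show (Submodule.quotEquivOfEqBot _ hI).symm m = Submodule.Quotient.mk m from rfl, h1,
      LinearEquiv.rTensor_tmul, show k (Ideal.Quotient.mk I 1) = 1 from
        map_one (Ideal.quotientKerAlgEquivOfSurjective (f := Algebra.ofId A O) hφ)]
  have hbij : Function.Bijective h := by
    have : (h : M → L) = hgh.equiv ∘ e₁ := funext fun m => by
      rw [Function.comp_apply, hone, hgh.equiv_tmul, one_smul]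
    rw [this]
    exact hgh.equiv.bijective.comp e₁.bijective
  exact ⟨AddEquiv.ofBijective h.toAddMonoidHom hbij, fun a m => h.map_smul a m⟩

/-- Localising a localised module at a prime. -/
theorem exists_semilinear_localization {F : Type u} [CommRing F] (N : Type u) [AddCommGroup N]
    [Module F N] (Q : Ideal F) [Q.IsPrime] (P' : Ideal (Localization.AtPrime Q)) [P'.IsPrime] :
    ∃ φ : Localization.AtPrime (P'.comap (algebraMap F (Localization.AtPrime Q))) →+* Localization.AtPrime P',
      Function.Surjective φ ∧
      ∃ e : LocalizedModule (P'.comap (algebraMap F (Localization.AtPrime Q))).primeCompl N ≃+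
          LocalizedModule P'.primeCompl (LocalizedModule Q.primeCompl N),
        ∀ a m, e (a • m) = φ a • e m := by
  let q := P'.comap (algebraMap F (Localization.AtPrime Q))
  let A := Localization.AtPrime P'
  let L := LocalizedModule P'.primeCompl (LocalizedModule Q.primeCompl N)
  haveI : IsLocalization.AtPrime A q :=
    IsLocalization.isLocalization_isLocalization_atPrime_isLocalization Q.primeCompl A P'
  let e := IsLocalization.algEquiv q.primeCompl (Localization.AtPrime q) A
  obtain ⟨l, hl⟩ := exists_semilinear
    (IsLocalizedModule.isBaseChange q.primeCompl (Localization.AtPrime q)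
      (LocalizedModule.mkLinearMap q.primeCompl N))
    ((IsLocalizedModule.isBaseChange Q.primeCompl (Localization.AtPrime Q)
      (LocalizedModule.mkLinearMap Q.primeCompl N)).comp
        (IsLocalizedModule.isBaseChange P'.primeCompl A
          (LocalizedModule.mkLinearMap P'.primeCompl (LocalizedModule Q.primeCompl N))))
    e.toAlgHom e.surjective (fun a ha m => by
      rw [show a = 0 from (map_eq_zero_iff _ e.injective).1 ha, zero_smul])
  exact ⟨e.toAlgHom.toRingHom, e.surjective, l, hl⟩

theorem hasSk_localization_iff {F : Type u} [CommRing F] (N : Type u) [AddCommGroup N] [Module F N]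
    (Q : PrimeSpectrum F) (k : ℕ) :
    LocCoh.HasSk k (Localization.AtPrime Q.asIdeal) (LocalizedModule Q.asIdeal.primeCompl N) ↔
      ∀ Q' : PrimeSpectrum F, Q' ≤ Q →
        min (k : WithBot ℕ∞) (Module.supportDim (Localization.AtPrime Q'.asIdeal)
            (LocalizedModule Q'.asIdeal.primeCompl N)) ≤
          ((LocCoh.depth (Localization.AtPrime Q'.asIdeal) (LocalizedModule Q'.asIdeal.primeCompl N) : ℕ∞) :
            WithBot ℕ∞) := by
  have key : ∀ (P' : Ideal (Localization.AtPrime Q.asIdeal)) [P'.IsPrime],
      LocCoh.depth (Localization.AtPrime P')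
          (LocalizedModule P'.primeCompl (LocalizedModule Q.asIdeal.primeCompl N)) =
        LocCoh.depth (Localization.AtPrime (P'.comap (algebraMap F _)))
          (LocalizedModule (P'.comap (algebraMap F _)).primeCompl N) ∧
      Module.supportDim (Localization.AtPrime P')
          (LocalizedModule P'.primeCompl (LocalizedModule Q.asIdeal.primeCompl N)) =
        Module.supportDim (Localization.AtPrime (P'.comap (algebraMap F _)))
          (LocalizedModule (P'.comap (algebraMap F _)).primeCompl N) := fun P' _ => by
    obtain ⟨φ, hφ, e, he⟩ := exists_semilinear_localization N Q.asIdeal P'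
    exact ⟨(invariants_of_semilinear φ hφ e he).1, (invariants_of_semilinear φ hφ e he).2.1⟩
  constructor
  · intro h Q' hle
    have hdisj : Disjoint (Q.asIdeal.primeCompl : Set F) Q'.asIdeal :=
      Set.disjoint_left.2 fun z hz hz' => hz (hle hz')
    haveI := IsLocalization.isPrime_of_isPrime_disjoint Q.asIdeal.primeCompl
      (Localization.AtPrime Q.asIdeal) Q'.asIdeal Q'.2 hdisj
    have hc := IsLocalization.under_map_of_isPrime_disjoint Q.asIdeal.primeCompl
      (Localization.AtPrime Q.asIdeal) Q'.2 hdisj
    let P' := Q'.asIdeal.map (algebraMap F (Localization.AtPrime Q.asIdeal))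
    have h1 := h P'
    rw [(key P').1, (key P').2] at h1
    have congrp : ∀ (p q : Ideal F) [p.IsPrime] [q.IsPrime], p = q →
        min (k : WithBot ℕ∞) (Module.supportDim (Localization.AtPrime p) (LocalizedModule p.primeCompl N)) ≤
          ((LocCoh.depth (Localization.AtPrime p) (LocalizedModule p.primeCompl N) : ℕ∞) : WithBot ℕ∞) →
        min (k : WithBot ℕ∞) (Module.supportDim (Localization.AtPrime q) (LocalizedModule q.primeCompl N)) ≤
          ((LocCoh.depth (Localization.AtPrime q) (LocalizedModule q.primeCompl N) : ℕ∞) : WithBot ℕ∞) := by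
      rintro p q _ _ rfl hp
      exact hp
    exact congrp _ _ hc h1
  · intro h P' _
    rw [(key P').1, (key P').2]
    refine h ⟨P'.comap (algebraMap F (Localization.AtPrime Q.asIdeal)), Ideal.comap_isPrime _ _⟩ ?_
    show P'.comap (algebraMap F _) ≤ Q.asIdeal
    exact (Ideal.comap_mono (IsLocalRing.le_maximalIdeal (Ideal.IsPrime.ne_top ‹_›))).trans_eq
      (IsLocalization.AtPrime.under_maximalIdeal (Localization.AtPrime Q.asIdeal) Q.asIdeal)

end Groth.Agent.H06EGA12
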