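import Groth.Agent.H06EGA12.FieldFormula
import Groth.Agent.H06EGA12.BaseChangePD
import Groth.Agent.H06EGA12.FibreDimLocus
import Groth.Agent.H06EGA12.Semilinear
import Mathlib.RingTheory.RegularLocalRing.Polynomial
import Mathlib.RingTheory.TensorProduct.MvPolynomial

/-!
# EGA IV 12.1.1 / 12.2.1, affine form: the Cohen–Macaulay and `(S_k)` loci of a flat module
-/

set_option autoImplicit false
set_option linter.style.haveILetI false
universe u

open CategoryTheory
open scoped TensorProduct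

namespace Groth.Agent.H06EGA12

section Field

variable {F : Type u} [CommRing F] (K : Type u) [Field K] [Algebra K F] [Algebra.FiniteType K F]
  [IsDomain F] [IsRegularRing F] {n : ℕ}
  (N : Type u) [AddCommGroup N] [Module F N] [Module.Finite F N]

omit [IsDomain F] [IsRegularRing F] in
include K in
theorem exists_dim_quotient_eq (Q : PrimeSpectrum F) (P' : PrimeSpectrum (Localization.AtPrime Q.asIdeal)) :
    ∃ s : ℕ, ringKrullDim (Localization.AtPrime Q.asIdeal ⧸ P'.asIdeal) = (s : WithBot ℕ∞) ∧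
      s + tdim Q = tdim (PrimeSpectrum.comap (algebraMap F (Localization.AtPrime Q.asIdeal)) P') := by
  set Q' := PrimeSpectrum.comap (algebraMap F (Localization.AtPrime Q.asIdeal)) P' with hQ'
  have hle : Q' ≤ Q := (Ideal.comap_mono (IsLocalRing.le_maximalIdeal P'.2.ne_top)).trans_eq
    (IsLocalization.AtPrime.under_maximalIdeal (Localization.AtPrime Q.asIdeal) Q.asIdeal)
  have hsupp : Module.support F (F ⧸ Q'.asIdeal) = PrimeSpectrum.zeroLocus Q'.asIdeal := by
    rw [Module.support_eq_zeroLocus, Ideal.annihilator_quotient]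
  obtain ⟨s, hs, hse⟩ := exists_supportDim_eq (K := K) (F ⧸ Q'.asIdeal) Q (hsupp ▸ hle)
  refine ⟨s, ?_, le_antisymm ?_ ?_⟩
  · rw [← hs, ← Module.supportDim_quotient_eq_ringKrullDim]
    have h1 : Module.support (Localization.AtPrime Q.asIdeal) (Localization.AtPrime Q.asIdeal ⧸ P'.asIdeal) =
        Module.support (Localization.AtPrime Q.asIdeal) (LocalizedModule Q.asIdeal.primeCompl (F ⧸ Q'.asIdeal)) := by
      ext P
      rw [H4Depth.mem_support_localizedModule_iff Q.asIdeal.primeCompl _ (LocalizedModule.mkLinearMap _ _) P,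
        hsupp, Module.support_eq_zeroLocus, Ideal.annihilator_quotient]
      show P'.asIdeal ≤ P.asIdeal ↔ Q'.asIdeal ≤ (PrimeSpectrum.comap _ P).asIdeal
      rw [show P'.asIdeal = Q'.asIdeal.map (algebraMap F (Localization.AtPrime Q.asIdeal)) from
        (IsLocalization.map_under Q.asIdeal.primeCompl _ P'.asIdeal).symm, Ideal.map_le_iff_le_comap]
      rfl
    unfold Module.supportDim
    rw [h1]
  · obtain ⟨Q'', hle', hsup, he⟩ := (hse (s + tdim Q)).2 le_rfl
    rw [hsupp] at hsup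
    refine he.trans ?_
    have h2 : ringKrullDim (F ⧸ Q''.asIdeal) ≤ ringKrullDim (F ⧸ Q'.asIdeal) :=
      ringKrullDim_le_of_surjective (Ideal.Quotient.factor hsup) (Ideal.Quotient.factor_surjective hsup)
    rw [coe_tdim (K := K), coe_tdim (K := K)] at h2
    exact_mod_cast h2
  · exact (hse _).1 ⟨Q', hle, by rw [hsupp]; exact (fun _ h => h), le_refl _⟩

include K in
/-- Equidimensionality at `Q`. -/
theorem equidim_iff (hn : ringKrullDim F = n) {k : ℕ} (hk : 1 ≤ k) (Q : PrimeSpectrum F)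
    (hSk : SkNum n k N Q) :
    EGA4.IsEquidimModule (Localization.AtPrime Q.asIdeal) (LocalizedModule Q.asIdeal.primeCompl N) ↔
      EquiNum n N Q := by
  let R := Localization.AtPrime Q.asIdeal
  let L := LocalizedModule Q.asIdeal.primeCompl N
  haveI : Module.Finite R L :=
    Module.Finite.of_isLocalizedModule Q.asIdeal.primeCompl (LocalizedModule.mkLinearMap _ N)
  let c := PrimeSpectrum.comap (algebraMap F R)
  have hinj : ∀ P P' : PrimeSpectrum R, c P ≤ c P' ↔ P ≤ P' := fun P P' => by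
    show P.asIdeal.comap _ ≤ P'.asIdeal.comap _ ↔ P.asIdeal ≤ P'.asIdeal
    exact ⟨fun h => (IsLocalization.map_under Q.asIdeal.primeCompl R P.asIdeal).ge.trans
      ((Ideal.map_mono h).trans (IsLocalization.map_under Q.asIdeal.primeCompl R P'.asIdeal).le),
      Ideal.comap_mono⟩
  have hle : ∀ P, c P ≤ Q := fun P => (Ideal.comap_mono (IsLocalRing.le_maximalIdeal P.2.ne_top)).trans_eq
    (IsLocalization.AtPrime.under_maximalIdeal R Q.asIdeal)
  have hex : ∀ Q' : PrimeSpectrum F, Q' ≤ Q → ∃ P, c P = Q' := fun Q' h => by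
    have hdisj : Disjoint (Q.asIdeal.primeCompl : Set F) Q'.asIdeal :=
      Set.disjoint_left.2 fun z hz hz' => hz (h hz')
    exact ⟨⟨Q'.asIdeal.map (algebraMap F R),
      IsLocalization.isPrime_of_isPrime_disjoint Q.asIdeal.primeCompl R Q'.asIdeal Q'.2 hdisj⟩,
      PrimeSpectrum.ext (IsLocalization.under_map_of_isPrime_disjoint Q.asIdeal.primeCompl R Q'.2 hdisj)⟩
  have hmem : ∀ P, P ∈ Module.support R L ↔ c P ∈ Module.support F N := fun P =>
    H4Depth.mem_support_localizedModule_iff Q.asIdeal.primeCompl _ (LocalizedModule.mkLinearMap _ _) P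
  have hmin : ∀ P : PrimeSpectrum R, P.asIdeal ∈ (Module.annihilator R L).minimalPrimes ↔
      (c P ≤ Q ∧ Minimal (· ∈ Module.support F N) (c P)) := by
    intro P
    constructor
    · intro h
      refine ⟨hle P, (hmem P).1 (by rw [Module.support_eq_zeroLocus]; exact h.1.2), fun Q' hQ' hle' => ?_⟩
      obtain ⟨P', rfl⟩ := hex Q' (hle'.trans (hle P))
      have : (Module.annihilator R L) ≤ P'.asIdeal := by
        have := (hmem P').2 hQ'
        rwa [Module.support_eq_zeroLocus] at this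
      exact (hinj _ _).2 (h.2 ⟨P'.2, this⟩ ((hinj _ _).1 hle'))
    · rintro ⟨-, hsup, hmin⟩
      have h1 := (hmem P).2 hsup
      rw [Module.support_eq_zeroLocus] at h1
      refine ⟨⟨P.2, h1⟩, fun J hJ hJP => ?_⟩
      have h2 : (⟨J, hJ.1⟩ : PrimeSpectrum R) ∈ Module.support R L := by
        rw [Module.support_eq_zeroLocus]; exact hJ.2
      exact (hinj P ⟨J, hJ.1⟩).1 (hmin ((hmem _).1 h2) ((hinj ⟨J, hJ.1⟩ P).2 hJP))
  by_cases hQ : Q ∈ Module.support F N
  · obtain ⟨inv⟩ := nonempty_inv K hn N Q hQ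
    have hkey : EGA4.IsEquidimModule R L ↔
        ∀ Q', Q' ≤ Q → Minimal (· ∈ Module.support F N) Q' → tdim Q' = inv.s + tdim Q := by
      constructor
      · intro h Q' hQ'le hm
        obtain ⟨P, rfl⟩ := hex Q' hQ'le
        obtain ⟨s, hs, hst⟩ := exists_dim_quotient_eq K Q P
        have h1 := h P.asIdeal ((hmin P).2 ⟨hQ'le, hm⟩)
        rw [hs, inv.sdim_eq] at h1
        have : s = inv.s := by exact_mod_cast h1
        rw [← hst, this]
      · intro h p hp
        haveI := hp.1.1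
        obtain ⟨hQ'le, hm⟩ := (hmin ⟨p, hp.1.1⟩).1 hp
        obtain ⟨s, hs, hst⟩ := exists_dim_quotient_eq K Q ⟨p, hp.1.1⟩
        rw [inv.sdim_eq, show ringKrullDim (R ⧸ p) = s from hs]
        have := h _ hQ'le hm
        rw [← hst] at this
        rw [show s = inv.s by omega]
    rw [hkey]
    constructor
    · intro h e e' he he'
      obtain ⟨Q₁, h1, h1m, rfl⟩ := (dimOn_compSet_iff K N hn hk Q hSk e).1 he
      obtain ⟨Q₂, h2, h2m, rfl⟩ := (dimOn_compSet_iff K N hn hk Q hSk e').1 he'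
      rw [h Q₁ h1 h1m, h Q₂ h2 h2m]
    · intro h Q' hQ'le hm
      obtain ⟨Q'', hle'', hsup'', he''⟩ := (inv.dimOn_iff (inv.s + tdim Q)).2 le_rfl
      have hup := (inv.dimOn_iff (tdim Q')).1 ⟨Q', hQ'le, hm.1, le_rfl⟩
      haveI : IsNoetherianRing F := Algebra.FiniteType.isNoetherianRing K F
      obtain ⟨p, hp, hpQ⟩ := Ideal.exists_minimalPrimes_le
        (show Module.annihilator F N ≤ Q''.asIdeal by rwa [Module.support_eq_zeroLocus] at hsup'')
      have hpmin : Minimal (· ∈ Module.support F N) (⟨p, hp.1.1⟩ : PrimeSpectrum F) := by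
        refine ⟨by rw [Module.support_eq_zeroLocus]; exact hp.1.2, fun y hy hle' => ?_⟩
        rw [Module.support_eq_zeroLocus] at hy
        exact hp.2 ⟨y.2, hy⟩ hle'
      have h3 : tdim Q'' ≤ tdim (⟨p, hp.1.1⟩ : PrimeSpectrum F) := by
        have h2 : ringKrullDim (F ⧸ Q''.asIdeal) ≤ ringKrullDim (F ⧸ p) :=
          ringKrullDim_le_of_surjective (Ideal.Quotient.factor hpQ) (Ideal.Quotient.factor_surjective hpQ)
        rw [coe_tdim (K := K), show ringKrullDim (F ⧸ p) = _ from coe_tdim (K := K) ⟨p, hp.1.1⟩] at h2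
        exact_mod_cast h2
      have h4 := h _ _ ((dimOn_compSet_iff K N hn hk Q hSk _).2 ⟨Q', hQ'le, hm, rfl⟩)
        ((dimOn_compSet_iff K N hn hk Q hSk _).2 ⟨⟨p, hp.1.1⟩, hpQ.trans hle'', hpmin, rfl⟩)
      omega
  · haveI : Subsingleton L := Module.notMem_support_iff.1 hQ
    refine iff_of_true (fun p hp => ?_) fun e e' he _ => ?_
    · have : Module.annihilator R L = ⊤ := Module.annihilator_eq_top_iff.2 inferInstance
      exact absurd (top_le_iff.1 (this ▸ hp.1.2)) hp.1.1.ne_top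
    · obtain ⟨Q', hle', hmem', -⟩ := he
      exact absurd (Module.mem_support_mono hle' hmem'.1) hQ

end Field

section Loci

set_option maxSynthPendingDepth 4
set_option maxHeartbeats 1000000

variable {R : Type u} [CommRing R] {n : ℕ}

theorem polynomial_fibre (K : Type u) [Field K] [Algebra R K] :
    letI : Algebra K ((MvPolynomial (Fin n) R) ⊗[R] K) := Algebra.TensorProduct.rightAlgebra
    Algebra.FiniteType K ((MvPolynomial (Fin n) R) ⊗[R] K) ∧ IsDomain ((MvPolynomial (Fin n) R) ⊗[R] K) ∧ IsRegularRing ((MvPolynomial (Fin n) R) ⊗[R] K) ∧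
      ringKrullDim ((MvPolynomial (Fin n) R) ⊗[R] K) = n := by
  letI : Algebra K ((MvPolynomial (Fin n) R) ⊗[R] K) := Algebra.TensorProduct.rightAlgebra
  let e : MvPolynomial (Fin n) K ≃ₐ[K] (MvPolynomial (Fin n) R) ⊗[R] K :=
    (MvPolynomial.algebraTensorAlgEquiv (σ := Fin n) R K).symm.trans (Algebra.TensorProduct.commRight R K (MvPolynomial (Fin n) R))
  refine ⟨Algebra.FiniteType.equiv inferInstance e, e.symm.toRingEquiv.toMulEquiv.isDomain, IsRegularRing.of_ringEquiv e.toRingEquiv, ?_⟩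
  rw [← ringKrullDim_eq_of_ringEquiv e.toRingEquiv, MvPolynomial.ringKrullDim_of_isNoetherianRing,
    ringKrullDim_eq_zero_of_field, zero_add]
  simp

variable (M : Type u) [AddCommGroup M] [Module (MvPolynomial (Fin n) R) M] [Module R M] [IsScalarTower R (MvPolynomial (Fin n) R) M]
  [Module.FinitePresentation (MvPolynomial (Fin n) R) M] [Module.Flat R M]

/-- An open set cutting out a property of the fibres, uniformly in the field. -/
def Cuts (S : Set (PrimeSpectrum (MvPolynomial (Fin n) R)))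
    (p : ∀ (K : Type u) [Field K] [Algebra R K], PrimeSpectrum ((MvPolynomial (Fin n) R) ⊗[R] K) → Prop) : Prop :=
  ∀ (K : Type u) [Field K] [Algebra R K] (Q : PrimeSpectrum ((MvPolynomial (Fin n) R) ⊗[R] K)),
    p K Q ↔ PrimeSpectrum.comap (algebraMap (MvPolynomial (Fin n) R) ((MvPolynomial (Fin n) R) ⊗[R] K)) Q ∈ S

theorem cuts_support : Cuts (Module.support (MvPolynomial (Fin n) R) M)
    fun K _ _ Q => Q ∈ Module.support ((MvPolynomial (Fin n) R) ⊗[R] K) (((MvPolynomial (Fin n) R) ⊗[R] K) ⊗[(MvPolynomial (Fin n) R)] M) :=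
  fun _ _ _ Q => mem_support_baseChange_iff M Q

theorem pd_le_n (K : Type u) [Field K] [Algebra R K] (Q : PrimeSpectrum ((MvPolynomial (Fin n) R) ⊗[R] K))
    (hQ : Q ∈ Module.support ((MvPolynomial (Fin n) R) ⊗[R] K) (((MvPolynomial (Fin n) R) ⊗[R] K) ⊗[(MvPolynomial (Fin n) R)] M)) {m : ℕ}
    (hm : Q ∉ H4LC.pdLocus (A := (MvPolynomial (Fin n) R) ⊗[R] K) (((MvPolynomial (Fin n) R) ⊗[R] K) ⊗[(MvPolynomial (Fin n) R)] M) m) : m < n := by
  letI : Algebra K ((MvPolynomial (Fin n) R) ⊗[R] K) := Algebra.TensorProduct.rightAlgebra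
  obtain ⟨_, _, _, h4⟩ := polynomial_fibre (R := R) (n := n) K
  obtain ⟨inv⟩ := nonempty_inv K h4 _ Q hQ
  by_contra hge
  have := inv.formula
  exact hm ((inv.pd_iff m).2 (by omega))

theorem exists_open_cmNum : ∃ U : Set (PrimeSpectrum (MvPolynomial (Fin n) R)), IsOpen U ∧
    Cuts U fun K _ _ Q => CMNum n (((MvPolynomial (Fin n) R) ⊗[R] K) ⊗[(MvPolynomial (Fin n) R)] M) Q := by
  choose U hUo hU using fun m => exists_open_pdLocus R (MvPolynomial (Fin n) R) m M
  choose T hTc hT using fun e => exists_closed_dimOn R (MvPolynomial (Fin n) R) _ (isClosed_support M) e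
  let s := (Finset.range (n + 1) ×ˢ Finset.range (n + 1)).filter fun x => n < x.1 + x.2 + 1
  refine ⟨(⋃ x ∈ s, T x.1 ∩ (U x.2)ᶜ)ᶜ,
    (isClosed_biUnion_finset fun x _ => (hTc x.1).inter (hUo x.2).isClosed_compl).isOpen_compl,
    fun K _ _ Q => ?_⟩
  have hsupp : PrimeSpectrum.comap (algebraMap (MvPolynomial (Fin n) R) ((MvPolynomial (Fin n) R) ⊗[R] K)) ⁻¹' Module.support (MvPolynomial (Fin n) R) M =
      Module.support ((MvPolynomial (Fin n) R) ⊗[R] K) (((MvPolynomial (Fin n) R) ⊗[R] K) ⊗[(MvPolynomial (Fin n) R)] M) :=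
    Set.ext fun Q' => (cuts_support M K Q').symm
  simp only [Set.mem_compl_iff, Set.mem_iUnion, Set.mem_inter_iff, not_exists, not_and, not_not]
  letI : Algebra K ((MvPolynomial (Fin n) R) ⊗[R] K) := Algebra.TensorProduct.rightAlgebra
  obtain ⟨_, _, _, h4⟩ := polynomial_fibre (R := R) (n := n) K
  constructor
  · intro h x hx hxT
    by_contra hxU
    have h1 := h x.1 x.2 (hsupp ▸ (hT x.1 K Q).2 hxT) (fun hm => hxU ((hU x.2 K Q).1 hm))
    simp only [s, Finset.mem_filter] at hx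
    omega
  · intro h e m he hm
    by_contra hlt
    have hsQ := mem_support_of_dimOn _ he
    have hmn := pd_le_n M K Q hsQ hm
    obtain ⟨inv⟩ := nonempty_inv K h4 _ Q hsQ
    have := (inv.dimOn_iff e).1 he
    have := inv.s_le
    exact hm ((hU m K Q).2 (h (e, m) (by simp [s]; omega) ((hT e K Q).1 (hsupp.symm ▸ he))))

theorem exists_open_skNum (k : ℕ) : ∃ U : Set (PrimeSpectrum (MvPolynomial (Fin n) R)), IsOpen U ∧
    Cuts U fun K _ _ Q => SkNum n k (((MvPolynomial (Fin n) R) ⊗[R] K) ⊗[(MvPolynomial (Fin n) R)] M) Q := by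
  choose U hUo hU using fun m => exists_open_pdLocus R (MvPolynomial (Fin n) R) m M
  obtain ⟨C, hCo, hC⟩ := exists_open_cmNum (R := R) (n := n) M
  choose T hTc hT using fun (m e : ℕ) => exists_closed_dimOn R (MvPolynomial (Fin n) R)
    (Module.support (MvPolynomial (Fin n) R) M ∩ Cᶜ ∩ (U m)ᶜ)
    (((isClosed_support M).inter hCo.isClosed_compl).inter (hUo m).isClosed_compl) e
  let s := (Finset.range (n + 1) ×ˢ Finset.range (n + 1)).filter fun x => n < x.1 + x.2 + 1 + k
  refine ⟨(⋃ x ∈ s, T x.2 x.1)ᶜ,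
    (isClosed_biUnion_finset fun x _ => hTc x.2 x.1).isOpen_compl, fun K _ _ Q => ?_⟩
  have hset : ∀ m, PrimeSpectrum.comap (algebraMap (MvPolynomial (Fin n) R) ((MvPolynomial (Fin n) R) ⊗[R] K)) ⁻¹'
      (Module.support (MvPolynomial (Fin n) R) M ∩ Cᶜ ∩ (U m)ᶜ) = badSet n (((MvPolynomial (Fin n) R) ⊗[R] K) ⊗[(MvPolynomial (Fin n) R)] M) m := fun m => by
    ext Q'
    simp only [badSet, Set.mem_preimage, Set.mem_inter_iff, Set.mem_compl_iff, Set.mem_setOf_eq,
      cuts_support M K Q', hC K Q', hU m K Q', and_assoc]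
  simp only [Set.mem_compl_iff, Set.mem_iUnion, not_exists]
  letI : Algebra K ((MvPolynomial (Fin n) R) ⊗[R] K) := Algebra.TensorProduct.rightAlgebra
  obtain ⟨_, _, _, h4⟩ := polynomial_fibre (R := R) (n := n) K
  constructor
  · intro h x hx hxT
    have h1 := h x.1 x.2 (hset x.2 ▸ (hT x.2 x.1 K Q).2 hxT)
    simp only [s, Finset.mem_filter] at hx
    omega
  · rintro h e m ⟨Q', hle, hbad, he⟩
    by_contra hlt
    have hmn := pd_le_n M K Q' hbad.1 hbad.2.2
    obtain ⟨inv⟩ := nonempty_inv K h4 _ Q' hbad.1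
    have := inv.s_le
    exact h (e, m) (by simp [s]; omega) ((hT m e K Q).1 ((hset m).symm ▸ ⟨Q', hle, hbad, he⟩))

theorem exists_open_equiNum (k : ℕ) : ∃ U : Set (PrimeSpectrum (MvPolynomial (Fin n) R)), IsOpen U ∧
    Cuts U fun K _ _ Q => SkNum n k (((MvPolynomial (Fin n) R) ⊗[R] K) ⊗[(MvPolynomial (Fin n) R)] M) Q ∧ EquiNum n (((MvPolynomial (Fin n) R) ⊗[R] K) ⊗[(MvPolynomial (Fin n) R)] M) Q := by
  choose U hUo hU using fun m => exists_open_pdLocus R (MvPolynomial (Fin n) R) m M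
  obtain ⟨S, hSo, hS⟩ := exists_open_skNum (R := R) (n := n) M k
  choose T hTc hT using fun e => exists_closed_dimOn R (MvPolynomial (Fin n) R)
    (Module.support (MvPolynomial (Fin n) R) M ∩ ⋂ m ∈ {m | m + e < n}, (U m)ᶜ)
    ((isClosed_support M).inter (isClosed_biInter fun m _ => (hUo m).isClosed_compl)) e
  let s := (Finset.range (n + 1) ×ˢ Finset.range (n + 1)).filter fun x => x.1 ≠ x.2
  refine ⟨S ∩ (⋃ x ∈ s, T x.1 ∩ T x.2)ᶜ,
    hSo.inter (isClosed_biUnion_finset fun x _ => (hTc x.1).inter (hTc x.2)).isOpen_compl,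
    fun K _ _ Q => ?_⟩
  have hset : ∀ e, PrimeSpectrum.comap (algebraMap (MvPolynomial (Fin n) R) ((MvPolynomial (Fin n) R) ⊗[R] K)) ⁻¹'
      (Module.support (MvPolynomial (Fin n) R) M ∩ ⋂ m ∈ {m | m + e < n}, (U m)ᶜ) = compSet n (((MvPolynomial (Fin n) R) ⊗[R] K) ⊗[(MvPolynomial (Fin n) R)] M) e := fun e => by
    ext Q'
    simp only [compSet, Set.mem_preimage, Set.mem_inter_iff, Set.mem_iInter, Set.mem_compl_iff,
      Set.mem_setOf_eq, cuts_support M K Q', hU _ K Q']
  simp only [Set.mem_inter_iff, Set.mem_compl_iff, Set.mem_iUnion, not_exists, hS K Q]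
  letI : Algebra K ((MvPolynomial (Fin n) R) ⊗[R] K) := Algebra.TensorProduct.rightAlgebra
  obtain ⟨_, _, _, h4⟩ := polynomial_fibre (R := R) (n := n) K
  refine and_congr_right fun _ => ⟨fun h x hx hxT => ?_, fun h e e' he he' => ?_⟩
  · have h1 := h x.1 x.2 (hset x.1 ▸ (hT x.1 K Q).2 hxT.1) (hset x.2 ▸ (hT x.2 K Q).2 hxT.2)
    simp only [s, Finset.mem_filter] at hx
    exact hx.2 h1
  · by_contra hne
    have hn' : ∀ e, DimOn (compSet n (((MvPolynomial (Fin n) R) ⊗[R] K) ⊗[(MvPolynomial (Fin n) R)] M) e) Q e → e ≤ n := by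
      rintro e ⟨Q', -, ⟨hsup, -⟩, he⟩
      obtain ⟨inv⟩ := nonempty_inv K h4 _ Q' hsup
      have := inv.s_le
      omega
    have := hn' e he
    have := hn' e' he'
    exact h (e, e') (by simp [s]; omega)
      ⟨(hT e K Q).1 ((hset e).symm ▸ he), (hT e' K Q).1 ((hset e').symm ▸ he')⟩

/-- EGA IV 12.2.1, affine form: the fibrewise Cohen–Macaulay locus of a flat module is open. -/
theorem exists_open_cm : ∃ U : Set (PrimeSpectrum (MvPolynomial (Fin n) R)), IsOpen U ∧ Cuts U fun K _ _ Q =>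
    Subsingleton (LocalizedModule Q.asIdeal.primeCompl (((MvPolynomial (Fin n) R) ⊗[R] K) ⊗[(MvPolynomial (Fin n) R)] M)) ∨
      LocCoh.IsCohenMacaulayModule (Localization.AtPrime Q.asIdeal)
        (LocalizedModule Q.asIdeal.primeCompl (((MvPolynomial (Fin n) R) ⊗[R] K) ⊗[(MvPolynomial (Fin n) R)] M)) := by
  obtain ⟨U, hUo, hU⟩ := exists_open_cmNum (R := R) (n := n) M
  refine ⟨U, hUo, fun K _ _ Q => ?_⟩
  letI : Algebra K ((MvPolynomial (Fin n) R) ⊗[R] K) := Algebra.TensorProduct.rightAlgebra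
  obtain ⟨_, _, _, h4⟩ := polynomial_fibre (R := R) (n := n) K
  exact (cm_iff K _ h4 Q).trans (hU K Q)

/-- EGA IV 12.1.6, affine form: the fibrewise `(S_k)` locus of a flat module is open. -/
theorem exists_open_hasSk (k : ℕ) : ∃ U : Set (PrimeSpectrum (MvPolynomial (Fin n) R)), IsOpen U ∧ Cuts U fun K _ _ Q =>
    LocCoh.HasSk k (Localization.AtPrime Q.asIdeal)
      (LocalizedModule Q.asIdeal.primeCompl (((MvPolynomial (Fin n) R) ⊗[R] K) ⊗[(MvPolynomial (Fin n) R)] M)) := by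
  obtain ⟨U, hUo, hU⟩ := exists_open_skNum (R := R) (n := n) M k
  refine ⟨U, hUo, fun K _ _ Q => ?_⟩
  letI : Algebra K ((MvPolynomial (Fin n) R) ⊗[R] K) := Algebra.TensorProduct.rightAlgebra
  obtain ⟨_, _, _, h4⟩ := polynomial_fibre (R := R) (n := n) K
  exact ((hasSk_localization_iff _ Q k).trans (skNum_iff K _ h4 k Q)).trans (hU K Q)

/-- EGA IV 12.1.1, affine form. -/
theorem exists_open_equidim (k : ℕ) (hk : 1 ≤ k) : ∃ U : Set (PrimeSpectrum (MvPolynomial (Fin n) R)), IsOpen U ∧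
    Cuts U fun K _ _ Q =>
      EGA4.IsEquidimModule (Localization.AtPrime Q.asIdeal)
          (LocalizedModule Q.asIdeal.primeCompl (((MvPolynomial (Fin n) R) ⊗[R] K) ⊗[(MvPolynomial (Fin n) R)] M)) ∧
        LocCoh.HasSk k (Localization.AtPrime Q.asIdeal)
          (LocalizedModule Q.asIdeal.primeCompl (((MvPolynomial (Fin n) R) ⊗[R] K) ⊗[(MvPolynomial (Fin n) R)] M)) := by
  obtain ⟨U, hUo, hU⟩ := exists_open_equiNum (R := R) (n := n) M k
  refine ⟨U, hUo, fun K _ _ Q => ?_⟩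
  letI : Algebra K ((MvPolynomial (Fin n) R) ⊗[R] K) := Algebra.TensorProduct.rightAlgebra
  obtain ⟨_, _, _, h4⟩ := polynomial_fibre (R := R) (n := n) K
  refine Iff.trans ?_ (hU K Q)
  beta_reduce
  rw [hasSk_localization_iff _ Q k, skNum_iff K _ h4 k Q, and_comm]
  exact and_congr_right fun h => equidim_iff K _ h4 hk Q h

end Loci

end Groth.Agent.H06EGA12
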