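import Groth.Agent.H06EGA12.AffineLoci
import Groth.Agent.H1CAlg.Associated

/-!
# EGA IV 12.1.1 (i), (ii), (iv), (vi): depth, codepth and associated points, affine form
-/

set_option autoImplicit false
set_option linter.style.haveILetI false
universe u

open IsLocalRing
open scoped TensorProduct

namespace Groth.Agent.H06EGA12

section Field

variable {F : Type u} [CommRing F] (K : Type u) [Field K] [Algebra K F] [Algebra.FiniteType K F]
  [IsDomain F] [IsRegularRing F] {n : ℕ}
  (N : Type u) [AddCommGroup N] [Module F N] [Module.Finite F N]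

include K in
theorem le_depth_add_iff (hn : ringKrullDim F = n) (Q : PrimeSpectrum F) (N₀ : ℕ) :
    (N₀ : WithBot ℕ∞) ≤ ((LocCoh.depth (Localization.AtPrime Q.asIdeal)
        (LocalizedModule Q.asIdeal.primeCompl N) : ℕ∞) : WithBot ℕ∞) + (tdim Q : WithBot ℕ∞) ↔
      (Q ∈ Module.support F N → N₀ ≤ n ∧ Q ∈ H4LC.pdLocus (A := F) N (n - N₀)) := by
  by_cases hQ : Q ∈ Module.support F N
  · obtain ⟨inv⟩ := nonempty_inv K hn N Q hQ
    have hf := inv.formula
    rw [inv.depth_eq, imp_iff_right hQ, inv.pd_iff]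
    have h1 : (((inv.d : ℕ∞) : WithBot ℕ∞) + (tdim Q : WithBot ℕ∞)) = ((inv.d + tdim Q : ℕ) : WithBot ℕ∞) := by
      push_cast; rfl
    rw [h1, Nat.cast_le]
    omega
  · haveI : Subsingleton (LocalizedModule Q.asIdeal.primeCompl N) := Module.notMem_support_iff.1 hQ
    rw [LocCoh.depth, show LocCoh.idealDepth _ (LocalizedModule Q.asIdeal.primeCompl N) = ⊤ from
      H4Depth.idealDepth_eq_top (Subsingleton.elim _ _)]
    exact iff_of_true le_top fun h => absurd h hQ

include K in
theorem supportDim_le_depth_add_iff (hn : ringKrullDim F = n) (Q : PrimeSpectrum F) (k : ℕ) :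
    Module.supportDim (Localization.AtPrime Q.asIdeal) (LocalizedModule Q.asIdeal.primeCompl N) ≤
        ((LocCoh.depth (Localization.AtPrime Q.asIdeal) (LocalizedModule Q.asIdeal.primeCompl N) : ℕ∞) :
          WithBot ℕ∞) + k ↔
      ∀ e m, DimOn (Module.support F N) Q e → Q ∉ H4LC.pdLocus (A := F) N m → e + m + 1 ≤ n + k := by
  by_cases hQ : Q ∈ Module.support F N
  · obtain ⟨inv⟩ := nonempty_inv K hn N Q hQ
    have hf := inv.formula
    have hs := inv.s_le
    have h1 : (((inv.d : ℕ∞) : WithBot ℕ∞) + (k : WithBot ℕ∞)) = ((inv.d + k : ℕ) : WithBot ℕ∞) := by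
      push_cast; rfl
    rw [inv.depth_eq, inv.sdim_eq, h1, Nat.cast_le]
    constructor
    · intro h e m he hm
      have := (inv.dimOn_iff e).1 he
      have : ¬ inv.pd ≤ m := fun hle => hm ((inv.pd_iff m).2 hle)
      omega
    · intro h
      by_contra hlt
      have := h (inv.s + tdim Q) (inv.pd - 1) ((inv.dimOn_iff _).2 le_rfl) (fun hm => by
        have := (inv.pd_iff _).1 hm
        omega)
      omega
  · haveI : Subsingleton (LocalizedModule Q.asIdeal.primeCompl N) := Module.notMem_support_iff.1 hQ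
    rw [Module.supportDim_eq_bot_of_subsingleton]
    exact iff_of_true bot_le fun e m he => absurd (mem_support_of_dimOn N he) hQ

/-- `Q` is an associated point. -/
def IsAssPt (N : Type u) [AddCommGroup N] [Module F N] (Q : PrimeSpectrum F) : Prop :=
  IsAssociatedPrime (maximalIdeal (Localization.AtPrime Q.asIdeal)) (LocalizedModule Q.asIdeal.primeCompl N)

include K in
theorem isAssPt_iff (hn : ringKrullDim F = n) (Q : PrimeSpectrum F) :
    IsAssPt N Q ↔ ∃ inv : Inv (F := F) N n Q, inv.d = 0 := by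
  haveI : IsNoetherianRing F := Algebra.FiniteType.isNoetherianRing K F
  have h : IsAssPt N Q ↔ Q.asIdeal ∈ associatedPrimes F N :=
    H1CAlg.maximalIdeal_mem_associatedPrimes_localization_iff (M := N) Q.asIdeal
  rw [h]
  constructor
  · intro hQ
    have hs : Q ∈ Module.support F N := H4Depth.mem_support_of_mem_associatedPrimes hQ
    obtain ⟨inv⟩ := nonempty_inv K hn N Q hs
    haveI := Module.mem_support_iff.1 hs
    have := (H1CAlg.depth_localization_eq_zero_iff Q.asIdeal).2 hQ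
    rw [inv.depth_eq] at this
    exact ⟨inv, by exact_mod_cast this⟩
  · rintro ⟨inv, hd⟩
    haveI : Nontrivial (LocalizedModule Q.asIdeal.primeCompl N) := by
      by_contra hc
      haveI := not_nontrivial_iff_subsingleton.1 hc
      have := inv.sdim_eq
      rw [Module.supportDim_eq_bot_of_subsingleton] at this
      simp at this
    exact (H1CAlg.depth_localization_eq_zero_iff Q.asIdeal).1 (by rw [inv.depth_eq, hd]; rfl)

include K in
theorem dimOn_compSet_iff_isAssPt (hn : ringKrullDim F = n) (Q : PrimeSpectrum F) (e : ℕ) :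
    DimOn (compSet n N e) Q e ↔ ∃ Q', Q' ≤ Q ∧ IsAssPt N Q' ∧ tdim Q' = e := by
  constructor
  · rintro ⟨Q', hle, ⟨hsup, hpd⟩, he⟩
    obtain ⟨inv⟩ := nonempty_inv K hn N Q' hsup
    have hf := inv.formula
    have h1 : n ≤ inv.pd + e := by
      by_contra hlt
      exact hpd inv.pd (by omega) ((inv.pd_iff _).2 le_rfl)
    exact ⟨Q', hle, (isAssPt_iff K N hn Q').2 ⟨inv, by omega⟩, by omega⟩
  · rintro ⟨Q', hle, hass, rfl⟩
    obtain ⟨inv, hd⟩ := (isAssPt_iff K N hn Q').1 hass
    have hf := inv.formula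
    have hsup : Q' ∈ Module.support F N := by
      obtain ⟨Q'', hle', h, -⟩ := (inv.dimOn_iff 0).2 (Nat.zero_le _)
      exact Module.mem_support_mono hle' h
    refine ⟨Q', hle, ⟨hsup, fun m hm hmem => ?_⟩, le_rfl⟩
    have := (inv.pd_iff m).1 hmem
    omega

include K in
theorem noEmbedded_iff_skNum_one (hn : ringKrullDim F = n) (Q : PrimeSpectrum F) :
    (∀ Q', Q' ≤ Q → IsAssPt N Q' → ∀ Q'', Q'' ≤ Q' → IsAssPt N Q'' → Q'' = Q') ↔ SkNum n 1 N Q := by
  haveI : IsNoetherianRing F := Algebra.FiniteType.isNoetherianRing K F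
  have hmin : ∀ Q' Q'' : PrimeSpectrum F, Q'' ≤ Q' → ∀ inv : Inv (F := F) N n Q', inv.s = 0 →
      Q'' ∈ Module.support F N → Q'' = Q' := by
    intro Q' Q'' hle inv hs hsup
    have h1 := (inv.dimOn_iff (tdim Q'')).1 ⟨Q'', hle, hsup, le_rfl⟩
    by_contra hne
    have hlt : Q''.asIdeal < Q'.asIdeal := lt_of_le_of_ne hle fun h => hne (PrimeSpectrum.ext h)
    obtain ⟨h', hh', ht'⟩ := exists_height_eq K hn Q'
    obtain ⟨h'', hh'', ht''⟩ := exists_height_eq K hn Q''
    rw [IsLocalization.AtPrime.ringKrullDim_eq_height Q'.asIdeal] at hh'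
    rw [IsLocalization.AtPrime.ringKrullDim_eq_height Q''.asIdeal] at hh''
    haveI := Q'.2
    haveI := Q''.2
    have h4 : (Q''.asIdeal.height : WithBot ℕ∞) < Q'.asIdeal.height :=
      WithBot.coe_lt_coe.2 (Ideal.height_strict_mono_of_isPrime hlt)
    rw [hh', hh''] at h4
    have : h'' < h' := by exact_mod_cast h4
    omega
  rw [← skNum_iff K N hn 1 Q]
  constructor
  · intro h Q' hle
    by_cases hsup : Q' ∈ Module.support F N
    · obtain ⟨inv⟩ := nonempty_inv K hn N Q' hsup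
      rw [inv.sdim_eq, inv.depth_eq, min_le_iff]
      rcases Nat.eq_zero_or_pos inv.d with hd | hd
      · obtain ⟨p, hp, hpQ⟩ := Ideal.exists_minimalPrimes_le
          (show Module.annihilator F N ≤ Q'.asIdeal by rwa [Module.support_eq_zeroLocus] at hsup)
        have hpsup : (⟨p, hp.1.1⟩ : PrimeSpectrum F) ∈ Module.support F N := by
          rw [Module.support_eq_zeroLocus]; exact hp.1.2
        obtain ⟨inv'⟩ := nonempty_inv K hn N _ hpsup
        have hs' : inv'.s = 0 := by
          obtain ⟨R, hR, hRs, hRe⟩ := (inv'.dimOn_iff (inv'.s + tdim (⟨p, hp.1.1⟩ : PrimeSpectrum F))).2 le_rfl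
          have : R = ⟨p, hp.1.1⟩ := le_antisymm hR (hp.2 ⟨R.2, by rwa [Module.support_eq_zeroLocus] at hRs⟩ hR)
          subst this
          omega
        have hd' : inv'.d = 0 := Nat.le_zero.1 (hs' ▸ inv'.d_le)
        have e := h Q' hle ((isAssPt_iff K N hn Q').2 ⟨inv, hd⟩) _ hpQ ((isAssPt_iff K N hn _).2 ⟨inv', hd'⟩)
        subst e
        have h1 := inv.sdim_eq
        rw [inv'.sdim_eq] at h1
        have : inv'.s = inv.s := by exact_mod_cast h1
        exact .inr (by exact_mod_cast (show inv.s ≤ inv.d by omega))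
      · exact .inl (by exact_mod_cast (show 1 ≤ inv.d by omega))
    · haveI := Module.notMem_support_iff.1 hsup
      rw [Module.supportDim_eq_bot_of_subsingleton]
      simp
  · intro h Q' hle hass Q'' hle' hass'
    obtain ⟨inv, hd⟩ := (isAssPt_iff K N hn Q').1 hass
    have h1 := h Q' hle
    rw [inv.sdim_eq, inv.depth_eq, hd, min_le_iff] at h1
    have hs : inv.s = 0 := by
      rcases h1 with h1 | h1
      · exact absurd (show (1 : ℕ) ≤ 0 by exact_mod_cast h1) (by omega)
      · exact Nat.le_zero.1 (by exact_mod_cast h1)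
    obtain ⟨inv'', -⟩ := (isAssPt_iff K N hn Q'').1 hass'
    obtain ⟨R, hR, hRs, -⟩ := (inv''.dimOn_iff 0).2 (Nat.zero_le _)
    exact hmin Q' Q'' hle' inv hs (Module.mem_support_mono hR hRs)

end Field

section Loci

set_option maxSynthPendingDepth 4
set_option maxHeartbeats 1000000

variable {R : Type u} [CommRing R] {n : ℕ}
  (M : Type u) [AddCommGroup M] [Module (MvPolynomial (Fin n) R) M] [Module R M]
  [IsScalarTower R (MvPolynomial (Fin n) R) M]
  [Module.FinitePresentation (MvPolynomial (Fin n) R) M] [Module.Flat R M]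

theorem exists_open_le_depth_add (N₀ : ℕ) :
    ∃ U : Set (PrimeSpectrum (MvPolynomial (Fin n) R)), IsOpen U ∧ Cuts U fun K _ _ Q =>
      (N₀ : WithBot ℕ∞) ≤ ((LocCoh.depth (Localization.AtPrime Q.asIdeal)
        (LocalizedModule Q.asIdeal.primeCompl (((MvPolynomial (Fin n) R) ⊗[R] K) ⊗[MvPolynomial (Fin n) R] M)) : ℕ∞) :
          WithBot ℕ∞) + (tdim Q : WithBot ℕ∞) := by
  obtain ⟨U, hUo, hU⟩ := exists_open_pdLocus R (MvPolynomial (Fin n) R) (n - N₀) M
  refine ⟨(Module.support (MvPolynomial (Fin n) R) M)ᶜ ∪ {Q | N₀ ≤ n ∧ Q ∈ U},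
    (isClosed_support M).isOpen_compl.union (isOpen_const.inter hUo), fun K _ _ Q => ?_⟩
  letI : Algebra K ((MvPolynomial (Fin n) R) ⊗[R] K) := Algebra.TensorProduct.rightAlgebra
  obtain ⟨_, _, _, h4⟩ := polynomial_fibre (R := R) (n := n) K
  refine (le_depth_add_iff K _ h4 Q N₀).trans ?_
  simp only [Set.mem_union, Set.mem_compl_iff, Set.mem_setOf_eq, cuts_support M K Q, hU K Q]
  exact imp_iff_not_or

theorem exists_open_supportDim_le_depth_add (k : ℕ) :
    ∃ U : Set (PrimeSpectrum (MvPolynomial (Fin n) R)), IsOpen U ∧ Cuts U fun K _ _ Q =>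
      Module.supportDim (Localization.AtPrime Q.asIdeal)
          (LocalizedModule Q.asIdeal.primeCompl (((MvPolynomial (Fin n) R) ⊗[R] K) ⊗[MvPolynomial (Fin n) R] M)) ≤
        ((LocCoh.depth (Localization.AtPrime Q.asIdeal)
          (LocalizedModule Q.asIdeal.primeCompl (((MvPolynomial (Fin n) R) ⊗[R] K) ⊗[MvPolynomial (Fin n) R] M)) : ℕ∞) :
            WithBot ℕ∞) + k := by
  choose U hUo hU using fun m => exists_open_pdLocus R (MvPolynomial (Fin n) R) m M
  choose T hTc hT using fun e => exists_closed_dimOn R (MvPolynomial (Fin n) R) _ (isClosed_support M) e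
  let s := (Finset.range (n + 1) ×ˢ Finset.range (n + 1)).filter fun x => n + k < x.1 + x.2 + 1
  refine ⟨(⋃ x ∈ s, T x.1 ∩ (U x.2)ᶜ)ᶜ,
    (isClosed_biUnion_finset fun x _ => (hTc x.1).inter (hUo x.2).isClosed_compl).isOpen_compl,
    fun K _ _ Q => ?_⟩
  have hsupp : PrimeSpectrum.comap (algebraMap (MvPolynomial (Fin n) R) ((MvPolynomial (Fin n) R) ⊗[R] K)) ⁻¹' Module.support (MvPolynomial (Fin n) R) M =
      Module.support ((MvPolynomial (Fin n) R) ⊗[R] K) (((MvPolynomial (Fin n) R) ⊗[R] K) ⊗[(MvPolynomial (Fin n) R)] M) :=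
    Set.ext fun Q' => (cuts_support M K Q').symm
  simp only [Set.mem_compl_iff, Set.mem_iUnion, Set.mem_inter_iff, not_exists, not_and, not_not]
  letI : Algebra K ((MvPolynomial (Fin n) R) ⊗[R] K) := Algebra.TensorProduct.rightAlgebra
  obtain ⟨_, _, _, h4⟩ := polynomial_fibre (R := R) (n := n) K
  rw [supportDim_le_depth_add_iff K _ h4 Q k]
  constructor
  · intro h x hx hxT
    by_contra hxU
    have h1 := h x.1 x.2 (hsupp ▸ (hT x.1 K Q).2 hxT) (fun hm => hxU ((hU x.2 K Q).1 hm))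
    simp only [s, Finset.mem_filter] at hx
    omega
  · intro h e m he hm
    by_contra hlt
    have hsQ := mem_support_of_dimOn _ he
    have hmn := pd_le_n M K Q hsQ hm
    obtain ⟨inv⟩ := nonempty_inv K h4 _ Q hsQ
    have := (inv.dimOn_iff e).1 he
    have := inv.s_le
    exact hm ((hU m K Q).2 (h (e, m) (by simp [s]; omega) ((hT e K Q).1 (hsupp.symm ▸ he))))

theorem exists_open_assDims (D : Finset ℕ) :
    ∃ U : Set (PrimeSpectrum (MvPolynomial (Fin n) R)), IsOpen U ∧ Cuts U fun K _ _ Q =>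
      ∀ Q', Q' ≤ Q → IsAssPt (((MvPolynomial (Fin n) R) ⊗[R] K) ⊗[MvPolynomial (Fin n) R] M) Q' →
        tdim Q' ∈ D := by
  choose U hUo hU using fun m => exists_open_pdLocus R (MvPolynomial (Fin n) R) m M
  choose T hTc hT using fun e => exists_closed_dimOn R (MvPolynomial (Fin n) R)
    (Module.support (MvPolynomial (Fin n) R) M ∩ ⋂ m ∈ {m | m + e < n}, (U m)ᶜ)
    ((isClosed_support M).inter (isClosed_biInter fun m _ => (hUo m).isClosed_compl)) e
  refine ⟨(⋃ e ∈ Finset.range (n + 1) \ D, T e)ᶜ,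
    (isClosed_biUnion_finset fun e _ => hTc e).isOpen_compl, fun K _ _ Q => ?_⟩
  have hset : ∀ e, PrimeSpectrum.comap (algebraMap (MvPolynomial (Fin n) R) ((MvPolynomial (Fin n) R) ⊗[R] K)) ⁻¹'
      (Module.support (MvPolynomial (Fin n) R) M ∩ ⋂ m ∈ {m | m + e < n}, (U m)ᶜ) = compSet n (((MvPolynomial (Fin n) R) ⊗[R] K) ⊗[(MvPolynomial (Fin n) R)] M) e := fun e => by
    ext Q'
    simp only [compSet, Set.mem_preimage, Set.mem_inter_iff, Set.mem_iInter, Set.mem_compl_iff,
      Set.mem_setOf_eq, cuts_support M K Q', hU _ K Q']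
  letI : Algebra K ((MvPolynomial (Fin n) R) ⊗[R] K) := Algebra.TensorProduct.rightAlgebra
  obtain ⟨_, _, _, h4⟩ := polynomial_fibre (R := R) (n := n) K
  simp only [Set.mem_compl_iff, Set.mem_iUnion, not_exists, Finset.mem_sdiff, Finset.mem_range]
  constructor
  · intro h e he hT'
    obtain ⟨Q', hle, hass, rfl⟩ := (dimOn_compSet_iff_isAssPt K _ h4 Q e).1 (hset e ▸ (hT e K Q).2 hT')
    exact he.2 (h Q' hle hass)
  · intro h Q' hle hass
    obtain ⟨inv, -⟩ := (isAssPt_iff K _ h4 Q').1 hass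
    have := inv.s_le
    by_contra hD
    exact h _ ⟨by omega, hD⟩ ((hT _ K Q).1
      ((hset _).symm ▸ (dimOn_compSet_iff_isAssPt K _ h4 Q _).2 ⟨Q', hle, hass, rfl⟩))

theorem exists_open_noEmbedded :
    ∃ U : Set (PrimeSpectrum (MvPolynomial (Fin n) R)), IsOpen U ∧ Cuts U fun K _ _ Q =>
      ∀ Q', Q' ≤ Q → IsAssPt (((MvPolynomial (Fin n) R) ⊗[R] K) ⊗[MvPolynomial (Fin n) R] M) Q' →
        ∀ Q'', Q'' ≤ Q' → IsAssPt (((MvPolynomial (Fin n) R) ⊗[R] K) ⊗[MvPolynomial (Fin n) R] M) Q'' →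
          Q'' = Q' := by
  obtain ⟨U, hUo, hU⟩ := exists_open_skNum (R := R) (n := n) M 1
  refine ⟨U, hUo, fun K _ _ Q => ?_⟩
  letI : Algebra K ((MvPolynomial (Fin n) R) ⊗[R] K) := Algebra.TensorProduct.rightAlgebra
  obtain ⟨_, _, _, h4⟩ := polynomial_fibre (R := R) (n := n) K
  exact (noEmbedded_iff_skNum_one K _ h4 Q).trans (hU K Q)

end Loci

end Groth.Agent.H06EGA12
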