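import Groth.Agent.H06EGA12.Semilinear
import Mathlib.RingTheory.LocalRing.ResidueField.Fiber

/-!
# The stalk of a module on a fibre, computed in an ambient algebra
-/

set_option autoImplicit false
set_option linter.style.haveILetI false
set_option maxSynthPendingDepth 4
universe u

open TensorProduct IsLocalRing

namespace Groth.Agent.H06EGA12

theorem isBaseChange_id_of_surjective {P C M : Type u} [CommRing P] [CommRing C] [Algebra P C]
    [AddCommGroup M] [Module P M] [Module C M] [IsScalarTower P C M]
    (h : Function.Surjective (algebraMap P C)) : IsBaseChange C (LinearMap.id : M →ₗ[P] M) := by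
  refine IsBaseChange.of_lift_unique _ fun L _ _ _ _ i => ?_
  refine ⟨{ toFun := i, map_add' := i.map_add, map_smul' := fun c m => ?_ }, rfl, fun j hj => ?_⟩
  · obtain ⟨a, rfl⟩ := h c
    rw [RingHom.id_apply, algebraMap_smul, algebraMap_smul, i.map_smul]
  · exact LinearMap.ext fun m => LinearMap.congr_fun hj m

theorem exists_fibre_semilinear
    {R P C Cq O : Type u} [CommRing R] [CommRing P] [CommRing C] [CommRing Cq] [CommRing O]
    [Algebra R P] [Algebra R C] [Algebra P C] [IsScalarTower R P C]
    (hπ : Function.Surjective (algebraMap P C))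
    (q : Ideal C) [q.IsPrime] [Algebra C Cq] [IsLocalization.AtPrime Cq q] [IsLocalRing O]
    [Algebra Cq O] [Algebra C O] [IsScalarTower C Cq O]
    (hσ : Function.Surjective (algebraMap Cq O))
    (hker : RingHom.ker (algebraMap Cq O) =
      ((q.comap (algebraMap R C)).map (algebraMap R C)).map (algebraMap C Cq))
    {M Mq N : Type u} [AddCommGroup M] [Module C M] [Module P M] [IsScalarTower P C M]
    [AddCommGroup Mq] [Module C Mq] [Module Cq Mq] [IsScalarTower C Cq Mq]
    (l : M →ₗ[C] Mq) [IsLocalizedModule q.primeCompl l]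
    [AddCommGroup N] [Module C N] [Module Cq N] [Module O N] [IsScalarTower C Cq N]
    [IsScalarTower Cq O N] [IsScalarTower C O N]
    (g : Mq →ₗ[Cq] N) (hg : IsBaseChange O g) :
    ∃ Q : PrimeSpectrum (P ⊗[R] (q.comap (algebraMap R C)).ResidueField),
      PrimeSpectrum.comap (algebraMap P _) Q =
        PrimeSpectrum.comap (algebraMap P C) ⟨q, inferInstance⟩ ∧
      ∃ φ : Localization.AtPrime Q.asIdeal →+* O, Function.Surjective φ ∧
        ∃ e : LocalizedModule Q.asIdeal.primeCompl
            ((P ⊗[R] (q.comap (algebraMap R C)).ResidueField) ⊗[P] M) ≃+ N,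
          ∀ a m, e (a • m) = φ a • e m := by
  set p := q.comap (algebraMap R C) with hp
  let K := p.ResidueField
  let F := P ⊗[R] K
  letI : Algebra P O := ((algebraMap C O).comp (algebraMap P C)).toAlgebra
  haveI : IsScalarTower P C O := .of_algebraMap_eq fun _ => rfl
  letI : Algebra R O := ((algebraMap C O).comp (algebraMap R C)).toAlgebra
  haveI : IsScalarTower R C O := .of_algebraMap_eq fun _ => rfl
  haveI : IsScalarTower R P O := .of_algebraMap_eq fun r => by
    show algebraMap C O (algebraMap R C r) = algebraMap C O (algebraMap P C (algebraMap R P r))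
    rw [← IsScalarTower.algebraMap_apply R P C]
  have hzero : ∀ c : C, algebraMap C O c = 0 ↔
      algebraMap C Cq c ∈ (p.map (algebraMap R C)).map (algebraMap C Cq) := fun c => by
    rw [← hker, RingHom.mem_ker, ← IsScalarTower.algebraMap_apply]
  have hloc : IsLocalHom (algebraMap Cq O) :=
    haveI := IsLocalization.AtPrime.isLocalRing Cq q
    hσ.isLocalHom
  have hunit : ∀ c : C, c ∉ q → IsUnit (algebraMap C O c) := fun c hc => by
    rw [IsScalarTower.algebraMap_apply C Cq O]
    exact (IsLocalization.map_units (M := q.primeCompl) Cq ⟨c, hc⟩).map _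
  have hmax : ∀ c : C, c ∈ q → algebraMap C O c ∈ maximalIdeal O := fun c hc hu => by
    rw [IsScalarTower.algebraMap_apply C Cq O, isUnit_map_iff (algebraMap Cq O),
      IsLocalization.AtPrime.isUnit_to_map_iff Cq q c] at hu
    exact hu hc
  let k : K →ₐ[R] O := Ideal.ResidueField.liftₐ p (Algebra.ofId R O)
    (fun r hr => by
      rw [RingHom.mem_ker]
      exact (hzero _).2 (Ideal.mem_map_of_mem _ (Ideal.mem_map_of_mem _ hr)))
    (fun r hr => hunit _ hr)
  let ρ : F →ₐ[P] O :=
    { (Algebra.TensorProduct.lift (IsScalarTower.toAlgHom R P O) k fun _ _ => .all _ _).toRingHom with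
      commutes' := fun a => by
        refine (Algebra.TensorProduct.lift_tmul (IsScalarTower.toAlgHom R P O) k (fun _ _ => .all _ _) a 1).trans ?_
        rw [map_one, mul_one]
        rfl }
  let Q : PrimeSpectrum F := ⟨(maximalIdeal O).comap ρ.toRingHom, Ideal.comap_isPrime _ _⟩
  refine ⟨Q, ?_, ?_⟩
  · ext a
    show ρ (algebraMap P F a) ∈ maximalIdeal O ↔ algebraMap P C a ∈ q
    rw [ρ.commutes, IsScalarTower.algebraMap_apply P C O]
    exact ⟨fun h => by_contra fun hc => h (hunit _ hc), hmax _⟩
  let A := Localization.AtPrime Q.asIdeal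
  let φ : A →ₐ[P] O := IsLocalization.liftAlgHom (M := Q.asIdeal.primeCompl) (f := ρ) fun a =>
    by_contra fun h => a.2 h
  have hφ : ∀ a : F, φ (algebraMap F A a) = ρ a := fun a => IsLocalization.lift_eq _ a
  have hA : ∀ b : P, algebraMap P C b ∉ q → IsUnit (algebraMap P A b) := fun b hb => by
    rw [IsScalarTower.algebraMap_apply P F A]
    refine IsLocalization.map_units (M := Q.asIdeal.primeCompl) A ⟨algebraMap P F b, fun h => ?_⟩
    have h' : ρ (algebraMap P F b) ∈ maximalIdeal O := h
    rw [ρ.commutes, IsScalarTower.algebraMap_apply P C O] at h'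
    exact h' (hunit _ hb)
  have hsurj : Function.Surjective φ := by
    intro o
    obtain ⟨z, rfl⟩ := hσ o
    obtain ⟨c, s, rfl⟩ := IsLocalization.exists_mk'_eq q.primeCompl z
    obtain ⟨a, rfl⟩ := hπ c
    obtain ⟨b, hb⟩ := hπ s.1
    have hbq : algebraMap P C b ∉ q := hb ▸ s.2
    refine ⟨algebraMap P A a * ↑(hA b hbq).unit⁻¹, ?_⟩
    have h1 : φ (algebraMap P A b) * φ ↑(hA b hbq).unit⁻¹ = 1 := by
      rw [← map_mul, IsUnit.mul_val_inv, map_one]
    apply (hunit _ hbq).mul_left_cancel
    rw [map_mul, φ.commutes, ← mul_assoc, mul_comm (algebraMap C O _) (algebraMap P O a), mul_assoc,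
      ← show φ (algebraMap P A b) = algebraMap C O (algebraMap P C b) from
        (φ.commutes b).trans (IsScalarTower.algebraMap_apply P C O b), h1, mul_one,
      φ.commutes, IsScalarTower.algebraMap_apply P C O b, hb, IsScalarTower.algebraMap_apply C Cq O,
      ← map_mul, IsLocalization.mk'_spec'_mk, ← IsScalarTower.algebraMap_apply,
      ← IsScalarTower.algebraMap_apply]
  letI : Module P Mq := Module.compHom Mq (algebraMap P C)
  haveI : IsScalarTower P C Mq := .of_algebraMap_smul fun _ _ => rfl
  letI : Module P N := Module.compHom N (algebraMap P C)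
  haveI : IsScalarTower P C N := .of_algebraMap_smul fun _ _ => rfl
  haveI : IsScalarTower P O N := .of_algebraMap_smul fun a x => algebraMap_smul O (algebraMap P C a) x
  let MQ := LocalizedModule Q.asIdeal.primeCompl (F ⊗[P] M)
  have hf : IsBaseChange A
      (((LocalizedModule.mkLinearMap Q.asIdeal.primeCompl (F ⊗[P] M)).restrictScalars P).comp
        (TensorProduct.mk P F M 1)) :=
    (TensorProduct.isBaseChange P M F).comp
      (IsLocalizedModule.isBaseChange Q.asIdeal.primeCompl A (LocalizedModule.mkLinearMap _ _))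
  have hlg : IsBaseChange O ((g.restrictScalars C).comp l) :=
    (IsLocalizedModule.isBaseChange q.primeCompl Cq l).comp hg
  have hg' : IsBaseChange O ((((g.restrictScalars C).comp l).restrictScalars P).comp
      (LinearMap.id : M →ₗ[P] M)) :=
    (isBaseChange_id_of_surjective hπ).comp hlg
  have hkill : ∀ a, φ a = 0 → ∀ m : MQ, a • m = 0 := by
    have hP : ∀ b : P, algebraMap P O b = 0 → ∀ m : MQ, algebraMap P A b • m = 0 := by
      intro b hb m
      rw [IsScalarTower.algebraMap_apply P C O, hzero,
        IsLocalization.algebraMap_mem_map_algebraMap_iff q.primeCompl Cq] at hb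
      obtain ⟨t, ht, htb⟩ := hb
      obtain ⟨t', rfl⟩ := hπ t
      rw [← map_mul] at htb
      have hsub : (p.map (algebraMap R P)).map (algebraMap P C) = p.map (algebraMap R C) := by
        rw [Ideal.map_map, ← IsScalarTower.algebraMap_eq]
      rw [← hsub, Ideal.mem_map_iff_of_surjective _ hπ] at htb
      obtain ⟨z, hz, hze⟩ := htb
      have hz0 : algebraMap P A z = 0 := by
        have : z ∈ RingHom.ker (algebraMap P F) := by
          refine (Ideal.map_le_iff_le_comap.2 fun r hr => ?_) hz
          rw [Ideal.mem_comap, RingHom.mem_ker, ← IsScalarTower.algebraMap_apply]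
          show algebraMap R (P ⊗[R] K) r = 0
          rw [Algebra.TensorProduct.algebraMap_apply, Algebra.algebraMap_eq_smul_one (A := P),
            TensorProduct.smul_tmul, ← Algebra.algebraMap_eq_smul_one,
            Ideal.algebraMap_residueField_eq_zero.mpr hr, TensorProduct.tmul_zero]
        rw [IsScalarTower.algebraMap_apply P F A, RingHom.mem_ker.1 this, map_zero]
      have hk : ∀ (w : P), algebraMap P C w = 0 → ∀ m : MQ, algebraMap P A w • m = 0 := by
        intro w hw m
        obtain ⟨⟨x, s⟩, rfl⟩ := IsLocalizedModule.mk'_surjective Q.asIdeal.primeCompl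
          (LocalizedModule.mkLinearMap Q.asIdeal.primeCompl (F ⊗[P] M)) m
        rw [algebraMap_smul, ← algebraMap_smul F w, Function.uncurry_apply_pair, ← IsLocalizedModule.mk'_smul]
        suffices w • x = 0 by rw [algebraMap_smul, this, IsLocalizedModule.mk'_zero]
        clear hf
        induction x with
        | zero => simp
        | tmul c y => rw [← TensorProduct.tmul_smul, ← algebraMap_smul C w y, hw, zero_smul, TensorProduct.tmul_zero]
        | add c d hc hd => rw [smul_add, hc, hd, add_zero]
      have h2 := hk (t' * b - z) (by rw [map_sub, hze, sub_self]) m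
      rw [map_sub, hz0, sub_zero, map_mul, mul_smul] at h2
      exact (hA t' ht).smul_eq_zero.1 h2
    intro a ha m
    obtain ⟨w, v, rfl⟩ := IsLocalization.exists_mk'_eq Q.asIdeal.primeCompl a
    obtain ⟨r, hr, b, hb⟩ := Ideal.Fiber.exists_smul_eq_one_tmul p (TensorProduct.comm R P K w)
    have hb' : algebraMap R F r * w = algebraMap P F b := by
      rw [← Algebra.smul_def]
      apply (TensorProduct.comm R P K).injective
      rw [map_smul, hb]
      rfl
    have hur : IsUnit (algebraMap F A (algebraMap R F r)) := by
      rw [show algebraMap R F r = algebraMap P F (algebraMap R P r) from IsScalarTower.algebraMap_apply R P F r,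
        ← IsScalarTower.algebraMap_apply P F A]
      exact hA _ (by rw [← IsScalarTower.algebraMap_apply R P C]; exact hr)
    have hw0 : ρ w = 0 := by
      have h1 : φ (IsLocalization.mk' A w v * algebraMap F A v) = 0 := by rw [map_mul, ha, zero_mul]
      rwa [IsLocalization.mk'_spec, hφ] at h1
    have hb0 : algebraMap P O b = 0 := by
      rw [← ρ.commutes b, ← hb', map_mul, hw0, mul_zero]
    have h2 := hP b hb0 m
    rw [IsScalarTower.algebraMap_apply P F A, ← hb', map_mul, mul_smul] at h2
    have h3 := hur.smul_eq_zero.1 h2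
    have hv : IsUnit (algebraMap F A v) := IsLocalization.map_units A v
    refine hv.smul_eq_zero.1 ?_
    rw [← mul_smul, IsLocalization.mk'_spec', h3]
  obtain ⟨e, he⟩ := exists_semilinear hf hg' φ hsurj hkill
  exact ⟨φ.toRingHom, hsurj, e, he⟩

end Groth.Agent.H06EGA12
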