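import Groth.Agent.H06EGA12.AffineLoci
import Groth.Agent.H06EGA12.FibreLocalModule
import Groth.Agent.H06EGA9.FlatFibre
import Groth.Agent.H8Props.FlatLocus.Sheaf

/-!
# EGA IV 12.1 / 12.2: from affine loci to schemes
-/

set_option autoImplicit false
set_option linter.style.haveILetI false
set_option linter.unusedVariables false
set_option maxSynthPendingDepth 4
universe u

open CategoryTheory CategoryTheory.Limits AlgebraicGeometry TopologicalSpace IsLocalRing TensorProduct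

namespace Groth.Agent.H06EGA12

attribute [local instance] H06Mod.stalkAlgebra

/-- A property of modules over local rings which only depends on the module up to surjections of rings. -/
def SemilinearInvariant
    (Φ : ∀ (A : Type u) [CommRing A] [IsLocalRing A] (M : Type u) [AddCommGroup M] [Module A M], Prop) : Prop :=
  ∀ ⦃A O : Type u⦄ [CommRing A] [CommRing O] [IsLocalRing A] [IsLocalRing O] (φ : A →+* O),
    Function.Surjective φ → ∀ ⦃M N : Type u⦄ [AddCommGroup M] [AddCommGroup N] [Module A M] [Module O N]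
    (e : M ≃+ N), (∀ (a : A) (m : M), e (a • m) = φ a • e m) → (Φ O N ↔ Φ A M)

theorem semilinearInvariant_cm : SemilinearInvariant.{u} fun A _ _ M _ _ =>
    Subsingleton M ∨ LocCoh.IsCohenMacaulayModule A M := fun A O _ _ _ _ φ hφ M N _ _ _ _ e he => by
  obtain ⟨-, -, -, h1, h2⟩ := invariants_of_semilinear φ hφ e he
  exact or_congr h1 h2

theorem semilinearInvariant_hasSk (k : ℕ) : SemilinearInvariant.{u} fun A _ _ M _ _ => LocCoh.HasSk k A M :=
  fun A O _ _ _ _ φ hφ M N _ _ _ _ e he => hasSk_iff_of_semilinear φ hφ e he k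

theorem semilinearInvariant_equidim (k : ℕ) : SemilinearInvariant.{u} fun A _ _ M _ _ =>
    EGA4.IsEquidimModule A M ∧ LocCoh.HasSk k A M := fun A O _ _ _ _ φ hφ M N _ _ _ _ e he =>
  and_congr (invariants_of_semilinear φ hφ e he).2.2.1 (hasSk_iff_of_semilinear φ hφ e he k)

variable {X Y : Scheme.{u}} (f : X ⟶ Y) (F : X.Modules)
  (Φ : ∀ (A : Type u) [CommRing A] [IsLocalRing A] (M : Type u) [AddCommGroup M] [Module A M], Prop)

/-- `Φ` for the fibre of `f` and the restriction of `F` to it, at a point of the fibre. -/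
def OnFibre {s : Y} (z : f.fiber s) : Prop :=
  Φ ((f.fiber s).presheaf.stalk z) (((Scheme.Modules.pullback (f.fiberι s)).obj F).presheaf.stalk z)

theorem onFibre_iff_asFiber {s : Y} (z : f.fiber s) (x : X) (hx : f.fiberι s z = x) :
    OnFibre f F Φ z ↔ OnFibre f F Φ (f.asFiber x) := by
  obtain rfl : f x = s := by rw [← hx]; exact (f.range_fiberι s).subset (Set.mem_range_self z)
  obtain rfl : z = f.asFiber x :=
    (f.fiberι (f x)).isEmbedding.injective (hx.trans (f.fiberι_asFiber x).symm)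
  rfl

variable {Φ}

/-- The fibre stalk computed in a presentation of an affine chart. -/
theorem exists_chart_prime (hF : CohB1.IsFP F)
    {W : Y.Opens} (hW : IsAffineOpen W) {U : X.Opens} (hU : IsAffineOpen U) (hUW : U ≤ f ⁻¹ᵁ W) {n : ℕ}
    (π : MvPolynomial (Fin n) Γ(Y, W) →+* Γ(X, U)) (hπ : Function.Surjective π)
    (hπW : π.comp (algebraMap Γ(Y, W) _) = (f.appLE W U hUW).hom)
    {s : Y} (z : f.fiber s) (hy : f.fiberι s z ∈ U) :
    letI := Module.compHom Γ(F, U) π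
    ∃ (p : PrimeSpectrum Γ(Y, W))
      (Q : PrimeSpectrum ((MvPolynomial (Fin n) Γ(Y, W)) ⊗[Γ(Y, W)] p.asIdeal.ResidueField)),
      PrimeSpectrum.comap (algebraMap (MvPolynomial (Fin n) Γ(Y, W)) _) Q =
          PrimeSpectrum.comap π (hU.primeIdealOf ⟨f.fiberι s z, hy⟩) ∧
      ∀ ⦃Φ : ∀ (A : Type u) [CommRing A] [IsLocalRing A] (M : Type u) [AddCommGroup M] [Module A M], Prop⦄,
        SemilinearInvariant Φ → (OnFibre f F Φ z ↔ Φ (Localization.AtPrime Q.asIdeal)
          (LocalizedModule Q.asIdeal.primeCompl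
            (((MvPolynomial (Fin n) Γ(Y, W)) ⊗[Γ(Y, W)] p.asIdeal.ResidueField)
              ⊗[MvPolynomial (Fin n) Γ(Y, W)] Γ(F, U)))) := by
  let y : U := ⟨f.fiberι s z, hy⟩
  let P := MvPolynomial (Fin n) Γ(Y, W)
  letI : Algebra Γ(Y, W) Γ(X, U) := (f.appLE W U hUW).hom.toAlgebra
  letI : Algebra P Γ(X, U) := π.toAlgebra
  haveI : IsScalarTower Γ(Y, W) P Γ(X, U) := .of_algebraMap_eq fun r => (RingHom.congr_fun hπW r).symm
  letI : Module P Γ(F, U) := Module.compHom Γ(F, U) π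
  haveI : IsScalarTower P Γ(X, U) Γ(F, U) := .of_algebraMap_smul fun _ _ => rfl
  letI := TopCat.Presheaf.algebra_section_stalk X.presheaf y
  letI := Module.compHom (F.presheaf.stalk y.1) (algebraMap Γ(X, U) (X.presheaf.stalk y.1))
  haveI : IsScalarTower Γ(X, U) (X.presheaf.stalk y.1) (F.presheaf.stalk y.1) :=
    .of_algebraMap_smul fun _ _ => rfl
  haveI := hU.isLocalization_stalk y
  haveI := H29Fitt.isLocalizedModule_germLin F (H29Fitt.isQCoh_of_isFP F hF) hU y
  let O := (f.fiber s).presheaf.stalk z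
  let N := ((Scheme.Modules.pullback (f.fiberι s)).obj F).presheaf.stalk z
  letI : Algebra (X.presheaf.stalk y.1) O := H06Mod.stalkAlgebra (f.fiberι s) z
  letI : Algebra Γ(X, U) O := ((algebraMap (X.presheaf.stalk y.1) O).comp (algebraMap Γ(X, U) _)).toAlgebra
  haveI : IsScalarTower Γ(X, U) (X.presheaf.stalk y.1) O := .of_algebraMap_eq fun _ => rfl
  letI : Module (X.presheaf.stalk y.1) N := Module.compHom N (algebraMap (X.presheaf.stalk y.1) O)
  haveI : IsScalarTower (X.presheaf.stalk y.1) O N := .of_algebraMap_smul fun _ _ => rfl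
  letI : Module Γ(X, U) N := Module.compHom N (algebraMap Γ(X, U) O)
  haveI : IsScalarTower Γ(X, U) O N := .of_algebraMap_smul fun _ _ => rfl
  haveI : IsScalarTower Γ(X, U) (X.presheaf.stalk y.1) N := .of_algebraMap_smul fun c m => rfl
  let e := H06Mod.pullStalkEquiv (f.fiberι s) F z
  let g : F.presheaf.stalk y.1 →ₗ[X.presheaf.stalk y.1] N :=
    { toFun := fun m => e (1 ⊗ₜ m)
      map_add' := fun a b => by rw [tmul_add, map_add]
      map_smul' := fun a m => by
        show e ((1 : O) ⊗ₜ[X.presheaf.stalk y.1] (a • m)) = algebraMap (X.presheaf.stalk y.1) O a • e (1 ⊗ₜ m)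
        rw [← e.map_smul, tmul_smul, smul_tmul', smul_tmul', Algebra.smul_def, mul_one, smul_eq_mul, mul_one] }
  have hg : IsBaseChange O g := IsBaseChange.of_equiv e fun _ => rfl
  have hfs : Function.Surjective (algebraMap (X.presheaf.stalk y.1) O) ∧
      RingHom.ker (algebraMap (X.presheaf.stalk y.1) O) =
        Ideal.map (f.stalkMap y.1).hom (maximalIdeal (Y.presheaf.stalk (f y.1))) := by
    have h := H06EGA9.fibre_stalk f (ι := f.fiberι s)
      (IsPullback.of_hasPullback f (Y.fromSpecResidueField s)) z (f.fiberι s z) rfl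
    have hσ : X.presheaf.stalkSpecializes (specializes_of_eq (rfl : f.fiberι s z = f.fiberι s z)) ≫
        (f.fiberι s).stalkMap z = (f.fiberι s).stalkMap z := by
      simp
    rw [hσ] at h
    exact h
  let q := (hU.primeIdealOf y).asIdeal
  have hker : RingHom.ker (algebraMap (X.presheaf.stalk y.1) O) =
      ((q.comap (algebraMap Γ(Y, W) Γ(X, U))).map (algebraMap Γ(Y, W) Γ(X, U))).map
        (algebraMap Γ(X, U) (X.presheaf.stalk y.1)) := by
    refine hfs.2.trans ?_
    let yW : W := ⟨f y.1, hUW hy⟩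
    letI := TopCat.Presheaf.algebra_section_stalk Y.presheaf yW
    haveI := hW.isLocalization_stalk yW
    have h2 : q.comap (algebraMap Γ(Y, W) Γ(X, U)) = (hW.primeIdealOf yW).asIdeal :=
      congrArg PrimeSpectrum.asIdeal (IsAffineOpen.comap_primeIdealOf_appLE W hW U hU hUW hy)
    rw [h2, Ideal.map_map, ← IsLocalization.AtPrime.map_eq_maximalIdeal (hW.primeIdealOf yW).asIdeal
      (Y.presheaf.stalk (f y.1)), Ideal.map_map]
    congr 1
    refine RingHom.ext fun r => ?_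
    show (f.stalkMap y.1).hom ((Y.presheaf.germ W (f y.1) (hUW hy)).hom r) =
      (X.presheaf.germ U y.1 hy).hom ((f.appLE W U hUW).hom r)
    have hc : Y.presheaf.germ W (f y.1) (hUW hy) ≫ f.stalkMap y.1 =
        f.appLE W U hUW ≫ X.presheaf.germ U y.1 hy := by
      rw [Scheme.Hom.appLE, Category.assoc, X.presheaf.germ_res]
      exact Scheme.Hom.germ_stalkMap f W y.1 (hUW hy)
    exact RingHom.congr_fun (congrArg CommRingCat.Hom.hom hc) r
  obtain ⟨Q, hQ, φ, hφ, e', he'⟩ := exists_fibre_semilinear (R := Γ(Y, W)) (P := P) hπ q hfs.1 hker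
    (H29Fitt.germLin F y) g hg
  exact ⟨⟨q.comap (algebraMap Γ(Y, W) Γ(X, U)), inferInstance⟩, Q, hQ, fun Φ hΦ => hΦ φ hφ e' he'⟩

theorem onFibre_iff_mem (hF : CohB1.IsFP F) (hΦ : SemilinearInvariant Φ)
    {W : Y.Opens} (hW : IsAffineOpen W) {U : X.Opens} (hU : IsAffineOpen U) (hUW : U ≤ f ⁻¹ᵁ W) {n : ℕ}
    (π : MvPolynomial (Fin n) Γ(Y, W) →+* Γ(X, U)) (hπ : Function.Surjective π)
    (hπW : π.comp (algebraMap Γ(Y, W) _) = (f.appLE W U hUW).hom)
    (S : Set (PrimeSpectrum (MvPolynomial (Fin n) Γ(Y, W))))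
    (hS : letI := Module.compHom Γ(F, U) π
      Cuts S fun K _ _ Q => Φ (Localization.AtPrime Q.asIdeal)
          (LocalizedModule Q.asIdeal.primeCompl
            (((MvPolynomial (Fin n) Γ(Y, W)) ⊗[Γ(Y, W)] K) ⊗[MvPolynomial (Fin n) Γ(Y, W)] Γ(F, U))))
    {s : Y} (z : f.fiber s) (hy : f.fiberι s z ∈ U) :
    OnFibre f F Φ z ↔ PrimeSpectrum.comap π (hU.primeIdealOf ⟨f.fiberι s z, hy⟩) ∈ S := by
  obtain ⟨p, Q, hQ, h⟩ := exists_chart_prime f F hF hW hU hUW π hπ hπW z hy
  rw [h hΦ, ← hQ]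
  exact hS _ Q

/-- Near a point at which `F` is flat over the base, the locus is open. -/
theorem exists_nhd_isOpen_onFibre [LocallyOfFinitePresentation f] (hF : CohB1.IsFP F)
    (hΦ : SemilinearInvariant Φ)
    (haff : ∀ (R : Type u) [CommRing R] (n : ℕ) (M : Type u) [AddCommGroup M]
      [Module (MvPolynomial (Fin n) R) M] [Module R M] [IsScalarTower R (MvPolynomial (Fin n) R) M]
      [Module.FinitePresentation (MvPolynomial (Fin n) R) M] [Module.Flat R M],
      ∃ U : Set (PrimeSpectrum (MvPolynomial (Fin n) R)), IsOpen U ∧ Cuts U fun K _ _ Q =>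
        Φ (Localization.AtPrime Q.asIdeal)
          (LocalizedModule Q.asIdeal.primeCompl
            (((MvPolynomial (Fin n) R) ⊗[R] K) ⊗[MvPolynomial (Fin n) R] M)))
    (x : X) (hx : FlatMod.IsFlatOverAt f F x) :
    ∃ V : X.Opens, x ∈ V ∧ (∀ y ∈ V, FlatMod.IsFlatOverAt f F y) ∧
      IsOpen {y : X | y ∈ V ∧ OnFibre f F Φ (f.asFiber y)} := by
  obtain ⟨W, (hW : IsAffineOpen W), hxW, -⟩ :=
    Opens.isBasis_iff_nbhd.mp Y.isBasis_affineOpens (show f x ∈ (⊤ : Y.Opens) from trivial)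
  let Fl : X.Opens := ⟨_, H8Props.FlatLocus.isOpen_setOf_isFlatOverAt f F hF⟩
  obtain ⟨U₀, (hU₀ : IsAffineOpen U₀), hxU₀, hU₀le⟩ :=
    Opens.isBasis_iff_nbhd.mp X.isBasis_affineOpens (show x ∈ f ⁻¹ᵁ W ⊓ Fl from ⟨hxW, hx⟩)
  obtain ⟨t, hxt, hfp⟩ := H29Fitt.exists_basicOpen_finitePresentation F hF hU₀ ⟨x, hxU₀⟩
  set U := X.basicOpen t
  have hU : IsAffineOpen U := hU₀.basicOpen t
  have hUle : U ≤ f ⁻¹ᵁ W ⊓ Fl := (X.basicOpen_le t).trans hU₀le
  have hUW : U ≤ f ⁻¹ᵁ W := fun y hy => (hUle hy).1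
  refine ⟨U, hxt, fun y hy => (hUle hy).2, ?_⟩
  letI := Module.compHom Γ(F, U) (f.appLE W U hUW).hom
  letI := (f.appLE W U hUW).hom.toAlgebra
  haveI : IsScalarTower Γ(Y, W) Γ(X, U) Γ(F, U) := .of_algebraMap_smul fun _ _ => rfl
  haveI : Algebra.FinitePresentation Γ(Y, W) Γ(X, U) :=
    HasRingHomProperty.appLE @LocallyOfFinitePresentation f ‹_› ⟨W, hW⟩ ⟨U, hU⟩ hUW
  haveI : Module.Flat Γ(Y, W) Γ(F, U) := by
    refine Module.flat_of_isLocalized_maximal (S := Γ(X, U)) _
      (fun P _ => LocalizedModule P.primeCompl Γ(F, U))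
      (fun P _ => LocalizedModule.mkLinearMap P.primeCompl Γ(F, U)) fun P hP => ?_
    let w : PrimeSpectrum Γ(X, U) := ⟨P, hP.isPrime⟩
    have hw : hU.fromSpec w ∈ U := hU.range_fromSpec.subset ⟨w, rfl⟩
    have h1 := (H8Props.FlatLocus.isFlatOverAt_iff_localizedModule f F (H29Fitt.isQCoh_of_isFP F hF)
      hW hU hUW ⟨_, hw⟩).1 (hUle hw).2
    have e : hU.primeIdealOf ⟨hU.fromSpec w, hw⟩ = w :=
      hU.fromSpec.isOpenEmbedding.injective (hU.fromSpec_primeIdealOf _)
    rwa [e] at h1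
  obtain ⟨n, π, hπ, hπker⟩ := Algebra.FinitePresentation.out (R := Γ(Y, W)) (A := Γ(X, U))
  letI : Algebra (MvPolynomial (Fin n) Γ(Y, W)) Γ(X, U) := π.toRingHom.toAlgebra
  haveI : IsScalarTower Γ(Y, W) (MvPolynomial (Fin n) Γ(Y, W)) Γ(X, U) :=
    .of_algebraMap_eq fun r => (π.commutes r).symm
  letI := Module.compHom Γ(F, U) π.toRingHom
  haveI : IsScalarTower (MvPolynomial (Fin n) Γ(Y, W)) Γ(X, U) Γ(F, U) := .of_algebraMap_smul fun _ _ => rfl
  haveI : IsScalarTower Γ(Y, W) (MvPolynomial (Fin n) Γ(Y, W)) Γ(F, U) := .of_algebraMap_smul fun r m => by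
    show π (algebraMap Γ(Y, W) (MvPolynomial (Fin n) Γ(Y, W)) r) • m = r • m
    rw [π.commutes, algebraMap_smul]
  haveI : Module.FinitePresentation (MvPolynomial (Fin n) Γ(Y, W)) Γ(X, U) :=
    Module.finitePresentation_of_surjective (Algebra.linearMap _ _) hπ hπker
  haveI : Module.FinitePresentation (MvPolynomial (Fin n) Γ(Y, W)) Γ(F, U) :=
    Module.FinitePresentation.trans (R := MvPolynomial (Fin n) Γ(Y, W)) (M := Γ(F, U)) Γ(X, U)
  obtain ⟨S, hSo, hS⟩ := haff Γ(Y, W) n Γ(F, U)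
  let ψ : U → PrimeSpectrum (MvPolynomial (Fin n) Γ(Y, W)) := fun y =>
    PrimeSpectrum.comap π.toRingHom (hU.primeIdealOf y)
  have hψ : Continuous ψ :=
    (PrimeSpectrum.continuous_comap _).comp hU.isoSpec.hom.continuous
  have key : ∀ y : U, OnFibre f F Φ (f.asFiber y.1) ↔ ψ y ∈ S := by
    intro y
    have hz : f.fiberι (f y.1) (f.asFiber y.1) = y.1 := f.fiberι_asFiber y.1
    have hmem : f.fiberι (f y.1) (f.asFiber y.1) ∈ U := by rw [hz]; exact y.2
    rw [onFibre_iff_mem f F hF hΦ hW hU hUW π.toRingHom hπ π.comp_algebraMap S hS _ hmem]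
    have : (⟨_, hmem⟩ : U) = y := Subtype.ext hz
    rw [this]
  have hset : {y : X | y ∈ U ∧ OnFibre f F Φ (f.asFiber y)} = Subtype.val '' (ψ ⁻¹' S) := by
    ext y
    constructor
    · rintro ⟨hy, h⟩
      exact ⟨⟨y, hy⟩, (key ⟨y, hy⟩).1 h, rfl⟩
    · rintro ⟨y', hy', rfl⟩
      exact ⟨y'.2, (key y').2 hy'⟩
  rw [hset]
  exact U.2.isOpenMap_subtype_val _ (hSo.preimage hψ)

end Groth.Agent.H06EGA12
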