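import Groth.Agent.H06EGA12.BaseChangePD
import Groth.Agent.S6285
import Groth.Agent.H06Mod.StalkBaseChange
import Mathlib.RingTheory.Flat.FaithfullyFlat.Basic
import Mathlib.RingTheory.Spectrum.Prime.Chevalley
import Mathlib.RingTheory.Flat.Localization

/-!
# Going down for a flat module: images of open subsets of the support are open
-/

set_option autoImplicit false
set_option linter.style.haveILetI false
universe u

open TensorProduct IsLocalRing Topology

namespace Groth.Agent.H06EGA12

/-- A finite module flat over the base has support over every prime below a point of its support. -/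
theorem exists_mem_support_le {R P : Type u} [CommRing R] [CommRing P] [Algebra R P] (M : Type u)
    [AddCommGroup M] [Module P M] [Module R M] [IsScalarTower R P M] [Module.Finite P M] [Module.Flat R M]
    (Q : PrimeSpectrum P) (hQ : Q ∈ Module.support P M) (p' : PrimeSpectrum R)
    (hle : p' ≤ PrimeSpectrum.comap (algebraMap R P) Q) :
    ∃ Q' : PrimeSpectrum P, Q' ≤ Q ∧ Q' ∈ Module.support P M ∧ PrimeSpectrum.comap (algebraMap R P) Q' = p' := by
  let A := Localization.AtPrime Q.asIdeal
  let q := PrimeSpectrum.comap (algebraMap R P) Q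
  let L := A ⊗[P] M
  let eL : LocalizedModule Q.asIdeal.primeCompl M ≃ₗ[P] L :=
    (LocalizedModule.equivTensorProduct Q.asIdeal.primeCompl M).restrictScalars P
  haveI : Nontrivial L :=
    haveI := Module.mem_support_iff.1 hQ
    eL.symm.toEquiv.nontrivial
  haveI : Module.Flat P A := IsLocalization.flat A Q.asIdeal.primeCompl
  haveI : Module.Flat R L := H06Mod.flat_tensor_of_flat
  let κ := p'.asIdeal.ResidueField
  let F := A ⊗[R] κ
  suffices h : Nontrivial (F ⊗[A] L) by
    obtain ⟨Q₁, hQ₁⟩ := (Module.nonempty_support_iff (R := F)).2 h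
    rw [mem_support_baseChange_iff, mem_support_baseChange_iff] at hQ₁
    set Q₂ := PrimeSpectrum.comap (algebraMap A F) Q₁
    refine ⟨PrimeSpectrum.comap (algebraMap P A) Q₂, ?_, hQ₁, ?_⟩
    · exact (Ideal.comap_mono (le_maximalIdeal Q₂.2.ne_top)).trans_eq
        (IsLocalization.AtPrime.under_maximalIdeal A Q.asIdeal)
    · rw [← PrimeSpectrum.comap_comp_apply, ← IsScalarTower.algebraMap_eq, ← PrimeSpectrum.comap_comp_apply,
        ← IsScalarTower.algebraMap_eq]
      refine PrimeSpectrum.ext (Ideal.ext fun r => ?_)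
      show algebraMap R F r ∈ Q₁.asIdeal ↔ r ∈ p'.asIdeal
      have hr : algebraMap R F r = (1 : A) ⊗ₜ algebraMap R κ r := by
        rw [Algebra.TensorProduct.algebraMap_apply, Algebra.algebraMap_eq_smul_one (A := A), smul_tmul,
          ← Algebra.algebraMap_eq_smul_one]
      rw [hr]
      refine ⟨fun h => ?_, fun h => by rw [Ideal.algebraMap_residueField_eq_zero.2 h, tmul_zero]; exact zero_mem _⟩
      by_contra hr'
      refine Q₁.2.ne_top (Ideal.eq_top_of_isUnit_mem _ h ?_)
      exact (isUnit_iff_ne_zero.2 fun h0 => hr' (Ideal.algebraMap_residueField_eq_zero.1 h0)).map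
        (Algebra.TensorProduct.includeRight : κ →ₐ[R] A ⊗[R] κ)
  by_contra hF
  haveI := not_nontrivial_iff_subsingleton.1 hF
  haveI : Subsingleton (L ⊗[R] κ) :=
    ((TensorProduct.comm A F L).toEquiv.trans
      (AlgebraTensorModule.cancelBaseChange R A A L κ).toEquiv).subsingleton_congr.1 inferInstance
  let j : (R ⧸ p'.asIdeal) →ₗ[R] κ := (Ideal.Quotient.liftₐ p'.asIdeal (Algebra.ofId R κ)
    fun a ha => Ideal.algebraMap_residueField_eq_zero.2 ha).toLinearMap
  have hj : Function.Injective j := by
    rw [injective_iff_map_eq_zero]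
    intro a ha
    obtain ⟨a, rfl⟩ := Ideal.Quotient.mk_surjective a
    exact Ideal.Quotient.eq_zero_iff_mem.2 (Ideal.algebraMap_residueField_eq_zero.1 ha)
  haveI : Subsingleton (L ⊗[R] (R ⧸ p'.asIdeal)) :=
    (Module.Flat.lTensor_preserves_injective_linearMap (M := L) j hj).subsingleton
  haveI : Subsingleton (L ⧸ (p'.asIdeal • ⊤ : Submodule R L)) :=
    (TensorProduct.tensorQuotEquivQuotSMul L p'.asIdeal).toEquiv.subsingleton_congr.1 inferInstance
  have htop : (p'.asIdeal • ⊤ : Submodule R L) = ⊤ := Submodule.Quotient.subsingleton_iff.1 ‹_›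
  have h2 : (p'.asIdeal.map (algebraMap R A) • ⊤ : Submodule A L) = ⊤ := by
    apply Submodule.restrictScalars_injective R
    rw [Ideal.smul_restrictScalars, Submodule.restrictScalars_top, htop]
  have hm : p'.asIdeal.map (algebraMap R A) ≤ maximalIdeal A := by
    refine Ideal.map_le_iff_le_comap.2 fun r hr => ?_
    show algebraMap R A r ∈ maximalIdeal A
    rw [IsScalarTower.algebraMap_apply R P A]
    exact (IsLocalization.AtPrime.to_map_mem_maximal_iff A Q.asIdeal (algebraMap R P r)).2 (hle hr)
  exact top_ne_bot (α := Submodule A L) (Submodule.eq_bot_of_le_smul_of_le_jacobson_bot _ ⊤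
    Module.Finite.fg_top h2.ge (hm.trans (maximalIdeal_le_jacobson _)))

/-- The image of an open subset of the support of a flat finitely presented module is open. -/
theorem isOpen_comap_image_support {R P : Type u} [CommRing R] [CommRing P] [Algebra R P]
    [Algebra.FinitePresentation R P] (M : Type u) [AddCommGroup M] [Module P M] [Module R M]
    [IsScalarTower R P M] [Module.FinitePresentation P M] [Module.Flat R M] (g : P) :
    IsOpen (PrimeSpectrum.comap (algebraMap R P) ''
      ((PrimeSpectrum.basicOpen g : Set (PrimeSpectrum P)) ∩ Module.support P M)) := by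
  have hsupp : IsConstructible (Module.support P M) := by
    obtain ⟨hc, hk⟩ := S6285.result P M
    simpa using ((hk.isRetrocompact hc.isOpen_compl).isConstructible hc.isOpen_compl).compl
  refine PrimeSpectrum.isOpen_of_stableUnderGeneralization_of_isConstructible ?_
    (PrimeSpectrum.isConstructible_comap_image (RingHom.finitePresentation_algebraMap.2 ‹_›)
      (PrimeSpectrum.isConstructible_basicOpen.inter hsupp))
  rintro p p' hle ⟨Q, ⟨hQg, hQs⟩, rfl⟩
  obtain ⟨Q', hQ'le, hQ's, hQ'⟩ := exists_mem_support_le M Q hQs p' ((PrimeSpectrum.le_iff_specializes _ _).2 hle)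
  exact ⟨Q', ⟨fun h => hQg (hQ'le h), hQ's⟩, hQ'⟩

end Groth.Agent.H06EGA12
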