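import Groth.Agent.H06EGA12.Scheme2
import Groth.Agent.H06EGA12.GoingDown

/-!
# EGA IV 12.2.1 (ii), (iii): dimensions of the components of the supports of the fibres
-/

set_option autoImplicit false
set_option linter.style.haveILetI false
set_option linter.unusedVariables false
set_option maxSynthPendingDepth 4
set_option maxHeartbeats 1000000
universe u

open CategoryTheory CategoryTheory.Limits AlgebraicGeometry TopologicalSpace TensorProduct Topology IsLocalRing

namespace Groth.Agent.H06EGA12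

variable {X Y : Scheme.{u}} (f : X ⟶ Y) (F : X.Modules)

/-- The support of the fibre module at `z`. -/
def InSupp {s : Y} (z : f.fiber s) : Prop := OnFibre f F (fun A _ _ M _ _ => Nontrivial M) z

/-- The points of the support of the fibre. -/
def suppSet (s : Y) : Set (f.fiber s) := {z | InSupp f F z}

theorem semilinearInvariant_nontrivial : SemilinearInvariant.{u} fun A _ _ M _ _ => Nontrivial M :=
  fun A O _ _ _ _ φ hφ M N _ _ _ _ e he => e.toEquiv.nontrivial_congr.symm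

variable {f F}

theorem Chart.Corr.inSupp_iff {c : Chart f F} {s : Y} {z : f.fiber s} {p : PrimeSpectrum c.R}
    {Q : PrimeSpectrum (c.Fib p)} (h : c.Corr z Q) :
    InSupp f F z ↔ Q ∈ Module.support (c.Fib p) ((c.Fib p) ⊗[MvPolynomial (Fin c.n) c.R] c.M) :=
  (h.onFibre_iff semilinearInvariant_nontrivial).trans Module.mem_support_iff.symm

variable [LocallyOfFinitePresentation f]

theorem Chart.Corr.exists_inv {c : Chart f F} {s : Y} {z : f.fiber s} {p : PrimeSpectrum c.R}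
    {Q : PrimeSpectrum (c.Fib p)} (h : c.Corr z Q) (hz : InSupp f F z) :
    ∃ inv : Inv (F := c.Fib p) ((c.Fib p) ⊗[MvPolynomial (Fin c.n) c.R] c.M) c.n Q,
      inv.s = 0 ↔ ∀ z' : f.fiber s, z' ⤳ z → InSupp f F z' → z' = z := by
  letI : Algebra p.asIdeal.ResidueField (c.Fib p) := Algebra.TensorProduct.rightAlgebra
  obtain ⟨_, _, _, h4⟩ := polynomial_fibre (R := c.R) (n := c.n) p.asIdeal.ResidueField
  obtain ⟨inv⟩ := nonempty_inv p.asIdeal.ResidueField h4 _ Q (h.inSupp_iff.1 hz)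
  refine ⟨inv, fun hs z' hz' hzs => ?_, fun hmin => ?_⟩
  · obtain ⟨Q', hle, hc'⟩ := h.exists_of_specializes hz'
    have he : Q' = Q := by
      by_contra hne
      haveI : IsNoetherianRing (c.Fib p) := Algebra.FiniteType.isNoetherianRing p.asIdeal.ResidueField _
      have h1 := (inv.dimOn_iff (tdim Q')).1 ⟨Q', hle, hc'.inSupp_iff.1 hzs, le_rfl⟩
      have hlt : Q'.asIdeal < Q.asIdeal := lt_of_le_of_ne hle fun h => hne (PrimeSpectrum.ext h)
      obtain ⟨a, ha, hat⟩ := exists_height_eq p.asIdeal.ResidueField h4 Q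
      obtain ⟨b, hb, hbt⟩ := exists_height_eq p.asIdeal.ResidueField h4 Q'
      rw [IsLocalization.AtPrime.ringKrullDim_eq_height Q.asIdeal] at ha
      rw [IsLocalization.AtPrime.ringKrullDim_eq_height Q'.asIdeal] at hb
      haveI := Q.2
      haveI := Q'.2
      have h4' : (Q'.asIdeal.height : WithBot ℕ∞) < Q.asIdeal.height :=
        WithBot.coe_lt_coe.2 (Ideal.height_strict_mono_of_isPrime hlt)
      rw [ha, hb] at h4'
      have : b < a := by exact_mod_cast h4'
      omega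
    subst he
    exact h.eq_of_corr hc'
  · obtain ⟨Q', hle, hsup, he⟩ := (inv.dimOn_iff (inv.s + tdim Q)).2 le_rfl
    obtain ⟨z', hz', hc'⟩ := h.exists_of_le hle hsup
    obtain rfl := hmin z' hz' (hc'.inSupp_iff.2 hsup)
    have : Q' = Q := le_antisymm hle ((hc'.le_iff h).2 specializes_rfl)
    subst this
    omega

theorem mem_ass_of_maximal (hF : CohB1.IsFP F) (hflat : FlatMod.IsFlatOver f F) {s : Y} {z : f.fiber s}
    (hz : InSupp f F z) (hmin : ∀ z' : f.fiber s, z' ⤳ z → InSupp f F z' → z' = z) :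
    z ∈ AssSch.Ass ((Scheme.Modules.pullback (f.fiberι s)).obj F) := by
  obtain ⟨c, hc, -⟩ := exists_flatChart f F hF (f.fiberι s z) (hflat _)
  obtain ⟨p, Q, hQ⟩ := c.exists_corr z hc
  obtain ⟨inv, hinv⟩ := hQ.exists_inv hz
  letI : Algebra p.asIdeal.ResidueField (c.Fib p) := Algebra.TensorProduct.rightAlgebra
  obtain ⟨_, _, _, h4⟩ := polynomial_fibre (R := c.R) (n := c.n) p.asIdeal.ResidueField
  refine (isAssPt_iff_mem_ass hQ).2 ((isAssPt_iff p.asIdeal.ResidueField _ h4 Q).2 ⟨inv, ?_⟩)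
  have := inv.d_le
  have := hinv.2 hmin
  omega

theorem inSupp_of_mem_ass (hF : CohB1.IsFP F) {s : Y} {z : f.fiber s}
    (hz : z ∈ AssSch.Ass ((Scheme.Modules.pullback (f.fiberι s)).obj F)) : InSupp f F z := by
  obtain ⟨c, hc⟩ := exists_chart f F hF (f.fiberι s z)
  obtain ⟨p, Q, hQ⟩ := c.exists_corr z hc
  exact hQ.inSupp_iff.2 (mem_support_of_isAssPt ((isAssPt_iff_mem_ass hQ).1 hz))

theorem exists_maximal_in_supp (hF : CohB1.IsFP F) {s : Y} {z : f.fiber s} (hz : InSupp f F z) :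
    ∃ z₀ : f.fiber s, z₀ ⤳ z ∧ InSupp f F z₀ ∧ ∀ z' : f.fiber s, z' ⤳ z₀ → InSupp f F z' → z' = z₀ := by
  obtain ⟨c, hc⟩ := exists_chart f F hF (f.fiberι s z)
  obtain ⟨p, Q, hQ⟩ := c.exists_corr z hc
  have hsup := hQ.inSupp_iff.1 hz
  rw [Module.support_eq_zeroLocus] at hsup
  obtain ⟨P₀, hP₀, hle⟩ := Ideal.exists_minimalPrimes_le hsup
  have hsup₀ : (⟨P₀, hP₀.1.1⟩ : PrimeSpectrum (c.Fib p)) ∈
      Module.support (c.Fib p) ((c.Fib p) ⊗[MvPolynomial (Fin c.n) c.R] c.M) := by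
    rw [Module.support_eq_zeroLocus]; exact hP₀.1.2
  obtain ⟨z₀, hz₀, hc₀⟩ := hQ.exists_of_le hle hsup₀
  refine ⟨z₀, hz₀, hc₀.inSupp_iff.2 hsup₀, fun z' hz' hzs => ?_⟩
  obtain ⟨Q', hle', hc'⟩ := hc₀.exists_of_specializes hz'
  have h2 := hc'.inSupp_iff.1 hzs
  rw [Module.support_eq_zeroLocus] at h2
  have : (⟨P₀, hP₀.1.1⟩ : PrimeSpectrum (c.Fib p)) = Q' := le_antisymm (hP₀.2 ⟨Q'.2, h2⟩ hle') hle'
  subst this
  exact hc₀.eq_of_corr hc'

theorem isClosed_inSupp (hF : CohB1.IsFP F) (hflat : FlatMod.IsFlatOver f F) :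
    IsClosed {x : X | InSupp f F (f.asFiber x)} := by
  rw [← isOpen_compl_iff]
  refine isOpen_setOf_property hF hflat (fun s z => ¬ InSupp f F z) fun c => ?_
  refine ⟨(Module.support (MvPolynomial (Fin c.n) c.R) c.M)ᶜ, (isClosed_support c.M).isOpen_compl,
    fun {s z p Q} h => ?_⟩
  rw [Set.mem_compl_iff, h.inSupp_iff, mem_support_baseChange_iff]

theorem isClosed_suppSet (hF : CohB1.IsFP F) (hflat : FlatMod.IsFlatOver f F) (s : Y) :
    IsClosed (suppSet f F s) := by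
  have : suppSet f F s = f.fiberι s ⁻¹' {x : X | InSupp f F (f.asFiber x)} := by
    ext z
    exact property_iff_asFiber (fun s z => InSupp f F z) z _ rfl
  rw [this]
  exact (isClosed_inSupp hF hflat).preimage (f.fiberι s).continuous

theorem cdim_subtype {X : Type u} [TopologicalSpace X] {T : Set X} (hT : IsClosed T) (z : T) :
    H8Props.FieldDim.cdim z = H8Props.FieldDim.cdim z.1 := by
  unfold H8Props.FieldDim.cdim
  rw [IsEmbedding.subtypeVal.closure_eq_preimage_closure_image, Set.image_singleton,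
    H8Props.FieldDim.dim_preimage IsEmbedding.subtypeVal, Subtype.range_coe,
    Set.inter_eq_left.2 (hT.closure_subset_iff.2 (Set.singleton_subset_iff.2 z.2))]

variable (f F) in
/-- The dimensions of the components of the support of the fibre. -/
theorem mem_componentDims_iff (hF : CohB1.IsFP F) (hflat : FlatMod.IsFlatOver f F) (s : Y) (d : WithBot ℕ∞) :
    (∃ Z ∈ irreducibleComponents ↥(suppSet f F s), topologicalKrullDim ↥Z = d) ↔
      ∃ z : f.fiber s, InSupp f F z ∧ (∀ z' : f.fiber s, z' ⤳ z → InSupp f F z' → z' = z) ∧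
        H8Props.FieldDim.cdim z = d := by
  haveI : QuasiSober ↥(suppSet f F s) :=
    (isClosed_suppSet hF hflat s).isClosedEmbedding_subtypeVal.quasiSober
  constructor
  · rintro ⟨Z, hZ, rfl⟩
    have hgen : IsGenericPoint hZ.1.genericPoint Z :=
      hZ.1.isGenericPoint_genericPoint (isClosed_of_mem_irreducibleComponents Z hZ)
    refine ⟨hZ.1.genericPoint.1, hZ.1.genericPoint.2, fun z' hz' hzs => ?_, ?_⟩
    · have h1 : (⟨z', hzs⟩ : ↥(suppSet f F s)) ⤳ hZ.1.genericPoint :=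
        (subtype_specializes_iff _ _).2 hz'
      have hsub : Z ⊆ closure {(⟨z', hzs⟩ : ↥(suppSet f F s))} := by
        rw [← hgen.def]
        exact closure_minimal (Set.singleton_subset_iff.2 h1.mem_closure) isClosed_closure
      have heq := le_antisymm hsub (hZ.2 isIrreducible_singleton.closure hsub)
      have h2 : hZ.1.genericPoint ⤳ (⟨z', hzs⟩ : ↥(suppSet f F s)) :=
        hgen.specializes (heq.ge (subset_closure rfl))
      exact (hz'.antisymm ((subtype_specializes_iff _ _).1 h2)).eq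
    · rw [← cdim_subtype (isClosed_suppSet hF hflat s) hZ.1.genericPoint]
      show topologicalKrullDim ↥(closure {hZ.1.genericPoint}) = _
      rw [hgen.def]
  · rintro ⟨z, hz, hmin, rfl⟩
    refine ⟨closure {(⟨z, hz⟩ : ↥(suppSet f F s))}, ⟨isIrreducible_singleton.closure, fun W hW hle => ?_⟩,
      cdim_subtype (isClosed_suppSet hF hflat s) ⟨z, hz⟩⟩
    have hW' : IsIrreducible (closure W) := hW.closure
    have hgen := hW'.isGenericPoint_genericPoint isClosed_closure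
    have h1 : hW'.genericPoint ⤳ (⟨z, hz⟩ : ↥(suppSet f F s)) :=
      hgen.specializes (subset_closure (hle (subset_closure rfl)))
    have h2 : hW'.genericPoint = (⟨z, hz⟩ : ↥(suppSet f F s)) :=
      Subtype.ext (hmin _ ((subtype_specializes_iff _ _).1 h1) hW'.genericPoint.2)
    rw [h2] at hgen
    rw [hgen.def]
    exact subset_closure

/-- EGA IV 12.2.1 (ii): the condition that some component of the support has dimension `m` is open. -/
theorem isOpen_setOf_exists_component (hF : CohB1.IsFP F) (hflat : FlatMod.IsFlatOver f F) (m : ℕ) :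
    IsOpen {y : Y | ∃ z : f.fiber y, InSupp f F z ∧
      (∀ z' : f.fiber y, z' ⤳ z → InSupp f F z' → z' = z) ∧ H8Props.FieldDim.cdim z = (m : WithBot ℕ∞)} := by
  let P : ∀ s : Y, f.fiber s → Prop := fun s z =>
    ∀ z' ∈ AssSch.Ass ((Scheme.Modules.pullback (f.fiberι s)).obj F), z ∈ closure {z'} →
      ∃ n ∈ ({m} : Finset ℕ), topologicalKrullDim (closure ({z'} : Set (f.fiber s))) = (n : WithBot ℕ∞)
  refine isOpen_iff_forall_mem_open.2 fun y ⟨z, hz, hmin, hdim⟩ => ?_
  obtain ⟨c, hxc, -⟩ := exists_flatChart f F hF (f.fiberι y z) (hflat _)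
  obtain ⟨S, hSo, hS⟩ := isOpen_assDims (f := f) (F := F) {m} c
  obtain ⟨p, Q, hQ⟩ := c.exists_corr z hxc
  have hPz : P y z := fun z' hz' hcl => ⟨m, Finset.mem_singleton_self m, by
    obtain rfl := hmin z' (specializes_iff_mem_closure.2 hcl) (inSupp_of_mem_ass hF hz')
    exact hdim⟩
  have hQS := (hS hQ).1 hPz
  obtain ⟨y₁, hy₁, hQy⟩ := hQ
  rw [hQy] at hQS
  have hys : f y₁.1 = y := hy₁ ▸ (f.range_fiberι y).subset (Set.mem_range_self z)
  obtain ⟨_, ⟨g, rfl⟩, hg₁, hgS⟩ :=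
    PrimeSpectrum.isTopologicalBasis_basic_opens.exists_subset_of_mem_open hQS hSo
  let I := PrimeSpectrum.comap (algebraMap c.R (MvPolynomial (Fin c.n) c.R)) ''
    ((PrimeSpectrum.basicOpen g : Set (PrimeSpectrum (MvPolynomial (Fin c.n) c.R))) ∩
      Module.support (MvPolynomial (Fin c.n) c.R) c.M)
  have hIo : IsOpen I := isOpen_comap_image_support c.M g
  refine ⟨Subtype.val '' (c.β ⁻¹' I), ?_, c.W.2.isOpenMap_subtype_val _ (hIo.preimage c.β.continuous),
    ⟨⟨f y₁.1, c.le y₁.2⟩, ⟨c.ψ y₁, ⟨hg₁, ?_⟩, c.comap_ψ y₁⟩, hys⟩⟩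
  · rintro _ ⟨w, ⟨Q₀, ⟨hQ₀g, hQ₀s⟩, hQ₀⟩, rfl⟩
    obtain ⟨y₂, rfl⟩ := c.support_subset hQ₀s
    rw [c.comap_ψ y₂] at hQ₀
    obtain rfl := c.β.injective hQ₀
    have hz₂ : f.fiberι (f y₂.1) (f.asFiber y₂.1) ∈ c.U := by rw [f.fiberι_asFiber]; exact y₂.2
    obtain ⟨p₂, Q₂, hQ₂⟩ := c.exists_corr (f.asFiber y₂.1) hz₂
    have hQ₂ψ : PrimeSpectrum.comap (algebraMap _ (c.Fib p₂)) Q₂ = c.ψ y₂ := by
      obtain ⟨y', hy', h'⟩ := hQ₂
      obtain rfl : y' = y₂ := Subtype.ext (hy'.symm.trans (f.fiberι_asFiber _))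
      exact h'
    have hP₂ : P _ (f.asFiber y₂.1) := (hS hQ₂).2 (hQ₂ψ ▸ hgS hQ₀g)
    have hs₂ : InSupp f F (f.asFiber y₂.1) := by
      rw [hQ₂.inSupp_iff, mem_support_baseChange_iff, hQ₂ψ]
      exact hQ₀s
    obtain ⟨z₀, hz₀, hz₀s, hz₀min⟩ := exists_maximal_in_supp hF hs₂
    obtain ⟨k, hk, hdim₀⟩ := hP₂ z₀ (mem_ass_of_maximal hF hflat hz₀s hz₀min) hz₀.mem_closure
    rw [Finset.mem_singleton.1 hk] at hdim₀
    exact ⟨z₀, hz₀s, hz₀min, hdim₀⟩
  · have := ((show c.Corr z Q from ⟨y₁, hy₁, hQy⟩).inSupp_iff).1 hz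
    rwa [mem_support_baseChange_iff, hQy] at this

/-- EGA IV 12.2.1 (ii): the dimensions of the components contain a given finite set. -/
theorem isOpen_setOf_componentDims_supset (hF : CohB1.IsFP F) (hflat : FlatMod.IsFlatOver f F) (D : Finset ℕ) :
    IsOpen {y : Y | ∀ n ∈ D, ∃ Z ∈ irreducibleComponents ↥(suppSet f F y),
      topologicalKrullDim ↥Z = (n : WithBot ℕ∞)} := by
  have : {y : Y | ∀ n ∈ D, ∃ Z ∈ irreducibleComponents ↥(suppSet f F y), topologicalKrullDim ↥Z = (n : WithBot ℕ∞)} =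
      ⋂ n ∈ (D : Set ℕ), {y : Y | ∃ z : f.fiber y, InSupp f F z ∧
        (∀ z' : f.fiber y, z' ⤳ z → InSupp f F z' → z' = z) ∧ H8Props.FieldDim.cdim z = (n : WithBot ℕ∞)} := by
    ext y
    simp only [Set.mem_iInter]
    exact forall₂_congr fun n _ => mem_componentDims_iff f F hF hflat y _
  rw [this]
  exact D.finite_toSet.isOpen_biInter fun n _ => isOpen_setOf_exists_component hF hflat n

theorem exists_cdim_eq (hF : CohB1.IsFP F) {s : Y} (z : f.fiber s) :
    ∃ t : ℕ, H8Props.FieldDim.cdim z = (t : WithBot ℕ∞) := by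
  obtain ⟨c, hc⟩ := exists_chart f F hF (f.fiberι s z)
  obtain ⟨p, Q, hQ⟩ := c.exists_corr z hc
  exact ⟨_, hQ.cdim_eq⟩

end Groth.Agent.H06EGA12
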