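import Groth.Agent.H06EGA12.SchemeConstr

/-!
# EGA IV 9.9.2 / 9.9.3: the standard constructible loci
-/

set_option autoImplicit false
set_option linter.style.haveILetI false
set_option linter.unusedVariables false
set_option maxSynthPendingDepth 4
set_option maxHeartbeats 1000000
set_option synthInstance.maxHeartbeats 400000
universe u

open CategoryTheory CategoryTheory.Limits AlgebraicGeometry TopologicalSpace TensorProduct Topology

namespace Groth.Agent.H06EGA12

theorem affineOpenDim_hasSk (k : ℕ) : AffineOpenDim.{u} fun _ A _ _ M _ _ => LocCoh.HasSk k A M :=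
  fun R _ n M _ _ _ _ _ _ => exists_open_hasSk (R := R) (n := n) M k

theorem affineOpenDim_cm : AffineOpenDim.{u} fun _ A _ _ M _ _ =>
    Subsingleton M ∨ LocCoh.IsCohenMacaulayModule A M :=
  fun R _ n M _ _ _ _ _ _ => exists_open_cm (R := R) (n := n) M

theorem affineOpenDim_coprof (k : ℕ) : AffineOpenDim.{u} fun _ A _ _ M _ _ =>
    Module.supportDim A M ≤ ((LocCoh.depth A M : ℕ∞) : WithBot ℕ∞) + k :=
  fun R _ n M _ _ _ _ _ _ => exists_open_supportDim_le_depth_add (R := R) (n := n) M k

theorem affineOpenDim_rectifiedDepth (N₀ : ℕ) : AffineOpenDim.{u} fun t A _ _ M _ _ =>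
    (N₀ : WithBot ℕ∞) ≤ ((LocCoh.depth A M : ℕ∞) : WithBot ℕ∞) + (t : WithBot ℕ∞) :=
  fun R _ n M _ _ _ _ _ _ => exists_open_le_depth_add (R := R) (n := n) M N₀

theorem semilinearInvariant_depth_eq_top : SemilinearInvariant.{u} fun A _ _ M _ _ => LocCoh.depth A M = ⊤ :=
  fun A O _ _ _ _ φ hφ M N _ _ _ _ e he => by
  dsimp only
  rw [(invariants_of_semilinear φ hφ e he).1]

theorem affineOpenDim_depth_eq_top : AffineOpenDim.{u} fun _ A _ _ M _ _ => LocCoh.depth A M = ⊤ :=
  fun R _ n M _ _ _ _ _ _ => by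
  refine ⟨(Module.support (MvPolynomial (Fin n) R) M)ᶜ, (isClosed_support M).isOpen_compl, fun K _ _ Q => ?_⟩
  letI : Algebra K ((MvPolynomial (Fin n) R) ⊗[R] K) := Algebra.TensorProduct.rightAlgebra
  obtain ⟨_, _, _, h4⟩ := polynomial_fibre (R := R) (n := n) K
  rw [Set.mem_compl_iff, ← cuts_support M K Q]
  constructor
  · intro h hQ
    obtain ⟨inv⟩ := nonempty_inv K h4 _ Q hQ
    have h' : ((inv.d : ℕ) : ℕ∞) = ⊤ := inv.depth_eq.symm.trans h
    exact ENat.natCast_ne_top _ h'
  · intro hQ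
    haveI := Module.notMem_support_iff.1 hQ
    exact H4Depth.idealDepth_eq_top (Subsingleton.elim _ _)

/-- EGA IV 9.9.2 for the fibre modules, loci not depending on the dimension. -/
theorem isLocallyConstructible_onFibre {X Y : Scheme.{u}} (f : X ⟶ Y) (F : X.Modules)
    [LocallyOfFinitePresentation f] (hF : CohB1.IsFP F)
    {Φ : ∀ (A : Type u) [CommRing A] [IsLocalRing A] (M : Type u) [AddCommGroup M] [Module A M], Prop}
    (hΦ : SemilinearInvariant Φ) (hA : AffineOpenDim fun _ => Φ) :
    IsLocallyConstructible {x : X | OnFibre f F Φ (f.asFiber x)} :=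
  isLocallyConstructible_onFibreDim (Φ := fun _ => Φ) f F hF (fun _ => hΦ) hA

theorem isLocallyConstructible_compl {X : Type u} [TopologicalSpace X] {s : Set X}
    (hs : IsLocallyConstructible s) : IsLocallyConstructible sᶜ := fun x => by
  obtain ⟨U, hU, hUo, hc⟩ := hs x
  exact ⟨U, hU, hUo, hc.compl⟩

end Groth.Agent.H06EGA12
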