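import Groth.Agent.H06EGA12.AffineLoci2
import Groth.Agent.H06EGA12.Chart
import Groth.Agent.S0389
import Groth.Agent.H06EGA11.Model
import Mathlib.RingTheory.Spectrum.Prime.Chevalley
import Mathlib.RingTheory.TensorProduct.MvPolynomial

/-!
# EGA IV 9.9: constructibility of the loci of fibre stalks, affine form, without flatness
-/

set_option autoImplicit false
set_option linter.style.haveILetI false
set_option linter.unusedVariables false
set_option maxSynthPendingDepth 4
set_option maxHeartbeats 1000000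
set_option synthInstance.maxHeartbeats 400000
universe u

open TensorProduct Topology

namespace Groth.Agent.H06EGA12

attribute [local instance] MvPolynomial.algebraMvPolynomial

variable (Φ : ℕ → ∀ (A : Type u) [CommRing A] [IsLocalRing A] (M : Type u) [AddCommGroup M] [Module A M], Prop)

/-- `Φ` at a point of the spectrum, the dimension of whose closure is an extra argument. -/
def AtPrime {F : Type u} [CommRing F] (N : Type u) [AddCommGroup N] [Module F N] (Q : PrimeSpectrum F) : Prop :=
  Φ (tdim Q) (Localization.AtPrime Q.asIdeal) (LocalizedModule Q.asIdeal.primeCompl N)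

/-- The affine input: openness, uniformly in the field, for flat modules. -/
def AffineOpenDim : Prop :=
  ∀ (R : Type u) [CommRing R] (n : ℕ) (M : Type u) [AddCommGroup M]
    [Module (MvPolynomial (Fin n) R) M] [Module R M] [IsScalarTower R (MvPolynomial (Fin n) R) M]
    [Module.FinitePresentation (MvPolynomial (Fin n) R) M] [Module.Flat R M],
    ∃ U : Set (PrimeSpectrum (MvPolynomial (Fin n) R)), IsOpen U ∧ Cuts U fun K _ _ Q =>
      AtPrime Φ (((MvPolynomial (Fin n) R) ⊗[R] K) ⊗[MvPolynomial (Fin n) R] M) Q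

variable {Φ}

theorem atPrime_iff_of_semilinear (hΦ : ∀ t, SemilinearInvariant (Φ t)) {F F' : Type u} [CommRing F]
    [CommRing F'] (ε : F ≃+* F') {N N' : Type u} [AddCommGroup N] [Module F N] [AddCommGroup N']
    [Module F' N'] (e : N ≃+ N') (he : ∀ (a : F) (m : N), e (a • m) = ε a • e m) (Q' : PrimeSpectrum F') :
    AtPrime Φ N' Q' ↔ AtPrime Φ N (PrimeSpectrum.comap ε.toRingHom Q') := by
  set Q := PrimeSpectrum.comap ε.toRingHom Q'
  letI : Algebra F F' := ε.toRingHom.toAlgebra
  letI : Module F N' := Module.compHom N' ε.toRingHom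
  haveI : IsScalarTower F F' N' := .of_algebraMap_smul fun _ _ => rfl
  have hsurj : Function.Surjective (algebraMap F F') := ε.surjective
  have ht : tdim Q' = tdim Q := by
    show ((ringKrullDim (F' ⧸ Q'.asIdeal)).unbotD 0).toNat = ((ringKrullDim (F ⧸ Q.asIdeal)).unbotD 0).toNat
    exact congrArg (fun x : WithBot ℕ∞ => (x.unbotD 0).toNat)
      (ringKrullDim_eq_of_ringEquiv (RingEquiv.ofBijective
        (Ideal.quotientMap Q'.asIdeal ε.toRingHom (le_refl (Q'.asIdeal.comap ε.toRingHom)))
        ⟨Ideal.quotientMap_injective, Ideal.quotientMap_surjective ε.surjective⟩)).symm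
  let O := Localization.AtPrime Q'.asIdeal
  let L := LocalizedModule Q'.asIdeal.primeCompl N'
  have hmap : Q.asIdeal.primeCompl.map ε.toMonoidHom = Q'.asIdeal.primeCompl := by
    ext a
    constructor
    · rintro ⟨b, hb, rfl⟩
      exact hb
    · intro ha
      refine ⟨ε.symm a, ?_, ε.apply_symm_apply a⟩
      show ε.symm a ∈ Q.asIdeal.primeCompl
      intro h
      apply ha
      have : ε (ε.symm a) ∈ Q'.asIdeal := h
      rwa [ε.apply_symm_apply] at this
  let φ : Localization.AtPrime Q.asIdeal ≃+* O :=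
    IsLocalization.ringEquivOfRingEquiv (M := Q.asIdeal.primeCompl) (T := Q'.asIdeal.primeCompl) _ _ ε hmap
  let φ' : Localization.AtPrime Q.asIdeal →ₐ[F] O :=
    { φ.toRingHom with
      commutes' := fun a => by
        show φ (algebraMap F _ a) = algebraMap F O a
        rw [IsScalarTower.algebraMap_apply F F' O]
        exact IsLocalization.ringEquivOfRingEquiv_eq _ _ }
  let l : N →ₗ[F] N' := { toFun := e, map_add' := e.map_add, map_smul' := fun a m => he a m }
  have hl : IsBaseChange F' l := by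
    have := IsBaseChange.comp_equiv (e.toLinearEquiv he) (LinearMap.id : N' →ₗ[F] N')
      (isBaseChange_id_of_surjective hsurj)
    exact this
  obtain ⟨e', he'⟩ := exists_semilinear
    (IsLocalizedModule.isBaseChange Q.asIdeal.primeCompl (Localization.AtPrime Q.asIdeal)
      (LocalizedModule.mkLinearMap Q.asIdeal.primeCompl N))
    (hl.comp (IsLocalizedModule.isBaseChange Q'.asIdeal.primeCompl O
      (LocalizedModule.mkLinearMap Q'.asIdeal.primeCompl N'))) φ' φ.surjective
    (fun a ha m => by rw [show a = 0 from (map_eq_zero_iff φ φ.injective).1 ha, zero_smul])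
  unfold AtPrime
  rw [ht]
  exact hΦ _ φ'.toRingHom φ.surjective e' he'

variable {n : ℕ}

/-- The fibre rings of a polynomial ring, computed after a change of base. -/
theorem exists_fibre_equiv {R₀ R K : Type u} [CommRing R₀] [CommRing R] [Field K] [Algebra R₀ R]
    [Algebra R₀ K] [Algebra R K] [IsScalarTower R₀ R K] :
    ∃ ε : (MvPolynomial (Fin n) R₀) ⊗[R₀] K ≃+* (MvPolynomial (Fin n) R) ⊗[R] K,
      ε.toRingHom.comp (algebraMap (MvPolynomial (Fin n) R₀) _) =
        (algebraMap (MvPolynomial (Fin n) R) _).comp (algebraMap (MvPolynomial (Fin n) R₀) (MvPolynomial (Fin n) R)) := by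
  let e₀ := (Algebra.TensorProduct.comm R₀ (MvPolynomial (Fin n) R₀) K).toRingEquiv.trans
    (MvPolynomial.algebraTensorAlgEquiv (σ := Fin n) R₀ K).toRingEquiv
  let e := (Algebra.TensorProduct.comm R (MvPolynomial (Fin n) R) K).toRingEquiv.trans
    (MvPolynomial.algebraTensorAlgEquiv (σ := Fin n) R K).toRingEquiv
  refine ⟨e₀.trans e.symm, RingHom.ext fun a => e.injective ?_⟩
  show e (e.symm (e₀ (a ⊗ₜ 1))) = e (MvPolynomial.map (algebraMap R₀ R) a ⊗ₜ 1)
  rw [e.apply_symm_apply]
  show MvPolynomial.algebraTensorAlgEquiv R₀ K ((1 : K) ⊗ₜ a) =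
    MvPolynomial.algebraTensorAlgEquiv R K ((1 : K) ⊗ₜ MvPolynomial.map (algebraMap R₀ R) a)
  rw [MvPolynomial.algebraTensorAlgEquiv_tmul, MvPolynomial.algebraTensorAlgEquiv_tmul,
    MvPolynomial.map_map, ← IsScalarTower.algebraMap_eq]

/-- Invariance of the loci under change of the base ring. -/
theorem atPrime_baseChange (hΦ : ∀ t, SemilinearInvariant (Φ t)) {R₀ R K : Type u} [CommRing R₀]
    [CommRing R] [Field K] [Algebra R₀ R] [Algebra R₀ K] [Algebra R K] [IsScalarTower R₀ R K]
    {M₀ M : Type u} [AddCommGroup M₀] [Module (MvPolynomial (Fin n) R₀) M₀] [AddCommGroup M]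
    [Module (MvPolynomial (Fin n) R) M] [Module (MvPolynomial (Fin n) R₀) M]
    [IsScalarTower (MvPolynomial (Fin n) R₀) (MvPolynomial (Fin n) R) M]
    {l : M₀ →ₗ[MvPolynomial (Fin n) R₀] M} (hl : IsBaseChange (MvPolynomial (Fin n) R) l)
    (ε : (MvPolynomial (Fin n) R₀) ⊗[R₀] K ≃+* (MvPolynomial (Fin n) R) ⊗[R] K)
    (hε : ε.toRingHom.comp (algebraMap (MvPolynomial (Fin n) R₀) _) =
      (algebraMap (MvPolynomial (Fin n) R) _).comp (algebraMap (MvPolynomial (Fin n) R₀) (MvPolynomial (Fin n) R)))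
    (Q : PrimeSpectrum ((MvPolynomial (Fin n) R) ⊗[R] K)) :
    AtPrime Φ (((MvPolynomial (Fin n) R) ⊗[R] K) ⊗[MvPolynomial (Fin n) R] M) Q ↔
      AtPrime Φ (((MvPolynomial (Fin n) R₀) ⊗[R₀] K) ⊗[MvPolynomial (Fin n) R₀] M₀)
        (PrimeSpectrum.comap ε.toRingHom Q) := by
  let P₀ := MvPolynomial (Fin n) R₀
  let P := MvPolynomial (Fin n) R
  let G₀ := P₀ ⊗[R₀] K
  let G := P ⊗[R] K
  let φ : G₀ →ₐ[P₀] G := { ε.toRingHom with commutes' := fun a => RingHom.congr_fun hε a }
  obtain ⟨e, he⟩ := exists_semilinear (TensorProduct.isBaseChange P₀ M₀ G₀)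
    (hl.comp (TensorProduct.isBaseChange P M G)) φ ε.surjective
    (fun a ha m => by rw [show a = 0 from (map_eq_zero_iff ε ε.injective).1 ha, zero_smul])
  exact atPrime_iff_of_semilinear hΦ ε e he Q

theorem comap_injective_of_away {A B : Type u} [CommRing A] [CommRing B] (π : A →+* B) {u : B}
    (hu : IsUnit u) (h : ∀ x : B, ∃ (k : ℕ) (p : A), x * u ^ k = π p) {v w : PrimeSpectrum B}
    (hvw : PrimeSpectrum.comap π v = PrimeSpectrum.comap π w) : v = w := by
  refine PrimeSpectrum.ext (Ideal.ext fun x => ?_)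
  obtain ⟨k, p, hp⟩ := h x
  have key : ∀ v : PrimeSpectrum B, x ∈ v.asIdeal ↔ p ∈ (PrimeSpectrum.comap π v).asIdeal := fun v => by
    show _ ↔ π p ∈ v.asIdeal
    rw [← hp, Ideal.mul_unit_mem_iff_mem _ (hu.pow k)]
  rw [key v, key w, hvw]

/-- A set cutting out the locus on the fields killing the ideal `I`. -/
def CutsOn (Φ : ℕ → ∀ (A : Type u) [CommRing A] [IsLocalRing A] (M : Type u) [AddCommGroup M] [Module A M], Prop)
    {R : Type u} [CommRing R] (M : Type u) [AddCommGroup M] [Module (MvPolynomial (Fin n) R) M] (I : Ideal R)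
    (S : Set (PrimeSpectrum (MvPolynomial (Fin n) R))) : Prop :=
  ∀ (K : Type u) [Field K] [Algebra R K], I ≤ RingHom.ker (algebraMap R K) →
    ∀ Q : PrimeSpectrum ((MvPolynomial (Fin n) R) ⊗[R] K),
      AtPrime Φ (((MvPolynomial (Fin n) R) ⊗[R] K) ⊗[MvPolynomial (Fin n) R] M) Q ↔
        PrimeSpectrum.comap (algebraMap (MvPolynomial (Fin n) R) _) Q ∈ S

theorem mem_comap_fibre_iff {R K : Type u} [CommRing R] [Field K] [Algebra R K]
    (Q : PrimeSpectrum ((MvPolynomial (Fin n) R) ⊗[R] K)) (r : R) :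
    PrimeSpectrum.comap (algebraMap (MvPolynomial (Fin n) R) _) Q ∈
        PrimeSpectrum.zeroLocus {algebraMap R (MvPolynomial (Fin n) R) r} ↔ algebraMap R K r = 0 := by
  rw [PrimeSpectrum.mem_zeroLocus, Set.singleton_subset_iff, SetLike.mem_coe]
  show algebraMap _ ((MvPolynomial (Fin n) R) ⊗[R] K) (algebraMap R _ r) ∈ Q.asIdeal ↔ _
  have h : algebraMap (MvPolynomial (Fin n) R) ((MvPolynomial (Fin n) R) ⊗[R] K) (algebraMap R _ r) =
      (1 : MvPolynomial (Fin n) R) ⊗ₜ algebraMap R K r := by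
    rw [← IsScalarTower.algebraMap_apply, Algebra.TensorProduct.algebraMap_apply,
      Algebra.algebraMap_eq_smul_one (A := MvPolynomial (Fin n) R), smul_tmul, ← Algebra.algebraMap_eq_smul_one]
  rw [h]
  refine ⟨fun hm => by_contra fun h0 => Q.2.ne_top (Ideal.eq_top_of_isUnit_mem _ hm ?_), fun h0 => ?_⟩
  · exact (isUnit_iff_ne_zero.2 h0).map (Algebra.TensorProduct.includeRight :
      K →ₐ[R] (MvPolynomial (Fin n) R) ⊗[R] K)
  · rw [h0, tmul_zero]; exact zero_mem _

theorem finitePresentation_map {R R' : Type u} [CommRing R] [IsNoetherianRing R] [CommRing R']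
    [Algebra R R'] [Algebra.FiniteType R R'] :
    (algebraMap (MvPolynomial (Fin n) R) (MvPolynomial (Fin n) R')).FinitePresentation := by
  rw [← RingHom.FinitePresentation.of_finiteType]
  have h : (algebraMap (MvPolynomial (Fin n) R) (MvPolynomial (Fin n) R')).comp
      (algebraMap R (MvPolynomial (Fin n) R)) = (algebraMap R (MvPolynomial (Fin n) R')) := by
    refine RingHom.ext fun r => ?_
    rw [MvPolynomial.algebraMap_def, RingHom.comp_apply, MvPolynomial.algebraMap_eq, MvPolynomial.map_C,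
      IsScalarTower.algebraMap_apply R R' (MvPolynomial (Fin n) R'), MvPolynomial.algebraMap_eq]
  refine RingHom.FiniteType.of_comp_finiteType (f := algebraMap R (MvPolynomial (Fin n) R)) ?_
  rw [h]
  exact RingHom.finiteType_algebraMap.2 (Algebra.FiniteType.trans (S := R') inferInstance inferInstance)

/-- The locus where the module becomes flat after a change of base. -/
theorem exists_cuts_of_flat_baseChange (hΦ : ∀ t, SemilinearInvariant (Φ t)) (hA : AffineOpenDim Φ)
    {R R' : Type u} [CommRing R] [IsNoetherianRing R] [CommRing R'] [Algebra R R']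
    [Algebra.FiniteType R R'] (a : R) (hu : IsUnit (algebraMap R R' a))
    (hsurj : ∀ r : R', ∃ (k : ℕ) (c : R), r * algebraMap R R' a ^ k = algebraMap R R' c)
    (M : Type u) [AddCommGroup M] [Module (MvPolynomial (Fin n) R) M]
    [Module.Finite (MvPolynomial (Fin n) R) M]
    [Module.Flat R' ((MvPolynomial (Fin n) R') ⊗[MvPolynomial (Fin n) R] M)] :
    ∃ S : Set (PrimeSpectrum (MvPolynomial (Fin n) R)), IsConstructible S ∧
      ∀ (K : Type u) [Field K] [Algebra R K] [Algebra R' K] [IsScalarTower R R' K]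
        (Q : PrimeSpectrum ((MvPolynomial (Fin n) R) ⊗[R] K)),
        AtPrime Φ (((MvPolynomial (Fin n) R) ⊗[R] K) ⊗[MvPolynomial (Fin n) R] M) Q ↔
          PrimeSpectrum.comap (algebraMap (MvPolynomial (Fin n) R) _) Q ∈ S := by
  haveI : IsNoetherianRing R' := Algebra.FiniteType.isNoetherianRing R R'
  let M' := (MvPolynomial (Fin n) R') ⊗[MvPolynomial (Fin n) R] M
  haveI : Module.FinitePresentation (MvPolynomial (Fin n) R') M' := Module.finitePresentation_of_finite _ _
  obtain ⟨U, hUo, hU⟩ := hA R' n M'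
  refine ⟨PrimeSpectrum.comap (algebraMap (MvPolynomial (Fin n) R) (MvPolynomial (Fin n) R')) '' U,
    PrimeSpectrum.isConstructible_comap_image finitePresentation_map
      ((show IsRetrocompact U from fun _ _ _ => TopologicalSpace.NoetherianSpace.isCompact _).isConstructible hUo),
    fun K _ _ _ _ Q => ?_⟩
  obtain ⟨ε, hε⟩ := exists_fibre_equiv (n := n) (R₀ := R) (R := R') (K := K)
  let Q' := PrimeSpectrum.comap ε.symm.toRingHom Q
  have hQQ : PrimeSpectrum.comap ε.toRingHom Q' = Q := by
    refine PrimeSpectrum.ext (Ideal.ext fun x => ?_)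
    simp [Q']
  have hQ' : PrimeSpectrum.comap (algebraMap (MvPolynomial (Fin n) R) (MvPolynomial (Fin n) R'))
      (PrimeSpectrum.comap (algebraMap (MvPolynomial (Fin n) R') _) Q') =
      PrimeSpectrum.comap (algebraMap (MvPolynomial (Fin n) R) _) Q := by
    rw [← PrimeSpectrum.comap_comp_apply, ← hε, PrimeSpectrum.comap_comp_apply, hQQ]
  have h1 := atPrime_baseChange hΦ (TensorProduct.isBaseChange (MvPolynomial (Fin n) R) M
    (MvPolynomial (Fin n) R')) ε hε Q'
  rw [hQQ] at h1
  refine h1.symm.trans ((hU K Q').trans ?_)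
  refine ⟨fun h => ⟨_, h, hQ'⟩, ?_⟩
  rintro ⟨v, hv, hve⟩
  rwa [← comap_injective_of_away (algebraMap (MvPolynomial (Fin n) R) (MvPolynomial (Fin n) R'))
    (u := algebraMap R' (MvPolynomial (Fin n) R') (algebraMap R R' a)) (hu.map _) ?_ (hve.trans hQ'.symm)]
  intro x
  induction x using MvPolynomial.induction_on with
  | C r =>
    obtain ⟨k, c, hc⟩ := hsurj r
    refine ⟨k, MvPolynomial.C c, ?_⟩
    rw [MvPolynomial.algebraMap_def, MvPolynomial.map_C, ← hc, map_mul, map_pow, MvPolynomial.algebraMap_eq]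
  | add p q hp hq =>
    obtain ⟨k, p', hp'⟩ := hp
    obtain ⟨l, q', hq'⟩ := hq
    refine ⟨k + l, p' * (MvPolynomial.C a) ^ l + q' * (MvPolynomial.C a) ^ k, ?_⟩
    rw [map_add, map_mul, map_mul, map_pow, map_pow, ← hp', ← hq', MvPolynomial.algebraMap_def,
      MvPolynomial.map_C, MvPolynomial.algebraMap_eq]
    ring
  | mul_X p i hp =>
    obtain ⟨k, p', hp'⟩ := hp
    refine ⟨k, p' * MvPolynomial.X i, ?_⟩
    rw [map_mul, ← hp', MvPolynomial.algebraMap_def, MvPolynomial.map_X]
    ring

/-- The generic step over a prime. -/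
theorem exists_cutsOn_generic (hΦ : ∀ t, SemilinearInvariant (Φ t)) (hA : AffineOpenDim Φ)
    {R : Type u} [CommRing R] [IsNoetherianRing R] (M : Type u) [AddCommGroup M]
    [Module (MvPolynomial (Fin n) R) M] [Module.Finite (MvPolynomial (Fin n) R) M]
    (I : Ideal R) [I.IsPrime] :
    ∃ (a : R) (S : Set (PrimeSpectrum (MvPolynomial (Fin n) R))), a ∉ I ∧ IsConstructible S ∧
      ∀ (K : Type u) [Field K] [Algebra R K], I ≤ RingHom.ker (algebraMap R K) → algebraMap R K a ≠ 0 →
        ∀ Q : PrimeSpectrum ((MvPolynomial (Fin n) R) ⊗[R] K),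
          AtPrime Φ (((MvPolynomial (Fin n) R) ⊗[R] K) ⊗[MvPolynomial (Fin n) R] M) Q ↔
            PrimeSpectrum.comap (algebraMap (MvPolynomial (Fin n) R) _) Q ∈ S := by
  let P := MvPolynomial (Fin n) R
  let D := R ⧸ I
  let PD := MvPolynomial (Fin n) D
  let MD := PD ⊗[P] M
  obtain ⟨f, hf0, hfree, -, -, -⟩ := S0389.result (R := D) (S := PD) (M := MD)
  obtain ⟨a, rfl⟩ := Ideal.Quotient.mk_surjective f
  let R' := Localization.Away (Ideal.Quotient.mk I a : D)
  let P' := MvPolynomial (Fin n) R'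
  haveI : Module.Free R' (R' ⊗[D] MD) := hfree
  haveI : IsScalarTower P PD P' := .of_algebraMap_eq' (by
    refine MvPolynomial.ringHom_ext (fun r => ?_) (fun i => ?_)
    · show MvPolynomial.map (algebraMap R R') (MvPolynomial.C r) =
        MvPolynomial.map (algebraMap D R') (MvPolynomial.map (algebraMap R D) (MvPolynomial.C r))
      rw [MvPolynomial.map_C, MvPolynomial.map_C, MvPolynomial.map_C, ← IsScalarTower.algebraMap_apply R D R']
    · show MvPolynomial.map (algebraMap R R') (MvPolynomial.X i) =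
        MvPolynomial.map (algebraMap D R') (MvPolynomial.map (algebraMap R D) (MvPolynomial.X i))
      rw [MvPolynomial.map_X, MvPolynomial.map_X, MvPolynomial.map_X])
  haveI : Module.Flat R' (P' ⊗[P] M) :=
    Module.Flat.of_linearEquiv (((AlgebraTensorModule.cancelBaseChange P PD P' P' M).symm.restrictScalars R').trans
      (Algebra.IsPushout.cancelBaseChange D R' PD P' MD))
  haveI : Algebra.FiniteType R R' := by
    haveI : Algebra.FiniteType D R' := IsLocalization.finiteType_of_monoid_fg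
      (Submonoid.powers (Ideal.Quotient.mk I a : D)) R'
    haveI : Algebra.FiniteType R D := Algebra.FiniteType.of_surjective (Algebra.ofId R D) Ideal.Quotient.mk_surjective
    exact Algebra.FiniteType.trans (S := D) inferInstance inferInstance
  obtain ⟨S, hSc, hS⟩ := exists_cuts_of_flat_baseChange (n := n) (R' := R') hΦ hA a
    (by
      rw [IsScalarTower.algebraMap_apply R D R']
      exact IsLocalization.Away.algebraMap_isUnit (S := R') (Ideal.Quotient.mk I a : D))
    (fun r => by
      obtain ⟨k, d, hr⟩ := IsLocalization.Away.surj (S := R') (Ideal.Quotient.mk I a : D) r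
      obtain ⟨c, rfl⟩ := Ideal.Quotient.mk_surjective d
      exact ⟨k, c, by rw [IsScalarTower.algebraMap_apply R D R', IsScalarTower.algebraMap_apply R D R' c]; exact hr⟩) M
  refine ⟨a, S, fun h => hf0 (Ideal.Quotient.eq_zero_iff_mem.2 h), hSc, fun K _ _ hI ha Q => ?_⟩
  letI : Algebra D K := (Ideal.Quotient.lift I (algebraMap R K) hI).toAlgebra
  haveI : IsScalarTower R D K := .of_algebraMap_eq fun _ => rfl
  letI : Algebra R' K := (IsLocalization.Away.lift (S := R') (Ideal.Quotient.mk I a : D)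
    (g := algebraMap D K) (isUnit_iff_ne_zero.2 ha)).toAlgebra
  haveI : IsScalarTower D R' K := .of_algebraMap_eq fun d => (IsLocalization.Away.lift_eq _ _ d).symm
  haveI : IsScalarTower R R' K := .to₁₃₄ R D R' K
  exact hS K Q

/-- EGA IV 9.9, affine form over a Noetherian ring. -/
theorem exists_cutsOn (hΦ : ∀ t, SemilinearInvariant (Φ t)) (hA : AffineOpenDim Φ)
    {R : Type u} [CommRing R] [IsNoetherianRing R] (M : Type u) [AddCommGroup M]
    [Module (MvPolynomial (Fin n) R) M] [Module.Finite (MvPolynomial (Fin n) R) M] (I : Ideal R) :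
    ∃ S : Set (PrimeSpectrum (MvPolynomial (Fin n) R)), IsConstructible S ∧ CutsOn (n := n) Φ M I S := by
  induction I using WellFoundedGT.induction with
  | _ I ih =>
  by_cases htop : I = ⊤
  · refine ⟨∅, IsConstructible.empty, fun K _ _ hI => absurd ?_ (one_ne_zero (α := K))⟩
    exact (map_one (algebraMap R K)).symm.trans (hI (htop ▸ Submodule.mem_top))
  by_cases hp : I.IsPrime
  · obtain ⟨a, S₁, ha, hS₁c, hS₁⟩ := exists_cutsOn_generic (n := n) hΦ hA M I
    obtain ⟨S₂, hS₂c, hS₂⟩ := ih (I ⊔ Ideal.span {a}) (lt_of_le_of_ne le_sup_left fun h =>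
      ha (h.ge ((le_sup_right : Ideal.span {a} ≤ _) (Ideal.mem_span_singleton_self a))))
    let V := PrimeSpectrum.zeroLocus {algebraMap R (MvPolynomial (Fin n) R) a}
    have hV : IsConstructible V := by
      simpa [V, PrimeSpectrum.basicOpen_eq_zeroLocus_compl] using
        (PrimeSpectrum.isConstructible_basicOpen (R := MvPolynomial (Fin n) R)
          (f := algebraMap R (MvPolynomial (Fin n) R) a)).compl
    refine ⟨(S₁ \ V) ∪ (S₂ ∩ V), (hS₁c.sdiff hV).union (hS₂c.inter hV), fun K _ _ hI Q => ?_⟩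
    have hVQ := mem_comap_fibre_iff Q a
    by_cases h : algebraMap R K a = 0
    · rw [hS₂ K (sup_le hI ((Ideal.span_singleton_le_iff_mem _).2 h)) Q]
      simp only [Set.mem_union, Set.mem_sdiff, Set.mem_inter_iff, V, hVQ.2 h]
      simp
    · rw [hS₁ K hI h Q]
      have : PrimeSpectrum.comap (algebraMap (MvPolynomial (Fin n) R) _) Q ∉ V := fun hm => h (hVQ.1 hm)
      simp [this]
  · obtain ⟨a, b, ha, hb, hab⟩ : ∃ a b, a ∉ I ∧ b ∉ I ∧ a * b ∈ I := by
      rw [Ideal.isPrime_iff] at hp
      push Not at hp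
      obtain ⟨a, b, hab, ha, hb⟩ := hp htop
      exact ⟨a, b, ha, hb, hab⟩
    obtain ⟨S₁, hS₁c, hS₁⟩ := ih (I ⊔ Ideal.span {a}) (lt_of_le_of_ne le_sup_left fun h =>
      ha (h.ge ((le_sup_right : Ideal.span {a} ≤ _) (Ideal.mem_span_singleton_self a))))
    obtain ⟨S₂, hS₂c, hS₂⟩ := ih (I ⊔ Ideal.span {b}) (lt_of_le_of_ne le_sup_left fun h =>
      hb (h.ge ((le_sup_right : Ideal.span {b} ≤ _) (Ideal.mem_span_singleton_self b))))
    let V := PrimeSpectrum.zeroLocus {algebraMap R (MvPolynomial (Fin n) R) a}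
    have hV : IsConstructible V := by
      simpa [V, PrimeSpectrum.basicOpen_eq_zeroLocus_compl] using
        (PrimeSpectrum.isConstructible_basicOpen (R := MvPolynomial (Fin n) R)
          (f := algebraMap R (MvPolynomial (Fin n) R) a)).compl
    refine ⟨(S₁ ∩ V) ∪ (S₂ \ V), (hS₁c.inter hV).union (hS₂c.sdiff hV), fun K _ _ hI Q => ?_⟩
    have hVQ := mem_comap_fibre_iff Q a
    by_cases h : algebraMap R K a = 0
    · rw [hS₁ K (sup_le hI ((Ideal.span_singleton_le_iff_mem _).2 h)) Q]
      simp only [Set.mem_union, Set.mem_sdiff, Set.mem_inter_iff, V, hVQ.2 h]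
      simp
    · have hb0 : algebraMap R K b = 0 := by
        have := hI hab
        rw [RingHom.mem_ker, map_mul] at this
        exact (mul_eq_zero.1 this).resolve_left h
      rw [hS₂ K (sup_le hI ((Ideal.span_singleton_le_iff_mem _).2 hb0)) Q]
      have : PrimeSpectrum.comap (algebraMap (MvPolynomial (Fin n) R) _) Q ∉ V := fun hm => h (hVQ.1 hm)
      simp [this]

theorem isConstructible_comap_preimage {A B : Type u} [CommRing A] [CommRing B] (f : A →+* B)
    {S : Set (PrimeSpectrum A)} (hS : IsConstructible S) : IsConstructible (PrimeSpectrum.comap f ⁻¹' S) := by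
  obtain ⟨C, hC⟩ := PrimeSpectrum.exists_constructibleSetData_iff.2 hS
  rw [← hC, ← PrimeSpectrum.ConstructibleSetData.toSet_map]
  exact PrimeSpectrum.ConstructibleSetData.isConstructible_toSet _

/-- EGA IV 9.9, affine form: constructibility, uniformly in the field, for all finitely presented modules. -/
theorem exists_constructible_cuts (hΦ : ∀ t, SemilinearInvariant (Φ t)) (hA : AffineOpenDim Φ)
    {R : Type u} [CommRing R] (M : Type u) [AddCommGroup M] [Module (MvPolynomial (Fin n) R) M]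
    [Module.FinitePresentation (MvPolynomial (Fin n) R) M] :
    ∃ S : Set (PrimeSpectrum (MvPolynomial (Fin n) R)), IsConstructible S ∧ Cuts S fun K _ _ Q =>
      AtPrime Φ (((MvPolynomial (Fin n) R) ⊗[R] K) ⊗[MvPolynomial (Fin n) R] M) Q := by
  classical
  let P := MvPolynomial (Fin n) R
  obtain ⟨r, N, e, hN⟩ := Module.FinitePresentation.exists_fin P M
  obtain ⟨m, w, hw⟩ := Submodule.fg_iff_exists_fin_generating_family.1 hN
  let s : Set R := ⋃ i, ⋃ j, ((w i j).coeffs : Set R)
  have hs : s.Finite := Set.finite_iUnion fun i => Set.finite_iUnion fun j => Finset.finite_toSet _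
  let R₀ := Algebra.adjoin ℤ s
  haveI : Algebra.FiniteType ℤ R₀ :=
    (Subalgebra.fg_iff_finiteType _).1 ⟨hs.toFinset, by rw [hs.coe_toFinset]⟩
  haveI : IsNoetherianRing R₀ := Algebra.FiniteType.isNoetherianRing ℤ R₀
  have hc : ∀ i j, ∃ c : MvPolynomial (Fin n) R₀, MvPolynomial.map (algebraMap R₀ R) c = w i j := fun i j => by
    apply MvPolynomial.mem_range_map_iff_coeffs_subset.2
    intro a ha
    exact ⟨⟨a, Algebra.subset_adjoin (Set.mem_iUnion₂.2 ⟨i, j, ha⟩)⟩, rfl⟩
  choose c hc using hc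
  let v : Fin r → M := fun j => e.symm (Submodule.Quotient.mk (Pi.single j 1))
  have hv : ∀ x : Fin r → P, e.symm (Submodule.Quotient.mk x) = ∑ j, x j • v j := fun x => by
    conv_lhs => rw [pi_eq_sum_univ' x]
    rw [← Submodule.mkQ_apply, map_sum, map_sum]
    simp only [map_smul, v, Submodule.mkQ_apply]
  obtain ⟨e₀⟩ := H06EGA11.exists_linearEquiv_baseChange (P₀ := MvPolynomial (Fin n) R₀) (S := P) v c
    (top_unique fun x _ => by
      obtain ⟨y, hy⟩ := Submodule.Quotient.mk_surjective _ (e x)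
      rw [← e.symm_apply_apply x, ← hy, hv]
      exact Submodule.sum_mem _ fun j _ => Submodule.smul_mem _ _ (Submodule.subset_span ⟨j, rfl⟩))
    (fun i => by
      show ∑ j, MvPolynomial.map (algebraMap R₀ R) (c i j) • v j = 0
      simp only [hc]
      rw [← hv, (Submodule.Quotient.mk_eq_zero _).2 (hw ▸ Submodule.subset_span ⟨i, rfl⟩), map_zero])
    (fun a ha => by
      rw [← hv, LinearEquiv.map_eq_zero_iff, Submodule.Quotient.mk_eq_zero, ← hw] at ha
      show a ∈ Submodule.span P (Set.range fun i j => MvPolynomial.map (algebraMap R₀ R) (c i j))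
      simp only [hc]
      exact ha)
  let M₀ := (Fin r → MvPolynomial (Fin n) R₀) ⧸ Submodule.span (MvPolynomial (Fin n) R₀) (Set.range c)
  letI : Module (MvPolynomial (Fin n) R₀) M := Module.compHom M (algebraMap (MvPolynomial (Fin n) R₀) P)
  haveI : IsScalarTower (MvPolynomial (Fin n) R₀) P M := .of_algebraMap_smul fun _ _ => rfl
  let l : M₀ →ₗ[MvPolynomial (Fin n) R₀] M :=
    (e₀.toLinearMap.restrictScalars (MvPolynomial (Fin n) R₀)).comp
      (TensorProduct.mk (MvPolynomial (Fin n) R₀) P M₀ 1)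
  have hl : IsBaseChange P l := IsBaseChange.of_equiv e₀ fun _ => rfl
  obtain ⟨S₀, hS₀c, hS₀⟩ := exists_cutsOn (n := n) hΦ hA M₀ (⊥ : Ideal R₀)
  refine ⟨_, isConstructible_comap_preimage (algebraMap (MvPolynomial (Fin n) R₀) P) hS₀c, fun K _ _ Q => ?_⟩
  obtain ⟨ε, hε⟩ := exists_fibre_equiv (n := n) (R₀ := R₀) (R := R) (K := K)
  refine (atPrime_baseChange hΦ hl ε hε Q).trans ((hS₀ K bot_le _).trans ?_)
  rw [Set.mem_preimage, ← PrimeSpectrum.comap_comp_apply, hε, PrimeSpectrum.comap_comp_apply]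

end Groth.Agent.H06EGA12
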