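import Groth.Agent.H06EGA12.Points
import Groth.Agent.H06EGA12.AffineLoci2
import Groth.Prelude.Def_FDesc

/-!
# EGA IV 12.1.1 / 12.2.1: depth, codepth and associated points of the fibres
-/

set_option autoImplicit false
set_option linter.style.haveILetI false
set_option linter.unusedVariables false
set_option maxSynthPendingDepth 4
universe u

open CategoryTheory CategoryTheory.Limits AlgebraicGeometry TopologicalSpace TensorProduct IsLocalRing

namespace Groth.Agent.H06EGA12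

variable {X Y : Scheme.{u}} {f : X ⟶ Y} {F : X.Modules}

theorem property_iff_asFiber (P : ∀ s : Y, f.fiber s → Prop) {s : Y} (z : f.fiber s) (x : X)
    (hx : f.fiberι s z = x) : P s z ↔ P (f x) (f.asFiber x) := by
  obtain rfl : f x = s := by rw [← hx]; exact (f.range_fiberι s).subset (Set.mem_range_self z)
  obtain rfl : z = f.asFiber x :=
    (f.fiberι (f x)).isEmbedding.injective (hx.trans (f.fiberι_asFiber x).symm)
  rfl

/-- A property of points of the fibres cut out by open sets in the charts is open. -/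
theorem isOpen_setOf_flat_and_property [LocallyOfFinitePresentation f] (hF : CohB1.IsFP F)
    (P : ∀ s : Y, f.fiber s → Prop)
    (h : ∀ c : FlatChart f F, ∃ S : Set (PrimeSpectrum (MvPolynomial (Fin c.n) c.R)), IsOpen S ∧
      ∀ {s : Y} {z : f.fiber s} {p : PrimeSpectrum c.R} {Q : PrimeSpectrum (c.Fib p)}, c.Corr z Q →
        (P s z ↔ PrimeSpectrum.comap (algebraMap (MvPolynomial (Fin c.n) c.R) (c.Fib p)) Q ∈ S)) :
    IsOpen {x : X | FlatMod.IsFlatOverAt f F x ∧ P (f x) (f.asFiber x)} := by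
  refine isOpen_iff_forall_mem_open.2 fun x hx => ?_
  obtain ⟨c, hxc, hfl⟩ := exists_flatChart f F hF x hx.1
  obtain ⟨S, hSo, hS⟩ := h c
  have key : ∀ y : c.U, P (f y.1) (f.asFiber y.1) ↔ c.ψ y ∈ S := by
    intro y
    have hy : f.fiberι (f y.1) (f.asFiber y.1) ∈ c.U := by rw [f.fiberι_asFiber]; exact y.2
    obtain ⟨p, Q, hQ⟩ := c.exists_corr (f.asFiber y.1) hy
    obtain ⟨y', hy', hQ'⟩ := hQ
    obtain rfl : y' = y := Subtype.ext (hy'.symm.trans (f.fiberι_asFiber _))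
    rw [hS ⟨y', hy', hQ'⟩, hQ']
  refine ⟨Subtype.val '' (c.ψ ⁻¹' S), ?_, c.U.2.isOpenMap_subtype_val _
    (hSo.preimage c.isClosedEmbedding.continuous), ⟨⟨x, hxc⟩, (key ⟨x, hxc⟩).1 hx.2, rfl⟩⟩
  rintro _ ⟨y, hy, rfl⟩
  exact ⟨hfl _ y.2, (key y).2 hy⟩

theorem isOpen_setOf_property [LocallyOfFinitePresentation f] (hF : CohB1.IsFP F)
    (hflat : FlatMod.IsFlatOver f F) (P : ∀ s : Y, f.fiber s → Prop)
    (h : ∀ c : FlatChart f F, ∃ S : Set (PrimeSpectrum (MvPolynomial (Fin c.n) c.R)), IsOpen S ∧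
      ∀ {s : Y} {z : f.fiber s} {p : PrimeSpectrum c.R} {Q : PrimeSpectrum (c.Fib p)}, c.Corr z Q →
        (P s z ↔ PrimeSpectrum.comap (algebraMap (MvPolynomial (Fin c.n) c.R) (c.Fib p)) Q ∈ S)) :
    IsOpen {x : X | P (f x) (f.asFiber x)} := by
  simpa [hflat _] using isOpen_setOf_flat_and_property hF P h

theorem isOpen_setOf_forall_property [LocallyOfFinitePresentation f] [IsProper f] (hF : CohB1.IsFP F)
    (hflat : FlatMod.IsFlatOver f F) (P : ∀ s : Y, f.fiber s → Prop)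
    (h : ∀ c : FlatChart f F, ∃ S : Set (PrimeSpectrum (MvPolynomial (Fin c.n) c.R)), IsOpen S ∧
      ∀ {s : Y} {z : f.fiber s} {p : PrimeSpectrum c.R} {Q : PrimeSpectrum (c.Fib p)}, c.Corr z Q →
        (P s z ↔ PrimeSpectrum.comap (algebraMap (MvPolynomial (Fin c.n) c.R) (c.Fib p)) Q ∈ S)) :
    IsOpen {y : Y | ∀ z : f.fiber y, P y z} := by
  have hA := isOpen_setOf_property hF hflat P h
  have : {y : Y | ∀ z : f.fiber y, P y z} = (f '' {x : X | P (f x) (f.asFiber x)}ᶜ)ᶜ := by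
    ext y
    constructor
    · rintro hy ⟨x, hx, rfl⟩
      exact hx ((property_iff_asFiber P (f.asFiber x) x (f.fiberι_asFiber x)).1 (hy _))
    · intro hy z
      refine (property_iff_asFiber P z _ rfl).2 (not_not.1 fun hx => hy ⟨f.fiberι y z, hx, ?_⟩)
      exact (f.range_fiberι y).subset (Set.mem_range_self z)
  rw [this]
  exact (f.isClosedMap _ hA.isClosed_compl).isOpen_compl

theorem semilinearInvariant_le_depth_add (N₀ : ℕ) (t : WithBot ℕ∞) : SemilinearInvariant.{u} fun A _ _ M _ _ =>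
    (N₀ : WithBot ℕ∞) ≤ ((LocCoh.depth A M : ℕ∞) : WithBot ℕ∞) + t := fun A O _ _ _ _ φ hφ M N _ _ _ _ e he => by
  dsimp only
  rw [(invariants_of_semilinear φ hφ e he).1]

theorem semilinearInvariant_supportDim_le (k : ℕ) : SemilinearInvariant.{u} fun A _ _ M _ _ =>
    Module.supportDim A M ≤ ((LocCoh.depth A M : ℕ∞) : WithBot ℕ∞) + k :=
  fun A O _ _ _ _ φ hφ M N _ _ _ _ e he => by
  dsimp only
  rw [(invariants_of_semilinear φ hφ e he).1, (invariants_of_semilinear φ hφ e he).2.1]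

theorem semilinearInvariant_assPt : SemilinearInvariant.{u} fun A _ _ M _ _ =>
    IsAssociatedPrime (maximalIdeal A) M := fun A O _ _ _ _ φ hφ M N _ _ _ _ e he => by
  haveI := hφ.isLocalHom
  have hmax : maximalIdeal A = (maximalIdeal O).comap φ := by
    have h04 : IsLocalHom φ ↔ (maximalIdeal O).comap φ = maximalIdeal A := (local_hom_TFAE φ).out 0 4
    exact (h04.1 ‹_›).symm
  have hcolon : ∀ m : M, Submodule.colon (⊥ : Submodule A M) {m} =
      (Submodule.colon (⊥ : Submodule O N) {e m}).comap φ := fun m => by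
    ext a
    simp only [Submodule.mem_colon_singleton, Submodule.mem_bot, Ideal.mem_comap, ← he, map_eq_zero_iff e e.injective]
  constructor
  · rintro ⟨hp, y, hy⟩
    obtain ⟨m, rfl⟩ := e.surjective y
    refine ⟨hmax ▸ (maximalIdeal.isMaximal A).isPrime, m, ?_⟩
    rw [hmax, hy, hcolon, Ideal.comap_radical]
  · rintro ⟨hp, m, hm⟩
    refine ⟨(maximalIdeal.isMaximal O).isPrime, e m, ?_⟩
    apply Ideal.comap_injective_of_surjective φ hφ
    rw [← hmax, hm, hcolon, Ideal.comap_radical]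

theorem isOpen_le_depth_add [LocallyOfFinitePresentation f] (hF : CohB1.IsFP F)
    (hflat : FlatMod.IsFlatOver f F) (N₀ : ℕ) (c : FlatChart f F) :
    ∃ S : Set (PrimeSpectrum (MvPolynomial (Fin c.n) c.R)), IsOpen S ∧
      ∀ {s : Y} {z : f.fiber s} {p : PrimeSpectrum c.R} {Q : PrimeSpectrum (c.Fib p)}, c.Corr z Q →
        ((N₀ : WithBot ℕ∞) ≤ ((LocCoh.depth ((f.fiber s).presheaf.stalk z)
          (((Scheme.Modules.pullback (f.fiberι s)).obj F).presheaf.stalk z) : ℕ∞) : WithBot ℕ∞) +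
            topologicalKrullDim (closure ({z} : Set (f.fiber s))) ↔
          PrimeSpectrum.comap (algebraMap (MvPolynomial (Fin c.n) c.R) (c.Fib p)) Q ∈ S) := by
  obtain ⟨S, hSo, hS⟩ := exists_open_le_depth_add (R := c.R) (n := c.n) c.M N₀
  refine ⟨S, hSo, fun {s z p Q} h => ?_⟩
  rw [show topologicalKrullDim (closure ({z} : Set (f.fiber s))) = _ from h.cdim_eq]
  exact (h.onFibre_iff (semilinearInvariant_le_depth_add N₀ _)).trans (hS _ Q)

theorem isOpen_supportDim_le [LocallyOfFinitePresentation f] (k : ℕ) (c : FlatChart f F) :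
    ∃ S : Set (PrimeSpectrum (MvPolynomial (Fin c.n) c.R)), IsOpen S ∧
      ∀ {s : Y} {z : f.fiber s} {p : PrimeSpectrum c.R} {Q : PrimeSpectrum (c.Fib p)}, c.Corr z Q →
        (OnFibre f F (fun A _ _ M _ _ => Module.supportDim A M ≤ ((LocCoh.depth A M : ℕ∞) : WithBot ℕ∞) + k) z ↔
          PrimeSpectrum.comap (algebraMap (MvPolynomial (Fin c.n) c.R) (c.Fib p)) Q ∈ S) := by
  obtain ⟨S, hSo, hS⟩ := exists_open_supportDim_le_depth_add (R := c.R) (n := c.n) c.M k
  exact ⟨S, hSo, fun {s z p Q} h => (h.onFibre_iff (semilinearInvariant_supportDim_le k)).trans (hS _ Q)⟩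

theorem isAssPt_iff_mem_ass {c : Chart f F} {s : Y} {z : f.fiber s} {p : PrimeSpectrum c.R}
    {Q : PrimeSpectrum (c.Fib p)} (h : c.Corr z Q) :
    z ∈ AssSch.Ass ((Scheme.Modules.pullback (f.fiberι s)).obj F) ↔
      IsAssPt ((c.Fib p) ⊗[MvPolynomial (Fin c.n) c.R] c.M) Q :=
  h.onFibre_iff semilinearInvariant_assPt

theorem mem_support_of_isAssPt {F : Type u} [CommRing F] {N : Type u} [AddCommGroup N] [Module F N]
    {Q : PrimeSpectrum F} (h : IsAssPt N Q) : Q ∈ Module.support F N := by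
  by_contra hc
  haveI := Module.notMem_support_iff.1 hc
  obtain ⟨hp, m, hm⟩ := h
  refine hp.ne_top (hm.trans (top_le_iff.1 fun a _ => Ideal.le_radical ?_))
  rw [Submodule.mem_colon_singleton]
  exact Subsingleton.elim _ _

theorem isOpen_assDims [LocallyOfFinitePresentation f] (D : Finset ℕ) (c : FlatChart f F) :
    ∃ S : Set (PrimeSpectrum (MvPolynomial (Fin c.n) c.R)), IsOpen S ∧
      ∀ {s : Y} {z : f.fiber s} {p : PrimeSpectrum c.R} {Q : PrimeSpectrum (c.Fib p)}, c.Corr z Q →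
        ((∀ z' ∈ AssSch.Ass ((Scheme.Modules.pullback (f.fiberι s)).obj F), z ∈ closure {z'} →
            ∃ n ∈ D, topologicalKrullDim (closure ({z'} : Set (f.fiber s))) = (n : WithBot ℕ∞)) ↔
          PrimeSpectrum.comap (algebraMap (MvPolynomial (Fin c.n) c.R) (c.Fib p)) Q ∈ S) := by
  obtain ⟨S, hSo, hS⟩ := exists_open_assDims (R := c.R) (n := c.n) c.M D
  refine ⟨S, hSo, fun {s z p Q} h => Iff.trans ?_ (hS _ Q)⟩
  constructor
  · intro H Q' hle hass
    obtain ⟨z', hz', hc'⟩ := h.exists_of_le hle (mem_support_of_isAssPt hass)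
    obtain ⟨n, hn, hdim⟩ := H z' ((isAssPt_iff_mem_ass hc').2 hass) (specializes_iff_mem_closure.1 hz')
    rw [show topologicalKrullDim (closure ({z'} : Set (f.fiber s))) = _ from hc'.cdim_eq] at hdim
    rwa [show tdim Q' = n by exact_mod_cast hdim]
  · intro H z' hz' hcl
    obtain ⟨Q', hle, hc'⟩ := h.exists_of_specializes (specializes_iff_mem_closure.2 hcl)
    exact ⟨_, H Q' hle ((isAssPt_iff_mem_ass hc').1 hz'), hc'.cdim_eq⟩

theorem isOpen_noEmbedded [LocallyOfFinitePresentation f] (c : FlatChart f F) :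
    ∃ S : Set (PrimeSpectrum (MvPolynomial (Fin c.n) c.R)), IsOpen S ∧
      ∀ {s : Y} {z : f.fiber s} {p : PrimeSpectrum c.R} {Q : PrimeSpectrum (c.Fib p)}, c.Corr z Q →
        ((∀ z₁ ∈ AssSch.Ass ((Scheme.Modules.pullback (f.fiberι s)).obj F), z ∈ closure {z₁} →
            ∀ z' ∈ AssSch.Ass ((Scheme.Modules.pullback (f.fiberι s)).obj F), z₁ ∈ closure {z'} → z' = z₁) ↔
          PrimeSpectrum.comap (algebraMap (MvPolynomial (Fin c.n) c.R) (c.Fib p)) Q ∈ S) := by
  obtain ⟨S, hSo, hS⟩ := exists_open_noEmbedded (R := c.R) (n := c.n) c.M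
  refine ⟨S, hSo, fun {s z p Q} h => Iff.trans ?_ (hS _ Q)⟩
  constructor
  · intro H Q₁ hle₁ hass₁ Q₂ hle₂ hass₂
    obtain ⟨z₁, hz₁, hc₁⟩ := h.exists_of_le hle₁ (mem_support_of_isAssPt hass₁)
    obtain ⟨z₂, hz₂, hc₂⟩ := hc₁.exists_of_le hle₂ (mem_support_of_isAssPt hass₂)
    obtain rfl := H z₁ ((isAssPt_iff_mem_ass hc₁).2 hass₁) (specializes_iff_mem_closure.1 hz₁) z₂
      ((isAssPt_iff_mem_ass hc₂).2 hass₂) (specializes_iff_mem_closure.1 hz₂)
    exact le_antisymm hle₂ ((hc₂.le_iff hc₁).2 (specializes_rfl))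
  · intro H z₁ hz₁ hcl₁ z₂ hz₂ hcl₂
    obtain ⟨Q₁, hle₁, hc₁⟩ := h.exists_of_specializes (specializes_iff_mem_closure.2 hcl₁)
    obtain ⟨Q₂, hle₂, hc₂⟩ := hc₁.exists_of_specializes (specializes_iff_mem_closure.2 hcl₂)
    obtain rfl := H Q₁ hle₁ ((isAssPt_iff_mem_ass hc₁).1 hz₁) Q₂ hle₂ ((isAssPt_iff_mem_ass hc₂).1 hz₂)
    obtain ⟨y₁, hy₁, h₁⟩ := hc₁
    obtain ⟨y₂, hy₂, h₂⟩ := hc₂
    apply (f.fiberι s).isEmbedding.injective
    rw [hy₁, hy₂, c.isClosedEmbedding.injective (h₂.symm.trans h₁)]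

end Groth.Agent.H06EGA12
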