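import Groth.Agent.H06EGA12.GeomRkLocus
import Groth.Agent.H06EGA12.Scheme2

/-!
# Constructibility of the locus where the fibres are equidimensional (EGA IV 9.8.4, 9.9.1)
-/

set_option autoImplicit false
set_option linter.style.haveILetI false
set_option backward.isDefEq.respectTransparency false
universe u

open CategoryTheory CategoryTheory.Limits AlgebraicGeometry TopologicalSpace Topology

namespace Groth.Agent.H06EGA12

open H8Props.FieldDim H06EGA9

variable {X S : Scheme.{u}}

/-- The points with a generization in the fibre of smaller local dimension. -/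
def dimBad (f : X ⟶ S) : Set X :=
  {x | ∃ z, f z = f x ∧ z ⤳ x ∧ FlatMor.fibreDimAt f z < FlatMor.fibreDimAt f x}

theorem dimBad_comp_openImmersion {V : Scheme.{u}} (a : V ⟶ X) [IsOpenImmersion a]
    (f : X ⟶ S) [LocallyOfFiniteType f] : dimBad (a ≫ f) = a ⁻¹' dimBad f := by
  ext v
  constructor
  · rintro ⟨z, hf, hs, hd⟩
    refine ⟨a z, by rw [← Scheme.Hom.comp_apply, hf, Scheme.Hom.comp_apply], hs.map a.continuous, ?_⟩
    rwa [← fibreDimAt_openImmersion_comp a f z, ← fibreDimAt_openImmersion_comp a f v]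
  · rintro ⟨z, hf, hs, hd⟩
    obtain ⟨z', rfl⟩ : z ∈ Set.range a := hs.mem_open a.isOpenEmbedding.isOpen_range ⟨v, rfl⟩
    refine ⟨z', by rw [Scheme.Hom.comp_apply, hf, Scheme.Hom.comp_apply],
      a.isOpenEmbedding.isInducing.specializes_iff.mp hs, ?_⟩
    rwa [fibreDimAt_openImmersion_comp a f z', fibreDimAt_openImmersion_comp a f v]

theorem dimBad_comp_openImmersion_right {T : Scheme.{u}} (f : X ⟶ S) [LocallyOfFiniteType f]
    (j : S ⟶ T) [IsOpenImmersion j] : dimBad (f ≫ j) = dimBad f := by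
  ext v
  constructor
  · rintro ⟨z, hf, hs, hd⟩
    refine ⟨z, j.isOpenEmbedding.injective hf, hs, ?_⟩
    rwa [← fibreDimAt_comp_openImmersion f j z, ← fibreDimAt_comp_openImmersion f j v]
  · rintro ⟨z, hf, hs, hd⟩
    refine ⟨z, congrArg j hf, hs, ?_⟩
    rwa [fibreDimAt_comp_openImmersion f j z, fibreDimAt_comp_openImmersion f j v]

theorem isConstructible_dimBad_affine {R A : CommRingCat.{u}} (φ : Spec A ⟶ Spec R)
    [LocallyOfFinitePresentation φ] : IsConstructible (dimBad φ) := by
  classical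
  let Le : ℕ → Set (Spec A) := fun d => {x | FlatMor.fibreDimAt φ x ≤ (d : ℕ)}
  obtain ⟨t, ht⟩ := isCompact_univ.elim_finite_subcover Le (fun k => H7Flat.isOpen_fibreDimAt_le' φ _)
    (fun x _ => Set.mem_iUnion.2 ((exists_fibreDimAt_eq φ x).imp fun d hd => hd.le))
  let M := t.sup id
  have hLe : ∀ d, IsConstructible (Le d) := fun d =>
    (H06EGA15.isLocallyConstructible_fibreDimAt_le φ _).isConstructible
  have heq : dimBad φ = ⋃ d ∈ Finset.range (M + 1), fibClosure φ (Le d) ∩ (Le d)ᶜ := by
    ext x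
    constructor
    · rintro ⟨z, hf, hs, hd⟩
      obtain ⟨d, hz⟩ := exists_fibreDimAt_eq φ z
      obtain ⟨k, hk, hzk⟩ := Set.mem_iUnion₂.mp (ht (Set.mem_univ z))
      have hdk : d ≤ k := by
        have h1 : (d : WithBot ℕ∞) ≤ (k : ℕ) := hz ▸ hzk
        exact_mod_cast h1
      refine Set.mem_iUnion₂.2 ⟨d, Finset.mem_range.2 (Nat.lt_succ_of_le (hdk.trans (Finset.le_sup (f := id) hk))),
        closure_mono (Set.singleton_subset_iff.2 (show z ∈ Le d ∩ φ ⁻¹' {φ x} from ⟨hz.le, hf⟩)) (specializes_iff_mem_closure.mp hs), fun hc => ?_⟩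
      exact not_le.2 (hz ▸ hd) hc
    · intro hx
      obtain ⟨d, -, hcl, hgt⟩ := Set.mem_iUnion₂.mp hx
      have hE' : IsConstructible (φ.fiberι (φ x) ⁻¹' Le d) := (φ.fiberι (φ x)).isConstructible_preimage (hLe d)
      have hxE : φ.asFiber x ∈ closure (φ.fiberι (φ x) ⁻¹' Le d) := by
        rw [(φ.fiberι (φ x)).isEmbedding.isInducing.closure_eq_preimage_closure_image, Set.mem_preimage,
          φ.fiberι_asFiber, Set.image_preimage_eq_inter_range, φ.range_fiberι]
        exact hcl
      obtain ⟨e', he', hse⟩ := H06Proper.exists_specializes_of_mem_closure' hE'.isLocallyConstructible hxE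
      refine ⟨φ.fiberι (φ x) e', (φ.range_fiberι (φ x)).subset (Set.mem_range_self e'), ?_,
        lt_of_le_of_lt he' (not_le.1 hgt)⟩
      have hh := hse.map (φ.fiberι (φ x)).continuous
      rwa [φ.fiberι_asFiber] at hh
  rw [heq]
  exact IsConstructible.biUnion (Finset.finite_toSet _) fun d _ =>
    (isConstructible_fibClosure_affine φ (hLe d)).inter (hLe d).compl

theorem isLocallyConstructible_dimBad (f : X ⟶ S) [LocallyOfFinitePresentation f] :
    IsLocallyConstructible (dimBad f) := by
  intro x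
  obtain ⟨(U : S.Opens), (hU : IsAffineOpen U), hxU, -⟩ := Opens.isBasis_iff_nbhd.mp S.isBasis_affineOpens
    (show f x ∈ (⊤ : S.Opens) from trivial)
  obtain ⟨(V : X.Opens), (hV : IsAffineOpen V), hxV, hVU⟩ := Opens.isBasis_iff_nbhd.mp X.isBasis_affineOpens
    (show x ∈ f ⁻¹ᵁ U from hxU)
  refine ⟨V, V.2.mem_nhds hxV, V.2, ?_⟩
  let φ := Spec.map (f.appLE U V hVU)
  haveI : LocallyOfFinitePresentation φ := (HasRingHomProperty.Spec_iff (P := @LocallyOfFinitePresentation)).mpr
    (f.finitePresentation_appLE hU hV hVU)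
  have h := isConstructible_dimBad_affine φ
  rw [← dimBad_comp_openImmersion_right φ hU.fromSpec, IsAffineOpen.SpecMap_appLE_fromSpec f hU hV hVU,
    dimBad_comp_openImmersion hV.fromSpec f] at h
  convert! hV.isoSpec.hom.isConstructible_preimage h using 1
  ext z
  show z.1 ∈ dimBad f ↔ hV.fromSpec (hV.isoSpec.hom z) ∈ dimBad f
  rw [← Scheme.Hom.comp_apply, IsAffineOpen.isoSpec_hom_fromSpec]
  rfl

/-- The points of the fibres at which the fibre is equidimensional. -/
theorem equidim_fibre_iff (f : X ⟶ S) [LocallyOfFiniteType f] (x : X) :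
    (∃ e : ℕ, ∀ Z ∈ irreducibleComponents (↥(f.fiber (f x)) : Type u), f.asFiber x ∈ Z →
      topologicalKrullDim (↥Z : Type u) = e) ↔ x ∉ dimBad f := by
  constructor
  · rintro ⟨e, he⟩ ⟨z, hf, hs, hd⟩
    have key : ∀ ξ : X, ξ ⤳ x → f ξ = f x → (∀ x', f x' = f ξ → x' ⤳ ξ → x' = ξ) →
        cdim (f.asFiber ξ) = (e : WithBot ℕ∞) := by
      intro ξ hξx hfξ hmax
      obtain ⟨z', hz'⟩ : ξ ∈ Set.range (f.fiberι (f x)) := by rw [f.range_fiberι]; exact hfξ
      have hz'x : z' ⤳ f.asFiber x := by
        rw [← (f.fiberι (f x)).isEmbedding.isInducing.specializes_iff, hz', f.fiberι_asFiber]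
        exact hξx
      have hcd : cdim z' = cdim (f.asFiber ξ) :=
        (property_iff_asFiber (fun s z => cdim z = cdim (f.asFiber ξ)) z' ξ hz').2 rfl
      rw [← hcd]
      refine he (closure {z'}) ⟨isIrreducible_singleton.closure, fun W hW hle => ?_⟩
        (specializes_iff_mem_closure.1 hz'x)
      have hgen := hW.closure.isGenericPoint_genericPoint isClosed_closure
      have h1 : hW.closure.genericPoint ⤳ z' := hgen.specializes (subset_closure (hle (subset_closure rfl)))
      have h2 : hW.closure.genericPoint = z' := by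
        apply (f.fiberι (f x)).isEmbedding.injective
        rw [hz']
        refine hmax _ ?_ (hz' ▸ h1.map (f.fiberι (f x)).continuous)
        rw [hfξ]
        exact (f.range_fiberι (f x)).subset (Set.mem_range_self _)
      rw [h2] at hgen
      rw [hgen.def]
      exact subset_closure
    obtain ⟨ξ₁, h₁, hf₁, hm₁, hd₁⟩ := H06EGA14.exists_maximal_generization f x
    obtain ⟨ξ₂, h₂, hf₂, hm₂, hd₂⟩ := H06EGA14.exists_maximal_generization f z
    refine hd.ne ?_
    rw [← hd₁, ← hd₂, key ξ₁ h₁ hf₁ hm₁, key ξ₂ (h₂.trans hs) (hf₂.trans hf) hm₂]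
  · intro h
    obtain ⟨e, he⟩ := exists_fibreDimAt_eq f x
    refine ⟨e, fun Z hZ hxZ => ?_⟩
    have hgen : IsGenericPoint hZ.1.genericPoint Z :=
      hZ.1.isGenericPoint_genericPoint (isClosed_of_mem_irreducibleComponents Z hZ)
    set g := hZ.1.genericPoint
    have hg : topologicalKrullDim (↥Z : Type u) = cdim g := by
      show _ = topologicalKrullDim ↥(closure {g})
      rw [hgen.def]
    have hgx : f.fiberι (f x) g ⤳ x := by
      have hh := (hgen.specializes hxZ).map (f.fiberι (f x)).continuous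
      rwa [f.fiberι_asFiber] at hh
    have hfg : f (f.fiberι (f x) g) = f x := (f.range_fiberι (f x)).subset (Set.mem_range_self g)
    have hcd : cdim g = cdim (f.asFiber (f.fiberι (f x) g)) :=
      (property_iff_asFiber (fun s z => cdim z = cdim (f.asFiber (f.fiberι (f x) g))) g _ rfl).2 rfl
    obtain ⟨ξ, hξ, hfξ, -, hξd⟩ := H06EGA14.exists_maximal_generization f (f.fiberι (f x) g)
    obtain ⟨z', hz'⟩ : ξ ∈ Set.range (f.fiberι (f x)) := by rw [f.range_fiberι]; exact hfξ.trans hfg
    have hz'g : z' ⤳ g := by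
      rw [← (f.fiberι (f x)).isEmbedding.isInducing.specializes_iff, hz']
      exact hξ
    have hz'eq : z' = g := by
      have hsub : Z ⊆ closure {z'} := by
        rw [← hgen.def]
        exact closure_minimal (Set.singleton_subset_iff.2 hz'g.mem_closure) isClosed_closure
      have heq := le_antisymm hsub (hZ.2 isIrreducible_singleton.closure hsub)
      exact (hz'g.antisymm (hgen.specializes (heq.ge (subset_closure rfl)))).eq
    rw [hg, hcd, ← he]
    rw [hz'eq] at hz'
    rw [hz', hξd]
    refine le_antisymm ?_ (not_lt.1 fun hlt => h ⟨_, hfg, hgx, hlt⟩)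
    exact hgx.mem_open (H7Flat.isOpen_fibreDimAt_le' f _) (le_refl (FlatMor.fibreDimAt f x))

end Groth.Agent.H06EGA12
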