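import Groth.Agent.H06EGA12.FieldDims
import Groth.Agent.H8Props.FieldDimScheme
import Mathlib.RingTheory.LocalRing.ResidueField.Fiber

/-!
# The spectrum of a fibre inside the total spectrum
-/

set_option autoImplicit false
set_option linter.style.haveILetI false
universe u

open TensorProduct Topology

namespace Groth.Agent.H06EGA12

variable (R P : Type u) [CommRing R] [CommRing P] [Algebra R P]

theorem fibre_embedding (p : PrimeSpectrum R) :
    IsEmbedding (PrimeSpectrum.comap (algebraMap P (P ⊗[R] p.asIdeal.ResidueField))) ∧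
      Set.range (PrimeSpectrum.comap (algebraMap P (P ⊗[R] p.asIdeal.ResidueField))) =
        PrimeSpectrum.comap (algebraMap R P) ⁻¹' {p} := by
  let e : PrimeSpectrum (P ⊗[R] p.asIdeal.ResidueField) ≃ₜ (PrimeSpectrum.comap (algebraMap R P) ⁻¹' {p} : Set _) :=
    (PrimeSpectrum.homeomorphOfRingEquiv
      (Algebra.TensorProduct.comm R P p.asIdeal.ResidueField).toRingEquiv).trans
      (PrimeSpectrum.preimageHomeomorphFiber R P p).symm
  have he : (Subtype.val ∘ e) = PrimeSpectrum.comap (algebraMap P (P ⊗[R] p.asIdeal.ResidueField)) := by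
    funext Q
    apply PrimeSpectrum.ext
    ext a
    show (Algebra.TensorProduct.comm R P p.asIdeal.ResidueField).symm ((1 : p.asIdeal.ResidueField) ⊗ₜ[R] a) ∈ Q.asIdeal ↔ a ⊗ₜ[R] 1 ∈ Q.asIdeal
    rw [Algebra.TensorProduct.comm_symm_tmul]
  rw [← he]
  exact ⟨IsEmbedding.subtypeVal.comp e.isEmbedding, by
    rw [Set.range_comp, e.surjective.range_eq, Set.image_univ, Subtype.range_coe]⟩

theorem fibre_comap_inj {p p' : PrimeSpectrum R} {Q : PrimeSpectrum (P ⊗[R] p.asIdeal.ResidueField)}
    {Q' : PrimeSpectrum (P ⊗[R] p'.asIdeal.ResidueField)}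
    (h : PrimeSpectrum.comap (algebraMap P _) Q = PrimeSpectrum.comap (algebraMap P _) Q') : p = p' := by
  have h1 := (fibre_embedding R P p).2 ▸ Set.mem_range_self Q
  have h2 := (fibre_embedding R P p').2 ▸ Set.mem_range_self Q'
  simp only [Set.mem_preimage, Set.mem_singleton_iff] at h1 h2
  rw [← h1, ← h2, h]

theorem fibre_comap_le_iff (p : PrimeSpectrum R) (Q Q' : PrimeSpectrum (P ⊗[R] p.asIdeal.ResidueField)) :
    Q' ≤ Q ↔ PrimeSpectrum.comap (algebraMap P _) Q' ≤ PrimeSpectrum.comap (algebraMap P _) Q := by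
  rw [PrimeSpectrum.le_iff_specializes, PrimeSpectrum.le_iff_specializes,
    (fibre_embedding R P p).1.isInducing.specializes_iff]

theorem dim_closure_eq (p : PrimeSpectrum R) (Q : PrimeSpectrum (P ⊗[R] p.asIdeal.ResidueField)) :
    topologicalKrullDim
      (closure {PrimeSpectrum.comap (algebraMap P (P ⊗[R] p.asIdeal.ResidueField)) Q} ∩
        PrimeSpectrum.comap (algebraMap R P) ⁻¹' {p} : Set (PrimeSpectrum P)) =
      ringKrullDim ((P ⊗[R] p.asIdeal.ResidueField) ⧸ Q.asIdeal) := by
  obtain ⟨hemb, hrange⟩ := fibre_embedding R P p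
  rw [← hrange, ← H8Props.FieldDim.dim_preimage hemb, ← Set.image_singleton,
    ← hemb.closure_eq_preimage_closure_image]
  have h1 : Set.range (PrimeSpectrum.comap (Ideal.Quotient.mk Q.asIdeal)) = closure {Q} := by
    rw [range_comap_of_surjective _ _ Ideal.Quotient.mk_surjective, Ideal.mk_ker,
      PrimeSpectrum.closure_singleton]
  rw [← h1, ← PrimeSpectrum.topologicalKrullDim_eq_ringKrullDim]
  exact H8Props.FieldDim.dim_range
    (PrimeSpectrum.isClosedEmbedding_comap_of_surjective _ _ Ideal.Quotient.mk_surjective).isEmbedding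

end Groth.Agent.H06EGA12
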