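import Groth.Agent.H06EGA12.Transport
import Groth.Agent.H8Props.FieldDimFormula
import Groth.Agent.H4Depth.SupportLoc
import Groth.Agent.H4Depth.Regular
import Groth.Agent.H4LC.RegularPDBound
import Groth.Agent.H02CA.AuslanderBuchsbaum

/-!
# Depth, dimension and projective dimension over a regular algebra of finite type over a field
-/

set_option autoImplicit false
set_option linter.style.haveILetI false
universe u

open IsLocalRing CategoryTheory

namespace Groth.Agent.H06EGA12

/-- The dimension of the closure of a point. -/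
noncomputable def tdim {F : Type u} [CommRing F] (Q : PrimeSpectrum F) : ℕ :=
  ((ringKrullDim (F ⧸ Q.asIdeal)).unbotD 0).toNat

theorem coe_tdim {K F : Type u} [Field K] [CommRing F] [Algebra K F] [Algebra.FiniteType K F]
    (Q : PrimeSpectrum F) : ringKrullDim (F ⧸ Q.asIdeal) = (tdim Q : WithBot ℕ∞) := by
  haveI : Algebra.FiniteType K (F ⧸ Q.asIdeal) :=
    Algebra.FiniteType.trans (R := K) (S := F) inferInstance inferInstance
  haveI : Nontrivial (F ⧸ Q.asIdeal) := Ideal.Quotient.nontrivial_iff.2 Q.2.ne_top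
  have h0 : ringKrullDim (F ⧸ Q.asIdeal) ≠ ⊥ := fun h => by
    have := ringKrullDim_nonneg_of_nontrivial (R := F ⧸ Q.asIdeal)
    rw [h] at this
    exact absurd this (by simp)
  have ht : ringKrullDim (F ⧸ Q.asIdeal) ≠ ⊤ := by
    obtain ⟨s, g, hg⟩ := Algebra.FiniteType.iff_quotient_mvPolynomial''.1
      (inferInstance : Algebra.FiniteType K (F ⧸ Q.asIdeal))
    refine ne_top_of_le_ne_top ?_ (ringKrullDim_le_of_surjective g.toRingHom hg)
    rw [MvPolynomial.ringKrullDim_of_isNoetherianRing, ringKrullDim_eq_zero_of_field, zero_add]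
    exact WithBot.coe_inj.not.2 (ENat.natCast_ne_top _)
  unfold tdim
  generalize ringKrullDim (F ⧸ Q.asIdeal) = x at h0 ht ⊢
  obtain ⟨y, rfl⟩ := WithBot.ne_bot_iff_exists.1 h0
  obtain ⟨m, rfl⟩ := ENat.ne_top_iff_exists.1 (show y ≠ ⊤ from fun h => ht (by rw [h]; rfl))
  rfl

variable {F : Type u} [CommRing F]

/-- Some point of `W` generizing `Q` has closure of dimension at least `e`. -/
def DimOn (W : Set (PrimeSpectrum F)) (Q : PrimeSpectrum F) (e : ℕ) : Prop :=
  ∃ Q' : PrimeSpectrum F, Q' ≤ Q ∧ Q' ∈ W ∧ e ≤ tdim Q'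

/-- The height in the support. -/
theorem exists_supportDim_eq {K : Type u} [Field K] [Algebra K F] [Algebra.FiniteType K F]
    (N : Type u) [AddCommGroup N] [Module F N] [Module.Finite F N] (Q : PrimeSpectrum F)
    (hQ : Q ∈ Module.support F N) :
    ∃ s : ℕ, Module.supportDim (Localization.AtPrime Q.asIdeal)
        (LocalizedModule Q.asIdeal.primeCompl N) = (s : WithBot ℕ∞) ∧
      ∀ e, DimOn (Module.support F N) Q e ↔ e ≤ s + tdim Q := by
  haveI : IsNoetherianRing F := Algebra.FiniteType.isNoetherianRing K F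
  let I := Module.annihilator F N
  let A := F ⧸ I
  haveI : Algebra.FiniteType K A := Algebra.FiniteType.trans (R := K) (S := F) inferInstance inferInstance
  haveI : IsNoetherianRing A := Algebra.FiniteType.isNoetherianRing K A
  letI : Module A N := Module.IsTorsionBySet.module (R := F) (M := N) (I := I)
    fun m r => Module.mem_annihilator.1 r.2 m
  haveI : IsScalarTower F A N := Module.IsTorsionBySet.isScalarTower (R := F) (M := N) (I := I)
    (fun m r => Module.mem_annihilator.1 r.2 m)
  haveI : Module.Finite A N := Module.Finite.of_restrictScalars_finite F A N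
  have hsurj : Function.Surjective (algebraMap F A) := Ideal.Quotient.mk_surjective
  have hsupp : Module.support A N = Set.univ := by
    rw [Module.support_eq_zeroLocus, show Module.annihilator A N = ⊥ from ?_]
    · exact PrimeSpectrum.zeroLocus_bot
    · refine le_bot_iff.1 fun a ha => ?_
      obtain ⟨r, rfl⟩ := hsurj a
      refine Ideal.Quotient.eq_zero_iff_mem.2 (Module.mem_annihilator.2 fun m => ?_)
      rw [← algebraMap_smul A r m]
      exact Module.mem_annihilator.1 ha m
  have hrange : ∀ P : PrimeSpectrum F, P ∈ Module.support F N →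
      ∃ q : PrimeSpectrum A, PrimeSpectrum.comap (algebraMap F A) q = P := fun P hP => by
    have : P ∈ Set.range (PrimeSpectrum.comap (algebraMap F A)) := by
      rw [range_comap_of_surjective _ _ hsurj]
      exact ker_le_of_mem_support (O := A) P hP
    exact this
  obtain ⟨q, rfl⟩ := hrange Q hQ
  have htd : ∀ q' : PrimeSpectrum A, tdim q' = tdim (PrimeSpectrum.comap (algebraMap F A) q') := fun q' => by
    exact congrArg (fun x : WithBot ℕ∞ => (x.unbotD 0).toNat)
      (ringKrullDim_eq_of_ringEquiv (RingEquiv.ofBijective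
        (Ideal.quotientMap q'.asIdeal (algebraMap F A) (le_refl (q'.asIdeal.comap (algebraMap F A))))
        ⟨Ideal.quotientMap_injective, Ideal.quotientMap_surjective hsurj⟩)).symm
  have hdim : Module.supportDim (Localization.AtPrime (q.asIdeal.comap (algebraMap F A)))
      (LocalizedModule (q.asIdeal.comap (algebraMap F A)).primeCompl N) = (q.asIdeal.height : WithBot ℕ∞) := by
    rw [← (localization_invariants (N := N) hsurj q.asIdeal).2,
      ← IsLocalization.AtPrime.ringKrullDim_eq_height q.asIdeal (Localization.AtPrime q.asIdeal)]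
    unfold Module.supportDim
    have : Module.support (Localization.AtPrime q.asIdeal) (LocalizedModule q.asIdeal.primeCompl N) = Set.univ :=
      Set.eq_univ_of_forall fun P => (H4Depth.mem_support_localizedModule_iff q.asIdeal.primeCompl _
        (LocalizedModule.mkLinearMap _ _) P).2 (hsupp ▸ Set.mem_univ _)
    rw [this]
    exact Order.krullDim_eq_of_orderIso OrderIso.Set.univ
  have hfml := H8Props.FieldDim.height_add_dim_quotient_eq_iSup (k := K) A q
  have hq := coe_tdim (K := K) q
  rw [hq, htd] at hfml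
  obtain ⟨s, hs⟩ : ∃ s : ℕ, q.asIdeal.height = s :=
    ⟨_, (ENat.coe_toNat (Ideal.height_ne_top (Ideal.IsPrime.ne_top q.2))).symm⟩
  refine ⟨s, hdim.trans (by rw [hs]; rfl), fun e => ?_⟩
  rw [hs] at hfml
  have hsum : ((s + tdim (PrimeSpectrum.comap (algebraMap F A) q) : ℕ) : WithBot ℕ∞) =
      ⨆ q' : {q' : PrimeSpectrum A // q' ≤ q}, ringKrullDim (A ⧸ q'.1.asIdeal) := by
    rw [← hfml]; push_cast; rfl
  constructor
  · rintro ⟨Q', hle, hQ', he⟩
    obtain ⟨q', rfl⟩ := hrange Q' hQ'
    have hq'q : q' ≤ q := by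
      show q'.asIdeal ≤ q.asIdeal
      rw [← Ideal.map_comap_of_surjective _ hsurj q'.asIdeal, ← Ideal.map_comap_of_surjective _ hsurj q.asIdeal]
      exact Ideal.map_mono hle
    have h1 := le_iSup (fun q'' : {q' : PrimeSpectrum A // q' ≤ q} => ringKrullDim (A ⧸ q''.1.asIdeal)) ⟨q', hq'q⟩
    rw [← hsum, coe_tdim (K := K) q', htd] at h1
    exact he.trans (by exact_mod_cast h1)
  · intro he
    by_contra hne
    rcases Nat.eq_zero_or_pos e with rfl | hpos
    · exact hne ⟨_, le_rfl, hQ, Nat.zero_le _⟩
    · have hle : (⨆ q' : {q' : PrimeSpectrum A // q' ≤ q}, ringKrullDim (A ⧸ q'.1.asIdeal)) ≤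
          ((e - 1 : ℕ) : WithBot ℕ∞) := iSup_le fun q' => by
        rw [coe_tdim (K := K) q'.1]
        refine Nat.cast_le.2 ?_
        by_contra hlt
        refine hne ⟨PrimeSpectrum.comap (algebraMap F A) q'.1, Ideal.comap_mono q'.2, ?_, ?_⟩
        · exact (mem_support_comap_iff hsurj q'.1).2 (hsupp ▸ Set.mem_univ _)
        · rw [← htd]; omega
      rw [← hsum, Nat.cast_le] at hle
      omega

end Groth.Agent.H06EGA12
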