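import Groth.Agent.H06EGA12.FieldDims

/-!
# Cohen–Macaulay, `(S_k)` and equidimensionality through dimensions and projective dimensions
-/

set_option autoImplicit false
set_option linter.style.haveILetI false
universe u

open IsLocalRing CategoryTheory

namespace Groth.Agent.H06EGA12

variable {F : Type u} [CommRing F] (K : Type u) [Field K] [Algebra K F] [Algebra.FiniteType K F]

include K in
/-- Height plus coheight in a domain of dimension `n`. -/
theorem exists_height_eq [IsDomain F] {n : ℕ} (hn : ringKrullDim F = n) (Q : PrimeSpectrum F) :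
    ∃ h : ℕ, ringKrullDim (Localization.AtPrime Q.asIdeal) = (h : WithBot ℕ∞) ∧ h + tdim Q = n := by
  haveI : IsNoetherianRing F := Algebra.FiniteType.isNoetherianRing K F
  obtain ⟨h, hh⟩ : ∃ h : ℕ, Q.asIdeal.height = h :=
    ⟨_, (ENat.coe_toNat (Ideal.height_ne_top (Ideal.IsPrime.ne_top Q.2))).symm⟩
  refine ⟨h, by rw [IsLocalization.AtPrime.ringKrullDim_eq_height Q.asIdeal, hh]; rfl, ?_⟩
  have hfml := H8Props.FieldDim.height_add_dim_quotient_eq_iSup (k := K) F Q
  rw [coe_tdim (K := K) Q, hh] at hfml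
  have hb : ringKrullDim (F ⧸ (⊥ : Ideal F)) = n :=
    (ringKrullDim_eq_of_ringEquiv (RingEquiv.quotientBot F)).trans hn
  have hsup : (⨆ q : {q : PrimeSpectrum F // q ≤ Q}, ringKrullDim (F ⧸ q.1.asIdeal)) = n := by
    refine le_antisymm (iSup_le fun q => ?_) ?_
    · rw [← hn]
      exact ringKrullDim_quotient_le _
    · exact le_iSup_of_le ⟨⟨⊥, Ideal.isPrime_bot⟩, bot_le (a := Q.asIdeal)⟩ hb.ge
  rw [hsup] at hfml
  have h2 : ((h + tdim Q : ℕ) : WithBot ℕ∞) = (n : WithBot ℕ∞) := by rw [← hfml]; push_cast; rfl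
  exact_mod_cast h2

/-- The numerical invariants at a point of the support. -/
structure Inv (N : Type u) [AddCommGroup N] [Module F N] (n : ℕ) (Q : PrimeSpectrum F) where
  s : ℕ
  d : ℕ
  pd : ℕ
  sdim_eq : Module.supportDim (Localization.AtPrime Q.asIdeal)
      (LocalizedModule Q.asIdeal.primeCompl N) = (s : WithBot ℕ∞)
  depth_eq : LocCoh.depth (Localization.AtPrime Q.asIdeal) (LocalizedModule Q.asIdeal.primeCompl N) = (d : ℕ∞)
  dimOn_iff : ∀ e, DimOn (Module.support F N) Q e ↔ e ≤ s + tdim Q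
  pd_iff : ∀ m, Q ∈ H4LC.pdLocus (A := F) N m ↔ pd ≤ m
  formula : d + pd + tdim Q = n
  d_le : d ≤ s
  s_le : s + tdim Q ≤ n

variable [IsDomain F] [IsRegularRing F] {n : ℕ}

include K in
theorem nonempty_inv (hn : ringKrullDim F = n) (N : Type u) [AddCommGroup N] [Module F N]
    [Module.Finite F N] (Q : PrimeSpectrum F) (hQ : Q ∈ Module.support F N) :
    Nonempty (Inv (F := F) N n Q) := by
  haveI : IsNoetherianRing F := Algebra.FiniteType.isNoetherianRing K F
  let R := Localization.AtPrime Q.asIdeal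
  let L := LocalizedModule Q.asIdeal.primeCompl N
  haveI : IsRegularLocalRing R := isRegularRing_iff.1 ‹IsRegularRing F› Q.asIdeal
  haveI : Nontrivial L := Module.mem_support_iff.1 hQ
  haveI : Module.Finite R L :=
    Module.Finite.of_isLocalizedModule Q.asIdeal.primeCompl (LocalizedModule.mkLinearMap _ N)
  obtain ⟨s, hs, hse⟩ := exists_supportDim_eq (K := K) N Q hQ
  obtain ⟨h, hh, hht⟩ := exists_height_eq K hn Q
  obtain ⟨b, -, hb⟩ := H05EGA4.exists_pd_residueField R
  have hfin : projectiveDimension (ModuleCat.of R L) ≠ ⊤ := by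
    refine ne_top_of_le_ne_top ?_ ((projectiveDimension_le_iff _ b).2
      (H05EGA4.hasProjectiveDimensionLT_of_residueField b hb _))
    exact WithBot.coe_inj.not.2 (ENat.natCast_ne_top b)
  obtain ⟨e, he⟩ := H02CA.AuslanderBuchsbaum.exists_pd_eq L hfin
  obtain ⟨he1, he2⟩ := H02CA.AuslanderBuchsbaum.pd_bounds_of_eq he
  have hab := H02CA.AuslanderBuchsbaum.depth_eq_add e L he1 he2
  have hR : LocCoh.depth R R = (h : ℕ∞) := by
    have := H4Depth.depth_self_eq_ringKrullDim_of_regular R
    rw [hh] at this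
    exact WithBot.coe_inj.1 this
  rw [hR] at hab
  obtain ⟨d, hd⟩ : ∃ d : ℕ, LocCoh.depth R L = (d : ℕ∞) :=
    ⟨_, (ENat.coe_toNat (H8Props.FlatDepth.depth_ne_top R L)).symm⟩
  rw [hd] at hab
  have hab' : h = e + d := by exact_mod_cast hab
  have hdle : d ≤ s := by
    have := H4Depth.depth_le_supportDim (R := R) (M := L)
    rw [hd, hs] at this
    exact_mod_cast this
  have hsle : s ≤ h := by
    have := Module.supportDim_le_ringKrullDim R L
    rw [hs, hh] at this
    exact_mod_cast this
  refine ⟨⟨s, d, e, hs, hd, hse, fun m => ?_, by omega, hdle, by omega⟩⟩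
  let i : (ModuleCat.of F N).localizedModule Q.asIdeal.primeCompl ≅ ModuleCat.of R L :=
    (Shrink.linearEquiv R _).toModuleIso
  show HasProjectiveDimensionLE _ m ↔ _
  constructor
  · intro hm
    have hm' : HasProjectiveDimensionLT (ModuleCat.of R L) (m + 1) :=
      @hasProjectiveDimensionLT_of_iso _ _ _ _ _ i _ hm
    have := (projectiveDimension_le_iff (ModuleCat.of R L) m).2 hm'
    rw [he] at this
    exact_mod_cast this
  · intro hm
    have hm' : HasProjectiveDimensionLT (ModuleCat.of R L) (m + 1) := by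
      refine (projectiveDimension_le_iff (ModuleCat.of R L) m).1 ?_
      rw [he]; exact_mod_cast hm
    exact @hasProjectiveDimensionLT_of_iso _ _ _ _ _ i.symm _ hm'

variable (N : Type u) [AddCommGroup N] [Module F N] [Module.Finite F N]

/-- Numerical form of being Cohen–Macaulay or zero at `Q`. -/
def CMNum (n : ℕ) (N : Type u) [AddCommGroup N] [Module F N] (Q : PrimeSpectrum F) : Prop :=
  ∀ e m, DimOn (Module.support F N) Q e → Q ∉ H4LC.pdLocus (A := F) N m → e + m + 1 ≤ n

theorem mem_support_of_dimOn {Q : PrimeSpectrum F} {e : ℕ} (h : DimOn (Module.support F N) Q e) :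
    Q ∈ Module.support F N := by
  obtain ⟨Q', hle, hQ', -⟩ := h
  exact Module.mem_support_mono hle hQ'

theorem cmNum_iff_le {Q : PrimeSpectrum F} (inv : Inv (F := F) N n Q) : CMNum n N Q ↔ inv.s ≤ inv.d := by
  have hf := inv.formula
  have hs := inv.s_le
  constructor
  · intro h
    by_contra hlt
    have hpd : inv.pd ≠ 0 := by omega
    have := h (inv.s + tdim Q) (inv.pd - 1) ((inv.dimOn_iff _).2 le_rfl) (fun hm => by
      have := (inv.pd_iff _).1 hm
      omega)
    omega
  · intro h e m he hm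
    have h1 := (inv.dimOn_iff e).1 he
    have h2 : ¬ inv.pd ≤ m := fun hle => hm ((inv.pd_iff m).2 hle)
    omega

include K in
/-- Cohen–Macaulayness at `Q`. -/
theorem cm_iff (hn : ringKrullDim F = n) (Q : PrimeSpectrum F) :
    (Subsingleton (LocalizedModule Q.asIdeal.primeCompl N) ∨
      LocCoh.IsCohenMacaulayModule (Localization.AtPrime Q.asIdeal)
        (LocalizedModule Q.asIdeal.primeCompl N)) ↔ CMNum n N Q := by
  by_cases hQ : Q ∈ Module.support F N
  · obtain ⟨inv⟩ := nonempty_inv K hn N Q hQ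
    rw [cmNum_iff_le N inv, or_iff_right (not_subsingleton_iff_nontrivial.2 (Module.mem_support_iff.1 hQ))]
    unfold LocCoh.IsCohenMacaulayModule
    rw [inv.sdim_eq, inv.depth_eq]
    refine ⟨fun h => ?_, fun h => ?_⟩
    · exact (show inv.s = inv.d by exact_mod_cast h).le
    · rw [show inv.s = inv.d from le_antisymm h inv.d_le]; rfl
  · exact iff_of_true (.inl (Module.notMem_support_iff.1 hQ))
      fun e m he => absurd (mem_support_of_dimOn N he) hQ

/-- The points of the support at which the module is not Cohen–Macaulay and of projective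
dimension `> m`. -/
def badSet (n : ℕ) (N : Type u) [AddCommGroup N] [Module F N] (m : ℕ) : Set (PrimeSpectrum F) :=
  {Q | Q ∈ Module.support F N ∧ ¬ CMNum n N Q ∧ Q ∉ H4LC.pdLocus (A := F) N m}

/-- Numerical form of `(S_k)` at `Q`. -/
def SkNum (n k : ℕ) (N : Type u) [AddCommGroup N] [Module F N] (Q : PrimeSpectrum F) : Prop :=
  ∀ e m, DimOn (badSet n N m) Q e → e + m + 1 + k ≤ n

include K in
theorem skNum_iff (hn : ringKrullDim F = n) (k : ℕ) (Q : PrimeSpectrum F) :
    (∀ Q' : PrimeSpectrum F, Q' ≤ Q →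
      min (k : WithBot ℕ∞) (Module.supportDim (Localization.AtPrime Q'.asIdeal)
          (LocalizedModule Q'.asIdeal.primeCompl N)) ≤
        ((LocCoh.depth (Localization.AtPrime Q'.asIdeal) (LocalizedModule Q'.asIdeal.primeCompl N) : ℕ∞) :
          WithBot ℕ∞)) ↔ SkNum n k N Q := by
  constructor
  · rintro h e m ⟨Q', hle, ⟨hsup, hcm, hpd⟩, he⟩
    obtain ⟨inv⟩ := nonempty_inv K hn N Q' hsup
    have h1 := h Q' hle
    rw [inv.sdim_eq, inv.depth_eq] at h1
    have hlt : ¬ inv.s ≤ inv.d := fun hc => hcm ((cmNum_iff_le N inv).2 hc)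
    have hk : k ≤ inv.d := by
      rw [min_le_iff] at h1
      rcases h1 with h1 | h1
      · exact_mod_cast h1
      · exact absurd (show inv.s ≤ inv.d by exact_mod_cast h1) hlt
    have hm : ¬ inv.pd ≤ m := fun hle' => hpd ((inv.pd_iff m).2 hle')
    have := inv.formula
    omega
  · intro h Q' hle
    by_cases hsup : Q' ∈ Module.support F N
    · obtain ⟨inv⟩ := nonempty_inv K hn N Q' hsup
      rw [inv.sdim_eq, inv.depth_eq, min_le_iff]
      rcases le_or_gt inv.s inv.d with hc | hc
      · exact .inr (by exact_mod_cast hc)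
      · refine .inl (Nat.cast_le.2 ?_ : ((k : ℕ) : WithBot ℕ∞) ≤ (inv.d : WithBot ℕ∞))
        have hf := inv.formula
        have hs := inv.s_le
        have := h (tdim Q') (inv.pd - 1) ⟨Q', hle, ⟨hsup, fun hcm => absurd ((cmNum_iff_le N inv).1 hcm)
          (not_le.2 hc), fun hm => by have := (inv.pd_iff _).1 hm; omega⟩, le_rfl⟩
        omega
    · haveI := Module.notMem_support_iff.1 hsup
      rw [Module.supportDim_eq_bot_of_subsingleton]
      simp

/-- The points at which a component of dimension `e` of the support may pass. -/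
def compSet (n : ℕ) (N : Type u) [AddCommGroup N] [Module F N] (e : ℕ) : Set (PrimeSpectrum F) :=
  {Q | Q ∈ Module.support F N ∧ ∀ m, m + e < n → Q ∉ H4LC.pdLocus (A := F) N m}

/-- Numerical form of equidimensionality, for a module satisfying `(S_1)`. -/
def EquiNum (n : ℕ) (N : Type u) [AddCommGroup N] [Module F N] (Q : PrimeSpectrum F) : Prop :=
  ∀ e e', DimOn (compSet n N e) Q e → DimOn (compSet n N e') Q e' → e = e'

include K in
theorem dimOn_compSet_iff (hn : ringKrullDim F = n) {k : ℕ} (hk : 1 ≤ k) (Q : PrimeSpectrum F)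
    (hSk : SkNum n k N Q) (e : ℕ) :
    DimOn (compSet n N e) Q e ↔
      ∃ Q', Q' ≤ Q ∧ Minimal (· ∈ Module.support F N) Q' ∧ tdim Q' = e := by
  constructor
  · rintro ⟨Q', hle, ⟨hsup, hpd⟩, he⟩
    obtain ⟨inv⟩ := nonempty_inv K hn N Q' hsup
    have hf := inv.formula
    have h1 : n ≤ inv.pd + e := by
      by_contra hlt
      exact hpd inv.pd (by omega) ((inv.pd_iff _).2 le_rfl)
    have h2 := ((skNum_iff K N hn k Q).2 hSk) Q' hle
    rw [inv.sdim_eq, inv.depth_eq, min_le_iff] at h2
    have hs0 : inv.s = 0 := by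
      rcases h2 with h2 | h2
      · have : k ≤ inv.d := by exact_mod_cast h2
        omega
      · have : inv.s ≤ inv.d := by exact_mod_cast h2
        omega
    refine ⟨Q', hle, ⟨hsup, fun Q'' hQ'' hle' => ?_⟩, by omega⟩
    have h3 := (inv.dimOn_iff (tdim Q'')).1 ⟨Q'', hle', hQ'', le_rfl⟩
    by_contra hne
    have hlt : Q''.asIdeal < Q'.asIdeal := lt_of_le_of_ne hle' fun h => hne (le_of_eq (PrimeSpectrum.ext h).symm)
    haveI : IsNoetherianRing F := Algebra.FiniteType.isNoetherianRing K F
    obtain ⟨h', hh', ht'⟩ := exists_height_eq K hn Q'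
    obtain ⟨h'', hh'', ht''⟩ := exists_height_eq K hn Q''
    rw [IsLocalization.AtPrime.ringKrullDim_eq_height Q'.asIdeal] at hh'
    rw [IsLocalization.AtPrime.ringKrullDim_eq_height Q''.asIdeal] at hh''
    haveI := Q'.2
    haveI := Q''.2
    have h4 : (Q''.asIdeal.height : WithBot ℕ∞) < Q'.asIdeal.height :=
      WithBot.coe_lt_coe.2 (Ideal.height_strict_mono_of_isPrime hlt)
    rw [hh', hh''] at h4
    have : h'' < h' := by exact_mod_cast h4
    omega
  · rintro ⟨Q', hle, hmin, rfl⟩
    obtain ⟨inv⟩ := nonempty_inv K hn N Q' hmin.1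
    have hs : inv.s = 0 := by
      obtain ⟨Q'', hle', hsup, he⟩ := (inv.dimOn_iff (inv.s + tdim Q')).2 le_rfl
      have : Q'' = Q' := le_antisymm hle' (hmin.2 hsup hle')
      subst this
      omega
    have hd := inv.d_le
    have hf := inv.formula
    refine ⟨Q', hle, ⟨hmin.1, fun m hm hmem => ?_⟩, le_rfl⟩
    have := (inv.pd_iff m).1 hmem
    omega

end Groth.Agent.H06EGA12
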