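import Groth.Agent.H06EGA12.GeomNormalRing
import Groth.Agent.H06Desc.Normal
import Groth.Agent.H05EGA4.NormalTensorGeom
import Mathlib.RingTheory.RingHom.Flat

/-!
# Geometric normality at a point descends along base change
-/

set_option autoImplicit false
set_option linter.style.haveILetI false
set_option backward.isDefEq.respectTransparency false
universe u

open TensorProduct

namespace Groth.Agent.H06EGA12

/-- Two field points over a common prime have a common extension. -/
theorem exists_common_field {C₀ E₁ E₂ : Type u} [CommRing C₀] [Field E₁] [Field E₂] (u₁ : C₀ →+* E₁)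
    (u₂ : C₀ →+* E₂) (h : RingHom.ker u₁ = RingHom.ker u₂) :
    ∃ (L : Type u) (_ : Field L) (v₁ : E₁ →+* L) (v₂ : E₂ →+* L), v₁.comp u₁ = v₂.comp u₂ := by
  let q := RingHom.ker u₁
  haveI : q.IsPrime := RingHom.ker_isPrime _
  have h1 : q.primeCompl ≤ Submonoid.comap u₁ (IsUnit.submonoid E₁) := fun x hx => isUnit_iff_ne_zero.mpr hx
  have h2 : q.primeCompl ≤ Submonoid.comap u₂ (IsUnit.submonoid E₂) := fun x hx =>
    isUnit_iff_ne_zero.mpr fun h0 => hx (show x ∈ RingHom.ker u₁ from h ▸ h0)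
  letI : Algebra q.ResidueField E₁ := (Ideal.ResidueField.lift q u₁ le_rfl h1).toAlgebra
  letI : Algebra q.ResidueField E₂ := (Ideal.ResidueField.lift q u₂ (le_of_eq h) h2).toAlgebra
  obtain ⟨m, hm⟩ := Ideal.exists_maximal (E₁ ⊗[q.ResidueField] E₂)
  letI := Ideal.Quotient.field m
  refine ⟨(E₁ ⊗[q.ResidueField] E₂) ⧸ m, inferInstance,
    (Ideal.Quotient.mk m).comp (Algebra.TensorProduct.includeLeftRingHom),
    (Ideal.Quotient.mk m).comp (Algebra.TensorProduct.includeRight (R := q.ResidueField) (A := E₁) (B := E₂)).toRingHom,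
    RingHom.ext fun c => ?_⟩
  show Ideal.Quotient.mk m (u₁ c ⊗ₜ[q.ResidueField] 1) = Ideal.Quotient.mk m (1 ⊗ₜ[q.ResidueField] u₂ c)
  have e1 : u₁ c = algebraMap q.ResidueField E₁ (algebraMap C₀ q.ResidueField c) := by
    rw [RingHom.algebraMap_toAlgebra, Ideal.ResidueField.lift_algebraMap]
  have e2 : u₂ c = algebraMap q.ResidueField E₂ (algebraMap C₀ q.ResidueField c) := by
    rw [RingHom.algebraMap_toAlgebra, Ideal.ResidueField.lift_algebraMap]
  rw [e1, e2, Algebra.algebraMap_eq_smul_one, Algebra.algebraMap_eq_smul_one (A := E₂), TensorProduct.smul_tmul]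

theorem flat_includeRight (K S L : Type u) [CommRing K] [CommRing S] [CommRing L] [Algebra K S] [Algebra K L]
    [Module.Flat K L] :
    (Algebra.TensorProduct.includeRight : S →ₐ[K] L ⊗[K] S).toRingHom.Flat := by
  have h : (Algebra.TensorProduct.includeRight : S →ₐ[K] L ⊗[K] S).toRingHom =
      ((Algebra.TensorProduct.comm K S L).toRingEquiv.toRingHom).comp (algebraMap S (S ⊗[K] L)) :=
    RingHom.ext fun s => rfl
  rw [h]
  exact RingHom.Flat.comp (RingHom.flat_algebraMap_iff.mpr inferInstance)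
    (RingHom.Flat.of_bijective (Algebra.TensorProduct.comm K S L).bijective)

/-- Geometric normality descends to a model. -/
theorem GN.descend {R A C C₀ : Type u} [CommRing R] [CommRing A] [CommRing C] [CommRing C₀] [Algebra R A]
    [Algebra R C₀] [Algebra A C] (e : A ⊗[R] C₀ ≃ₐ[A] C) (q : Ideal C) [q.IsPrime] (h : GN A C q) :
    GN R C₀ (q.comap (e.toRingHom.comp
      (Algebra.TensorProduct.includeRight : C₀ →ₐ[R] A ⊗[R] C₀).toRingHom)) := by
  let ι : C₀ →+* C := e.toRingHom.comp (Algebra.TensorProduct.includeRight : C₀ →ₐ[R] A ⊗[R] C₀).toRingHom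
  intro K _ _ Q₀ _ hQ₀
  have hιR : ∀ r : R, ι (algebraMap R C₀ r) = algebraMap A C (algebraMap R A r) := fun r => by
    show e ((1 : A) ⊗ₜ[R] algebraMap R C₀ r) = _
    rw [Algebra.algebraMap_eq_smul_one (A := C₀), ← TensorProduct.smul_tmul, ← Algebra.algebraMap_eq_smul_one,
      ← e.commutes (algebraMap R A r)]
    rfl
  let u₁ : C₀ →+* q.ResidueField := (algebraMap C q.ResidueField).comp ι
  let u₂ : C₀ →+* Q₀.ResidueField := (algebraMap (K ⊗[R] C₀) Q₀.ResidueField).comp
    (Algebra.TensorProduct.includeRight : C₀ →ₐ[R] K ⊗[R] C₀).toRingHom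
  have hker : RingHom.ker u₁ = RingHom.ker u₂ := by
    ext c
    simp only [u₁, u₂, RingHom.mem_ker, RingHom.comp_apply, Ideal.algebraMap_residueField_eq_zero]
    exact (SetLike.ext_iff.mp hQ₀ c).symm
  obtain ⟨L, _, v₁, v₂, hv⟩ := exists_common_field u₁ u₂ hker
  let u : C →+* L := v₁.comp (algebraMap C q.ResidueField)
  let v : K ⊗[R] C₀ →+* L := v₂.comp (algebraMap (K ⊗[R] C₀) Q₀.ResidueField)
  have hu : RingHom.ker u = q := by
    ext c
    rw [RingHom.mem_ker, RingHom.comp_apply, map_eq_zero_iff _ v₁.injective, Ideal.algebraMap_residueField_eq_zero]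
  have hv' : RingHom.ker v = Q₀ := by
    ext c
    rw [RingHom.mem_ker, RingHom.comp_apply, map_eq_zero_iff _ v₂.injective, Ideal.algebraMap_residueField_eq_zero]
  have huv : ∀ c : C₀, u (ι c) = v ((1 : K) ⊗ₜ[R] c) := fun c => RingHom.congr_fun hv c
  letI : Algebra A L := (u.comp (algebraMap A C)).toAlgebra
  letI : Algebra R L := ((algebraMap A L).comp (algebraMap R A)).toAlgebra
  haveI : IsScalarTower R A L := IsScalarTower.of_algebraMap_eq fun _ => rfl
  letI : Algebra K L := (v.comp (Algebra.TensorProduct.includeLeftRingHom : K →+* K ⊗[R] C₀)).toAlgebra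
  haveI : IsScalarTower R K L := IsScalarTower.of_algebraMap_eq fun r => by
    show u (algebraMap A C (algebraMap R A r)) = v (algebraMap R K r ⊗ₜ[R] (1 : C₀))
    rw [← hιR, huv, Algebra.algebraMap_eq_smul_one (A := C₀), ← TensorProduct.smul_tmul,
      ← Algebra.algebraMap_eq_smul_one]
  let uA : C →ₐ[A] L := { u with commutes' := fun _ => rfl }
  let Φ : L ⊗[A] C →ₐ[A] L := Algebra.TensorProduct.lift (AlgHom.id A L) uA fun _ _ => Commute.all _ _
  let Z : Ideal (L ⊗[A] C) := RingHom.ker Φ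
  haveI : Z.IsPrime := RingHom.ker_isPrime _
  have hZ : Z.comap (Algebra.TensorProduct.includeRight : C →ₐ[A] L ⊗[A] C).toRingHom = q := by
    ext c
    show Φ ((1 : L) ⊗ₜ[A] c) = 0 ↔ _
    rw [Algebra.TensorProduct.lift_tmul, map_one, one_mul, ← hu]
    rfl
  obtain ⟨hd, hi⟩ := h L Z hZ
  let e₁ : L ⊗[K] (K ⊗[R] C₀) ≃+* L ⊗[R] C₀ :=
    (Algebra.TensorProduct.cancelBaseChange R K K L C₀).toRingEquiv
  let e₂ : L ⊗[A] (A ⊗[R] C₀) ≃+* L ⊗[R] C₀ :=
    (Algebra.TensorProduct.cancelBaseChange R A A L C₀).toRingEquiv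
  let e₃ : L ⊗[A] (A ⊗[R] C₀) ≃+* L ⊗[A] C := (Algebra.TensorProduct.congr (AlgEquiv.refl (R := A) (A₁ := L)) e).toRingEquiv
  let E := e₁.trans (e₂.symm.trans e₃)
  let θ : K ⊗[R] C₀ →+* L ⊗[A] C :=
    E.toRingHom.comp (Algebra.TensorProduct.includeRight : K ⊗[R] C₀ →ₐ[K] L ⊗[K] (K ⊗[R] C₀)).toRingHom
  have hθ : θ.Flat := RingHom.Flat.comp (flat_includeRight K (K ⊗[R] C₀) L) (RingHom.Flat.of_bijective E.bijective)
  have hΦθ : ∀ z, Φ (θ z) = v z := by
    intro z
    induction z using TensorProduct.induction_on with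
    | zero => simp only [map_zero]
    | add a b ha hb => simp only [map_add, ha, hb]
    | tmul k c =>
      have h1 : θ (k ⊗ₜ[R] c) = algebraMap K L k ⊗ₜ[A] ι c := by
        show e₃ (e₂.symm (e₁ ((1 : L) ⊗ₜ[K] (k ⊗ₜ[R] c)))) = _
        have h2 : e₁ ((1 : L) ⊗ₜ[K] (k ⊗ₜ[R] c)) = algebraMap K L k ⊗ₜ[R] c := by
          show Algebra.TensorProduct.cancelBaseChange R K K L C₀ _ = _
          rw [Algebra.TensorProduct.cancelBaseChange_tmul, Algebra.algebraMap_eq_smul_one]
        have h3 : e₂ (algebraMap K L k ⊗ₜ[A] ((1 : A) ⊗ₜ[R] c)) = algebraMap K L k ⊗ₜ[R] c := by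
          show Algebra.TensorProduct.cancelBaseChange R A A L C₀ _ = _
          rw [Algebra.TensorProduct.cancelBaseChange_tmul, one_smul]
        rw [h2, ← h3, RingEquiv.symm_apply_apply]
        rfl
      rw [h1, Algebra.TensorProduct.lift_tmul]
      show v (k ⊗ₜ[R] (1 : C₀)) * u (ι c) = _
      rw [huv, ← map_mul, Algebra.TensorProduct.tmul_mul_tmul, mul_one, one_mul]
  have hQ : Q₀ = Z.comap θ := by
    ext z
    show z ∈ Q₀ ↔ Φ (θ z) = 0
    rw [hΦθ, ← hv', RingHom.mem_ker]
  letI := (Localization.localRingHom Q₀ Z θ hQ).toAlgebra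
  haveI : IsLocalHom (algebraMap (Localization.AtPrime Q₀) (Localization.AtPrime Z)) := by
    rw [RingHom.algebraMap_toAlgebra]; infer_instance
  haveI : Module.Flat (Localization.AtPrime Q₀) (Localization.AtPrime Z) :=
    RingHom.flat_algebraMap_iff.mp (by rw [RingHom.algebraMap_toAlgebra]; exact RingHom.Flat.localRingHom hθ Z Q₀ hQ)
  haveI : Module.FaithfullyFlat (Localization.AtPrime Q₀) (Localization.AtPrime Z) :=
    Module.FaithfullyFlat.of_flat_of_isLocalHom
  exact H06Desc.isDomain_and_isIntegrallyClosed_of_faithfullyFlat (B := Localization.AtPrime Z)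

end Groth.Agent.H06EGA12
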