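import Groth.Agent.H06EGA12.GeomRkField
import Groth.Agent.H22Alg.GeomReducedAt
import Groth.Agent.H05EGA4.FormalFibres
import Groth.Agent.H05EGA4.NorLocus
import Groth.Agent.H1CAlg.Serre

/-!
# The condition (S_k) at a point is stable under extensions of the ground field
-/

set_option autoImplicit false
set_option linter.style.haveILetI false
set_option backward.isDefEq.respectTransparency false
universe u

open CategoryTheory CategoryTheory.Limits AlgebraicGeometry TopologicalSpace Topology TensorProduct
open Groth.Agent.H05EGA4 Groth.Agent.H22Alg.GeomReducedAt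

namespace Groth.Agent.H06EGA12

theorem hasSk_of_equiv {R R' : Type u} [CommRing R] [CommRing R'] [IsNoetherianRing R] [IsNoetherianRing R']
    (e : R ≃+* R') {n : ℕ} (h : LocCoh.HasSk n R R) : LocCoh.HasSk n R' R' :=
  hasSk_self_iff_rs.mpr (RS.of_ringEquiv e (hasSk_self_iff_rs.mp h))

/-- `(S_n)` at a point of the spectrum of a ring with `(S_n)`. -/
theorem hasSk_stalk_spec (T : CommRingCat.{u}) [IsNoetherianRing T] {n : ℕ} (h : LocCoh.HasSk n T T)
    (Q : Spec T) : LocCoh.HasSk n ((Spec T).presheaf.stalk Q) ((Spec T).presheaf.stalk Q) := by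
  letI : Algebra T ((Spec T).presheaf.stalk Q) := StructureSheaf.stalkAlgebra T Q
  haveI : Q.asIdeal.IsPrime := Q.2
  haveI : IsLocalization.AtPrime ((Spec T).presheaf.stalk Q) Q.asIdeal := StructureSheaf.IsLocalization.to_stalk T Q
  haveI : IsNoetherianRing ((Spec T).presheaf.stalk Q) :=
    IsLocalization.isNoetherianRing Q.asIdeal.primeCompl _ inferInstance
  exact hasSk_self_iff_rs.mpr (RS.of_isLocalization Q.asIdeal.primeCompl _ (hasSk_self_iff_rs.mp h))

/-- `(S_n)` ascends along extensions of the ground field. -/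
theorem hasSk_stalk_bc {k : Type u} [Field k] {X : Scheme.{u}} (p : X ⟶ Spec (CommRingCat.of k))
    [LocallyOfFiniteType p] (K : Type u) [Field K] [Algebra k K] (x' : ↥(FBase.bc p K)) (n : ℕ)
    (h : LocCoh.HasSk n (X.presheaf.stalk (FBase.bcπ p K x')) (X.presheaf.stalk (FBase.bcπ p K x'))) :
    LocCoh.HasSk n ((FBase.bc p K).presheaf.stalk x') ((FBase.bc p K).presheaf.stalk x') := by
  set g := Spec.map (CommRingCat.ofHom (algebraMap k K))
  haveI : IsLocallyNoetherian X := LocallyOfFiniteType.isLocallyNoetherian p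
  haveI : LocallyOfFiniteType (pullback.snd p g) := inferInstance
  haveI : IsLocallyNoetherian (pullback p g) := LocallyOfFiniteType.isLocallyNoetherian (pullback.snd p g)
  set y := pullback.fst p g x'
  let O := X.presheaf.stalk y
  letI : X.Over (Spec (CommRingCat.of k)) := ⟨p⟩
  haveI : LocallyOfFiniteType (X ↘ Spec (CommRingCat.of k)) := ‹LocallyOfFiniteType p›
  letI : Algebra k O := Curv2.stalkAlgebra k X y
  have hφ : X.fromSpecStalk y ≫ p = Spec.map (CommRingCat.ofHom (algebraMap k O)) :=
    fromSpecStalk_over k X y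
  obtain ⟨e, he, -⟩ := Scheme.exists_preimage_of_isPullback (isPullback_stalkBC p g y) x'
    (IsLocalRing.closedPoint O) (by rw [Scheme.fromSpecStalk_closedPoint])
  haveI : IsPreimmersion (stalkBC p g y) :=
    MorphismProperty.of_isPullback (P := @IsPreimmersion) (isPullback_stalkBC p g y).flip inferInstance
  haveI : Flat (stalkBC p g y) :=
    haveI := H22Alg.flat_fromSpecStalk X y
    MorphismProperty.of_isPullback (P := @Flat) (isPullback_stalkBC p g y).flip inferInstance
  let E := RingEquiv.ofBijective _ (H8Props.bijective_stalkMap_of_flat (stalkBC p g y) e (Flat.stalkMap _ e))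
  haveI : IsNoetherianRing O := inferInstance
  haveI : Algebra.EssFiniteType k O := H22Alg.GeomRegularAt.essFiniteType_stalk k X y
  haveI : IsNoetherianRing (O ⊗[k] K) := H02CA.isNoetherianRing_tensor_of_essFiniteType _ _ _
  haveI : IsNoetherianRing (CommRingCat.of (O ⊗[k] K)) := ‹IsNoetherianRing (O ⊗[k] K)›
  have hT : LocCoh.HasSk n (O ⊗[k] K) (O ⊗[k] K) := by
    have hK : LocCoh.HasSk n K K := hasSk_self_iff_rs.mpr (rs_of_isRegularRing K)
    exact hasSk_self_iff_rs.mpr (((grsHom_of_grs (grs_bot_iff.mpr (hasSk_self_iff_rs.mp hK))).baseChange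
      (A' := (O : Type u)) (.inl inferInstance)).rs (hasSk_self_iff_rs.mp h))
  let i : pullback (X.fromSpecStalk y ≫ p) g ≅ Spec (CommRingCat.of (O ⊗[k] K)) :=
    (pullback.congrHom hφ rfl) ≪≫ pullbackSpecIso k O K
  haveI : IsLocallyNoetherian (pullback (X.fromSpecStalk y ≫ p) g) :=
    isLocallyNoetherian_of_isOpenImmersion i.hom
  have h1 := hasSk_stalk_spec (CommRingCat.of (O ⊗[k] K)) hT (i.hom e)
  have h2 := hasSk_of_equiv (asIso (i.hom.stalkMap e)).commRingCatIsoToRingEquiv h1
  have h3 := hasSk_of_equiv E.symm h2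
  rw [he] at h3
  exact h3

/-- The geometric condition `(S_n)` is the plain one. -/
theorem geomHasSk_iff {k : Type u} [Field k] {X : Scheme.{u}} (p : X ⟶ Spec (CommRingCat.of k))
    [LocallyOfFiniteType p] (y : X) (n : ℕ) :
    (∀ (K : Type u) [Field K] [Algebra k K] (x' : ↥(FBase.bc p K)), (FBase.bcπ p K).base x' = y →
        LocCoh.HasSk n ((FBase.bc p K).presheaf.stalk x') ((FBase.bc p K).presheaf.stalk x')) ↔
      LocCoh.HasSk n (X.presheaf.stalk y) (X.presheaf.stalk y) := by
  refine ⟨fun h => ?_, fun h K _ _ x' hx' => hasSk_stalk_bc p K x' n (hx'.symm ▸ h)⟩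
  haveI : IsLocallyNoetherian X := LocallyOfFiniteType.isLocallyNoetherian p
  haveI : IsIso (Spec.map (CommRingCat.ofHom (algebraMap k k))) := by
    rw [show CommRingCat.ofHom (algebraMap k k) = 𝟙 _ from rfl, Spec.map_id]
    infer_instance
  let π := pullback.fst p (Spec.map (CommRingCat.ofHom (algebraMap k k)))
  haveI : IsIso π := inferInstance
  obtain ⟨x', hx'⟩ := π.surjective y
  haveI : IsLocallyNoetherian (pullback p (Spec.map (CommRingCat.ofHom (algebraMap k k)))) :=
    isLocallyNoetherian_of_isOpenImmersion π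
  have h1 : LocCoh.HasSk n _ _ := hasSk_of_equiv (asIso (π.stalkMap x')).commRingCatIsoToRingEquiv.symm (h k x' hx')
  exact hx' ▸ h1

/-- Serre's criterion for a Noetherian local ring. -/
theorem normal_local_iff (R : Type u) [CommRing R] [IsLocalRing R] [IsNoetherianRing R] :
    (IsDomain R ∧ IsIntegrallyClosed R) ↔ (LocCoh.HasRk 1 R ∧ LocCoh.HasSk 2 R R) := by
  rw [← H1CAlg.normal_iff_R1_S2]
  constructor
  · rintro ⟨_, _⟩ p _
    exact ⟨IsLocalization.isDomain_localization p.primeCompl_le_nonZeroDivisors,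
      isIntegrallyClosed_of_isLocalization _ p.primeCompl p.primeCompl_le_nonZeroDivisors⟩
  · intro h
    obtain ⟨_, _⟩ := h (IsLocalRing.maximalIdeal R)
    haveI : IsLocalization.AtPrime R (IsLocalRing.maximalIdeal R) :=
      IsLocalization.of_le_isUnit fun x hx => not_not.mp fun hn => hx ((IsLocalRing.mem_maximalIdeal x).mpr hn)
    let e := (IsLocalization.algEquiv (IsLocalRing.maximalIdeal R).primeCompl
      (Localization.AtPrime (IsLocalRing.maximalIdeal R)) R).toRingEquiv
    exact ⟨e.symm.toMulEquiv.isDomain _, IsIntegrallyClosed.of_equiv e⟩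

/-- The geometric normality at a point, by Serre's criterion. -/
theorem geomNormal_iff {k : Type u} [Field k] {X : Scheme.{u}} (p : X ⟶ Spec (CommRingCat.of k))
    [LocallyOfFiniteType p] (y : X) :
    (∀ (K : Type u) [Field K] [Algebra k K] (x' : ↥(FBase.bc p K)), (FBase.bcπ p K).base x' = y →
        (IsDomain ((FBase.bc p K).presheaf.stalk x') ∧ IsIntegrallyClosed ((FBase.bc p K).presheaf.stalk x'))) ↔
      (∀ (K : Type u) [Field K] [Algebra k K] (x' : ↥(FBase.bc p K)), (FBase.bcπ p K).base x' = y →
        LocCoh.HasRk 1 ((FBase.bc p K).presheaf.stalk x')) ∧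
        LocCoh.HasSk 2 (X.presheaf.stalk y) (X.presheaf.stalk y) := by
  rw [← geomHasSk_iff p y 2, ← forall_and]
  refine forall_congr' fun K => ?_
  rw [← forall_and]
  refine forall_congr' fun _ => ?_
  rw [← forall_and]
  refine forall_congr' fun _ => ?_
  rw [← forall_and]
  refine forall_congr' fun x' => ?_
  rw [← forall_and]
  refine forall_congr' fun _ => ?_
  haveI : IsLocallyNoetherian (FBase.bc p K) :=
    LocallyOfFiniteType.isLocallyNoetherian (pullback.snd p (Spec.map (CommRingCat.ofHom (algebraMap k K))))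
  exact normal_local_iff _

end Groth.Agent.H06EGA12
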