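import Groth.Agent.H06EGA12.GeomRkOpen
import Groth.Agent.H06EGA12.GeomSkField

/-!
# Openness of the geometrically normal locus of the fibres (EGA IV 12.1.6 (iv))
-/

set_option autoImplicit false
set_option linter.style.haveILetI false
set_option backward.isDefEq.respectTransparency false
universe u

open CategoryTheory CategoryTheory.Limits AlgebraicGeometry TopologicalSpace Topology TensorProduct

namespace Groth.Agent.H06EGA12

open H8Props.FieldDim H06EGA9

/-- Geometric normality tested on finite extensions. -/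
theorem geomNormal_iff_finite {k : Type u} [Field k] {X : Scheme.{u}} (p : X ⟶ Spec (CommRingCat.of k))
    [LocallyOfFinitePresentation p] (y : X) :
    (∀ (K : Type u) [Field K] [Algebra k K], Module.Finite k K → ∀ (x' : ↥(FBase.bc p K)),
        (FBase.bcπ p K).base x' = y →
        (IsDomain ((FBase.bc p K).presheaf.stalk x') ∧ IsIntegrallyClosed ((FBase.bc p K).presheaf.stalk x'))) ↔
      (∀ η : X, η ⤳ y → Order.coheight η ≤ 1 → η ∈ p.smoothLocus) ∧
        LocCoh.HasSk 2 (X.presheaf.stalk y) (X.presheaf.stalk y) := by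
  constructor
  · intro h
    refine ⟨(geomHasRk_iff_finite p y 1).1 fun K _ _ hK x' hx' => ?_, ?_⟩
    · haveI : IsLocallyNoetherian (FBase.bc p K) :=
        LocallyOfFiniteType.isLocallyNoetherian (pullback.snd p (Spec.map (CommRingCat.ofHom (algebraMap k K))))
      exact ((normal_local_iff _).1 (h K hK x' hx')).1
    haveI : IsLocallyNoetherian X := LocallyOfFiniteType.isLocallyNoetherian p
    haveI : IsIso (Spec.map (CommRingCat.ofHom (algebraMap k k))) := by
      rw [show CommRingCat.ofHom (algebraMap k k) = 𝟙 _ from rfl, Spec.map_id]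
      infer_instance
    let π := pullback.fst p (Spec.map (CommRingCat.ofHom (algebraMap k k)))
    haveI : IsIso π := inferInstance
    obtain ⟨x', hx'⟩ := π.surjective y
    haveI : IsLocallyNoetherian (pullback p (Spec.map (CommRingCat.ofHom (algebraMap k k)))) :=
      isLocallyNoetherian_of_isOpenImmersion π
    haveI : IsLocallyNoetherian (FBase.bc p k) := ‹_›
    have h1 := ((normal_local_iff _).1 (h k inferInstance x' hx')).2
    exact hx' ▸ hasSk_of_equiv (asIso (π.stalkMap x')).commRingCatIsoToRingEquiv.symm h1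
  · rintro ⟨hR, hS⟩ K _ _ _ x' hx'
    exact ((geomNormal_iff p y).2 ⟨(geomHasRk_iff p y 1).2 hR, hS⟩) K x' hx'

variable {X Y : Scheme.{u}}

/-- The geometrically normal points of the fibres. -/
def normalLocus (f : X ⟶ Y) : Set X :=
  {x | x ∉ rkBad f 1 ∧ LocCoh.HasSk 2 ((f.fiber (f x)).presheaf.stalk (f.asFiber x))
    ((f.fiber (f x)).presheaf.stalk (f.asFiber x))}

theorem mem_normalLocus_iff (f : X ⟶ Y) [LocallyOfFinitePresentation f] (x : X) :
    x ∈ normalLocus f ↔
      ∀ (K : Type u) [Field K] [Algebra (IsLocalRing.ResidueField (Y.presheaf.stalk (f.base x))) K],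
        Module.Finite (IsLocalRing.ResidueField (Y.presheaf.stalk (f.base x))) K →
        ∀ x' : ↥(FBase.bc (f.fiberToSpecResidueField (f.base x)) K),
          (FBase.bcπ (f.fiberToSpecResidueField (f.base x)) K).base x' = f.asFiber x →
          IsDomain ((FBase.bc (f.fiberToSpecResidueField (f.base x)) K).presheaf.stalk x') ∧
            IsIntegrallyClosed ((FBase.bc (f.fiberToSpecResidueField (f.base x)) K).presheaf.stalk x') := by
  haveI : LocallyOfFinitePresentation (Y := Spec (CommRingCat.of (IsLocalRing.ResidueField (Y.presheaf.stalk (f.base x)))))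
      (f.fiberToSpecResidueField (f x)) :=
    MorphismProperty.of_isPullback (P := @LocallyOfFinitePresentation)
      (IsPullback.of_hasPullback f (Y.fromSpecResidueField (f x))) ‹_›
  refine Iff.trans ?_ (geomNormal_iff_finite (k := IsLocalRing.ResidueField (Y.presheaf.stalk (f.base x)))
    (f.fiberToSpecResidueField (f x)) (f.asFiber x)).symm
  exact and_congr_left fun _ => (geomHasRk_fibre_iff f x 1).symm.trans
    (geomHasRk_iff (k := IsLocalRing.ResidueField (Y.presheaf.stalk (f.base x)))
      (f.fiberToSpecResidueField (f x)) (f.asFiber x) 1)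

theorem normalLocus_subset_equiLocus (f : X ⟶ Y) [LocallyOfFinitePresentation f] :
    normalLocus f ⊆ equiLocus f := by
  intro x hx
  haveI : LocallyOfFiniteType (Y := Spec (CommRingCat.of (IsLocalRing.ResidueField (Y.presheaf.stalk (f.base x)))))
      (f.fiberToSpecResidueField (f x)) := locallyOfFiniteType_fiberToSpec f (f x)
  haveI : IsLocallyNoetherian (f.fiber (f x)) := LocallyOfFiniteType.isLocallyNoetherian (f.fiberToSpecResidueField (f x))
  let k := IsLocalRing.ResidueField (Y.presheaf.stalk (f.base x))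
  let p : f.fiber (f x) ⟶ Spec (CommRingCat.of k) := f.fiberToSpecResidueField (f x)
  haveI : IsIso (Spec.map (CommRingCat.ofHom (algebraMap k k))) := by
    rw [show CommRingCat.ofHom (algebraMap k k) = 𝟙 _ from rfl, Spec.map_id]
    infer_instance
  let π := pullback.fst p (Spec.map (CommRingCat.ofHom (algebraMap k k)))
  haveI : IsIso π := inferInstance
  obtain ⟨x', hx'⟩ := π.surjective (f.asFiber x)
  obtain ⟨hd, -⟩ := (mem_normalLocus_iff f x).1 hx k inferInstance x' hx'
  haveI : IsDomain ((pullback p (Spec.map (CommRingCat.ofHom (algebraMap k k)))).presheaf.stalk x') := hd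
  have hdom : IsDomain ((f.fiber (f x)).presheaf.stalk (f.asFiber x)) := by
    rw [← hx']
    exact (asIso (π.stalkMap x')).commRingCatIsoToRingEquiv.toMulEquiv.isDomain _
  haveI := hdom
  rw [mem_equiLocus_iff]
  constructor
  · intro q hq
    rw [IsDomain.minimalPrimes_eq_singleton_bot, Set.mem_singleton_iff] at hq
    subst hq
    exact ringKrullDim_eq_of_ringEquiv (RingEquiv.quotientBot _)
  · intro q hq
    rw [IsDomain.minimalPrimes_eq_singleton_bot]
    obtain ⟨hqp, a, ha⟩ := hq
    refine Set.mem_singleton_iff.2 (eq_bot_iff.2 fun r hr => ?_)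
    by_cases ha0 : a = 0
    · exfalso
      refine hqp.ne_top (Ideal.eq_top_iff_one _ |>.2 ?_)
      rw [ha]
      exact Ideal.le_radical (by simp [ha0])
    · rw [ha] at hr
      obtain ⟨m, hm⟩ := hr
      rw [Submodule.mem_colon_singleton, smul_eq_mul, Submodule.mem_bot, mul_eq_zero] at hm
      exact pow_eq_zero_iff' .. |>.1 (hm.resolve_right ha0) |>.1

theorem isOpen_normalLocus (f : X ⟶ Y) [Flat f] [LocallyOfFinitePresentation f] : IsOpen (normalLocus f) := by
  have hS := isOpen_setOf_onFibre f (Coh.structureModule X) isFP_structureModule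
    (isFlatOver_structureModule f) (semilinearInvariant_hasSk 2) (affineOpen_hasSk 2)
  have : normalLocus f = (equiLocus f \ rkBad f 1) ∩
      {x : X | OnFibre f (Coh.structureModule X) (fun A _ _ M _ _ => LocCoh.HasSk 2 A M) (f.asFiber x)} := by
    ext x
    refine ⟨fun hx => ⟨⟨normalLocus_subset_equiLocus f hx, hx.1⟩, ?_⟩, fun hx => ⟨hx.1.2, ?_⟩⟩
    · exact (onFibre_structureModule_iff f (semilinearInvariant_hasSk 2) (f.asFiber x)).2 hx.2
    · exact (onFibre_structureModule_iff f (semilinearInvariant_hasSk 2) (f.asFiber x)).1 hx.2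
  rw [this]
  exact (isOpen_equiLocus_diff_rkBad f 1).inter hS

theorem mem_normalLocus_comp_openImmersion {V : Scheme.{u}} (a : V ⟶ X) [IsOpenImmersion a]
    (f : X ⟶ Y) [LocallyOfFinitePresentation f] (v : V) :
    v ∈ normalLocus (a ≫ f) ↔ a v ∈ normalLocus f := by
  show _ ∧ _ ↔ _ ∧ _
  rw [rkBad_comp_openImmersion a f 1]
  refine and_congr_right fun _ => ?_
  set s := (a ≫ f) v
  let q : (a ≫ f).fiber s ⟶ f.fiber s := pullback.lift ((a ≫ f).fiberι s ≫ a)
    ((a ≫ f).fiberToSpecResidueField s) ((Category.assoc _ _ _).trans pullback.condition)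
  have hq : IsPullback ((a ≫ f).fiberι s) q a (f.fiberι s) := isPullback_fibMap a f s
  haveI : IsOpenImmersion q := MorphismProperty.of_isPullback hq ‹IsOpenImmersion a›
  have hz : f.fiberι s (q ((a ≫ f).asFiber v)) = a v := by
    show (q ≫ f.fiberι s) ((a ≫ f).asFiber v) = _
    rw [show q ≫ f.fiberι s = (a ≫ f).fiberι s ≫ a from pullback.lift_fst _ _ _]
    exact congrArg a ((a ≫ f).fiberι_asFiber v)
  haveI := locallyOfFiniteType_fiberToSpec f s
  haveI : IsLocallyNoetherian (f.fiber s) := LocallyOfFiniteType.isLocallyNoetherian (f.fiberToSpecResidueField s)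
  haveI : IsLocallyNoetherian ((a ≫ f).fiber s) := isLocallyNoetherian_of_isOpenImmersion q
  let e := (asIso (q.stalkMap ((a ≫ f).asFiber v))).commRingCatIsoToRingEquiv
  exact Iff.trans ⟨hasSk_of_equiv e.symm, hasSk_of_equiv e⟩
    (property_iff_asFiber (fun s z => LocCoh.HasSk 2 ((f.fiber s).presheaf.stalk z) ((f.fiber s).presheaf.stalk z))
      (q ((a ≫ f).asFiber v)) (a v) hz)

/-- The locus where the morphism is flat with geometrically normal fibre is open. -/
theorem isOpen_flat_inter_normalLocus (f : X ⟶ Y) [LocallyOfFinitePresentation f] :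
    IsOpen {x : X | (f.stalkMap x).hom.Flat ∧ x ∈ normalLocus f} := by
  let U : X.Opens := ⟨{x | FlatMod.IsFlatOverAt f (Coh.structureModule X) x},
    H8Props.FlatLocus.isOpen_setOf_isFlatOverAt f _ isFP_structureModule⟩
  have hU : ∀ x, x ∈ U ↔ (f.stalkMap x).hom.Flat := fun x => isFlatOverAt_structureModule_iff f x
  haveI : Flat (U.ι ≫ f) := by
    rw [Flat.iff_flat_stalkMap]
    intro u
    rw [Scheme.Hom.stalkMap_comp]
    exact RingHom.Flat.comp ((hU _).1 u.2) (Flat.stalkMap U.ι u)
  have : {x : X | (f.stalkMap x).hom.Flat ∧ x ∈ normalLocus f} = U.ι '' normalLocus (U.ι ≫ f) := by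
    ext x
    constructor
    · rintro ⟨h1, h2⟩
      exact ⟨⟨x, (hU x).2 h1⟩, (mem_normalLocus_comp_openImmersion U.ι f _).2 h2, rfl⟩
    · rintro ⟨u, hu, rfl⟩
      exact ⟨(hU _).1 u.2, (mem_normalLocus_comp_openImmersion U.ι f u).1 hu⟩
  rw [this]
  exact U.ι.isOpenEmbedding.isOpenMap _ (isOpen_normalLocus (U.ι ≫ f))

end Groth.Agent.H06EGA12
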