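import Groth.Agent.H06EGA12.GeomNormalOpen

/-!
# Geometrically normal points of fibres in terms of rings
-/

set_option autoImplicit false
set_option linter.style.haveILetI false
set_option backward.isDefEq.respectTransparency false
universe u

open CategoryTheory CategoryTheory.Limits AlgebraicGeometry TensorProduct

namespace Groth.Agent.H06EGA12

/-- Ring-theoretic geometric normality of the fibre at a prime: all local rings above it of base changes
to fields are normal domains. -/
def GN (A C : Type u) [CommRing A] [CommRing C] [Algebra A C] (q : Ideal C) : Prop :=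
  ∀ (K : Type u) [Field K] [Algebra A K] (Q : Ideal (K ⊗[A] C)) [Q.IsPrime],
    Q.comap (Algebra.TensorProduct.includeRight : C →ₐ[A] K ⊗[A] C).toRingHom = q →
      IsDomain (Localization.AtPrime Q) ∧ IsIntegrallyClosed (Localization.AtPrime Q)

variable {X Y : Scheme.{u}} (f : X ⟶ Y)

/-- A chart of the base change of a fibre to a field. -/
theorem exists_chart_bc {A C : Type u} [CommRing A] [CommRing C] [Algebra A C]
    (a : Spec (CommRingCat.of C) ⟶ X) [IsOpenImmersion a] (b : Spec (CommRingCat.of A) ⟶ Y)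
    [IsOpenImmersion b] (hab : a ≫ f = Spec.map (CommRingCat.ofHom (algebraMap A C)) ≫ b) (x : X)
    (K : Type u) [Field K] [Algebra A K] [Algebra (IsLocalRing.ResidueField (Y.presheaf.stalk (f.base x))) K]
    (hK : Spec.map (CommRingCat.ofHom (algebraMap (IsLocalRing.ResidueField (Y.presheaf.stalk (f.base x))) K)) ≫
      Y.fromSpecResidueField (f x) = Spec.map (CommRingCat.ofHom (algebraMap A K)) ≫ b) :
    ∃ (j : Spec (CommRingCat.of (K ⊗[A] C)) ⟶ FBase.bc (f.fiberToSpecResidueField (f.base x)) K)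
      (_ : IsOpenImmersion j),
      (∀ Q, FBase.bcπ (f.fiberToSpecResidueField (f.base x)) K (j Q) = f.asFiber x ↔
          a (PrimeSpectrum.comap (Algebra.TensorProduct.includeRight : C →ₐ[A] K ⊗[A] C).toRingHom Q) = x) ∧
        (∀ x', (∃ c, a c = x) → FBase.bcπ (f.fiberToSpecResidueField (f.base x)) K x' = f.asFiber x →
          ∃ Q, j Q = x') := by
  let k := IsLocalRing.ResidueField (Y.presheaf.stalk (f.base x))
  let p : f.fiber (f x) ⟶ Spec (CommRingCat.of k) := f.fiberToSpecResidueField (f x)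
  let φ := Spec.map (CommRingCat.ofHom (algebraMap k K))
  let g := Spec.map (CommRingCat.ofHom (algebraMap k K)) ≫ Y.fromSpecResidueField (f x)
  have hP : IsPullback (FBase.bcπ p K ≫ f.fiberι (f x)) (FBase.bcStr p K) f g :=
    (IsPullback.of_hasPullback p φ).paste_horiz (IsPullback.of_hasPullback f (Y.fromSpecResidueField (f x)))
  let R := CommRingCat.of (K ⊗[A] C)
  let iR : Spec R ⟶ Spec (CommRingCat.of C) :=
    Spec.map (CommRingCat.ofHom (Algebra.TensorProduct.includeRight : C →ₐ[A] K ⊗[A] C).toRingHom)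
  let iL : Spec R ⟶ Spec (CommRingCat.of K) :=
    Spec.map (CommRingCat.ofHom (Algebra.TensorProduct.includeLeftRingHom : K →+* K ⊗[A] C))
  have hC : IsPullback iL iR (Spec.map (CommRingCat.ofHom (algebraMap A K)))
      (Spec.map (CommRingCat.ofHom (algebraMap A C))) :=
    isPullback_SpecMap_of_isPushout _ _ _ _ (CommRingCat.isPushout_tensorProduct A K C)
  have hw : iR ≫ a ≫ f = iL ≫ g := by
    rw [hab, show g = _ from hK]
    simp only [← Category.assoc]
    rw [hC.w]
  let j : Spec R ⟶ FBase.bc p K := hP.lift (iR ≫ a) iL (by rw [Category.assoc]; exact hw)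
  have hjfst : j ≫ (FBase.bcπ p K ≫ f.fiberι (f x)) = iR ≫ a := hP.lift_fst _ _ _
  have hjsnd : j ≫ FBase.bcStr p K = iL := hP.lift_snd _ _ _
  have hCY : IsPullback iR iL (a ≫ f) g := by
    refine IsPullback.of_isLimit' ⟨hw⟩ ?_
    refine PullbackCone.IsLimit.mk _ (fun s => hC.lift s.snd s.fst ?_) (fun s => hC.lift_snd _ _ _)
      (fun s => hC.lift_fst _ _ _) (fun s m h1 h2 => hC.hom_ext (h2.trans (hC.lift_fst _ _ _).symm)
        (h1.trans (hC.lift_snd _ _ _).symm))
    rw [← cancel_mono b, Category.assoc, Category.assoc]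
    rw [← hab, ← hK]
    exact s.condition.symm
  have hj : IsPullback iR j a (FBase.bcπ p K ≫ f.fiberι (f x)) := by
    refine IsPullback.of_bot ?_ hjfst.symm hP.flip.flip
    rw [hjsnd]
    exact hCY
  haveI : IsOpenImmersion j := MorphismProperty.of_isPullback hj ‹IsOpenImmersion a›
  refine ⟨j, ‹_›, fun Q => ?_, fun x' hc hx' => ?_⟩
  · have h : f.fiberι (f x) (FBase.bcπ p K (j Q)) = a (iR Q) := congrArg (fun m => m Q) hjfst
    refine ⟨fun hQ => ?_, fun hQ => (f.fiberι (f x)).isEmbedding.injective ?_⟩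
    · show a (iR Q) = x
      rw [← h, show FBase.bcπ p K (j Q) = f.asFiber x from hQ, f.fiberι_asFiber]
    · rw [f.fiberι_asFiber]
      exact h.trans hQ
  · obtain ⟨c, hc⟩ := hc
    obtain ⟨Q, -, hQ⟩ := Scheme.exists_preimage_of_isPullback hj c x' (by
      show a c = f.fiberι (f x) (FBase.bcπ p K x')
      rw [show FBase.bcπ p K x' = f.asFiber x from hx', f.fiberι_asFiber, hc])
    exact ⟨Q, hQ⟩

/-- The stalk of a chart is the localization. -/
theorem normal_chart_iff {R : Type u} [CommRing R] {Z : Scheme.{u}} (j : Spec (CommRingCat.of R) ⟶ Z)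
    [IsOpenImmersion j] (Q : PrimeSpectrum R) :
    (IsDomain (Z.presheaf.stalk (j Q)) ∧ IsIntegrallyClosed (Z.presheaf.stalk (j Q))) ↔
      IsDomain (Localization.AtPrime Q.asIdeal) ∧ IsIntegrallyClosed (Localization.AtPrime Q.asIdeal) := by
  letI : Algebra R ((Spec (CommRingCat.of R)).presheaf.stalk Q) := StructureSheaf.stalkAlgebra R Q
  haveI : IsLocalization.AtPrime ((Spec (CommRingCat.of R)).presheaf.stalk Q) Q.asIdeal :=
    StructureSheaf.IsLocalization.to_stalk R Q
  let e : Z.presheaf.stalk (j Q) ≃+* Localization.AtPrime Q.asIdeal :=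
    (asIso (j.stalkMap Q)).commRingCatIsoToRingEquiv.trans
      (IsLocalization.algEquiv Q.asIdeal.primeCompl ((Spec (CommRingCat.of R)).presheaf.stalk Q)
        (Localization.AtPrime Q.asIdeal)).toRingEquiv
  constructor
  · rintro ⟨h1, h2⟩
    exact ⟨e.symm.toMulEquiv.isDomain, IsIntegrallyClosed.of_equiv e⟩
  · rintro ⟨h1, h2⟩
    exact ⟨e.toMulEquiv.isDomain, IsIntegrallyClosed.of_equiv e.symm⟩

/-- Geometrically normal points of fibres in a chart. -/
theorem mem_normalLocus_chart_iff [LocallyOfFinitePresentation f] {A C : Type u} [CommRing A] [CommRing C]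
    [Algebra A C] (a : Spec (CommRingCat.of C) ⟶ X) [IsOpenImmersion a] (b : Spec (CommRingCat.of A) ⟶ Y)
    [IsOpenImmersion b] (hab : a ≫ f = Spec.map (CommRingCat.ofHom (algebraMap A C)) ≫ b)
    (q : Spec (CommRingCat.of C)) :
    a q ∈ normalLocus f ↔ GN A C (PrimeSpectrum.asIdeal q) := by
  set x := a q with hx
  have hy : b (Spec.map (CommRingCat.ofHom (algebraMap A C)) q) = f x :=
    (congrArg (fun m => m q) hab).symm
  haveI : LocallyOfFinitePresentation
      (Y := Spec (CommRingCat.of (IsLocalRing.ResidueField (Y.presheaf.stalk (f.base x)))))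
      (f.fiberToSpecResidueField (f x)) :=
    MorphismProperty.of_isPullback (P := @LocallyOfFinitePresentation)
      (IsPullback.of_hasPullback f (Y.fromSpecResidueField (f x))) ‹_›
  rw [mem_normalLocus_iff f x]
  constructor
  · intro h K _ _ Q _ hQ
    have h' := (geomNormal_iff_finite (k := IsLocalRing.ResidueField (Y.presheaf.stalk (f.base x)))
      (f.fiberToSpecResidueField (f.base x)) (f.asFiber x)).1 h
    have hker : ∀ t : A, algebraMap A K t = 0 ↔ algebraMap A C t ∈ PrimeSpectrum.asIdeal q := fun t => by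
      rw [← hQ, Ideal.mem_comap]
      show _ ↔ (1 : K) ⊗ₜ[A] algebraMap A C t ∈ Q
      rw [Algebra.algebraMap_eq_smul_one (A := C), ← TensorProduct.smul_tmul, ← Algebra.algebraMap_eq_smul_one]
      refine ⟨fun h0 => by rw [h0, TensorProduct.zero_tmul]; exact zero_mem _, fun hm => ?_⟩
      by_contra h0
      refine ‹Q.IsPrime›.ne_top (Q.eq_top_of_isUnit_mem hm ?_)
      exact (isUnit_iff_ne_zero.mpr h0).map (Algebra.TensorProduct.includeLeftRingHom : K →+* K ⊗[A] C)
    let g := Spec.map (CommRingCat.ofHom (algebraMap A K)) ≫ b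
    have hpt : g (IsLocalRing.closedPoint K) = f x := by
      rw [← hy]
      show b (Spec.map (CommRingCat.ofHom (algebraMap A K)) _) = _
      refine congrArg b (PrimeSpectrum.ext (Ideal.ext fun t => ?_))
      show algebraMap A K t ∈ IsLocalRing.maximalIdeal K ↔ _
      rw [IsLocalRing.maximalIdeal_eq_bot, Ideal.mem_bot]
      exact hker t
    obtain ⟨φ, hφ⟩ : ∃ φ : Y.residueField (f x) ⟶ CommRingCat.of K,
        Spec.map φ ≫ Y.fromSpecResidueField (f x) = g := by
      rw [← hpt]
      exact ⟨_, Scheme.descResidueField_stalkClosedPointTo_fromSpecResidueField K Y g⟩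
    letI : Algebra (IsLocalRing.ResidueField (Y.presheaf.stalk (f.base x))) K := φ.hom.toAlgebra
    obtain ⟨j, _, hj, -⟩ := exists_chart_bc f a b hab x K hφ
    refine (normal_chart_iff j ⟨Q, ‹_›⟩).1 (((geomNormal_iff _ (f.asFiber x)).2
      ⟨(geomHasRk_iff _ (f.asFiber x) 1).2 h'.1, h'.2⟩) K (j ⟨Q, ‹_›⟩) ((hj ⟨Q, ‹_›⟩).2 ?_))
    exact congrArg a (PrimeSpectrum.ext hQ)
  · intro h K _ _ _ x' hx'
    let φ := Spec.map (CommRingCat.ofHom (algebraMap (IsLocalRing.ResidueField (Y.presheaf.stalk (f.base x))) K)) ≫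
      Y.fromSpecResidueField (f x)
    have hrange : Set.range φ ⊆ Set.range b := by
      rintro _ ⟨t, rfl⟩
      have : φ t ∈ Set.range (Y.fromSpecResidueField (f x)) := ⟨_, rfl⟩
      rw [Scheme.range_fromSpecResidueField, Set.mem_singleton_iff] at this
      exact ⟨_, hy.trans this.symm⟩
    let ψ := Spec.preimage (IsOpenImmersion.lift b φ hrange)
    letI : Algebra A K := ψ.hom.toAlgebra
    have hK : φ = Spec.map (CommRingCat.ofHom (algebraMap A K)) ≫ b := by
      rw [show CommRingCat.ofHom (algebraMap A K) = ψ from rfl, Spec.map_preimage, IsOpenImmersion.lift_fac]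
    obtain ⟨j, _, hj, hsurj⟩ := exists_chart_bc f a b hab x K hK
    obtain ⟨Q, rfl⟩ := hsurj x' ⟨q, rfl⟩ hx'
    refine (normal_chart_iff j Q).2 (h K Q.asIdeal ?_)
    exact congrArg PrimeSpectrum.asIdeal (a.isOpenEmbedding.injective ((hj Q).1 hx'))

end Groth.Agent.H06EGA12
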