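import Groth.Agent.H06EGA12.GeomNormalDescent
import Groth.Agent.H05EGA4.UnibranchBaseChange
import Groth.Agent.H13Flat.Algebra

/-!
# Normal morphisms preserve geometric unibranchness
-/

set_option autoImplicit false
set_option linter.style.haveILetI false
set_option backward.isDefEq.respectTransparency false
universe u

open CategoryTheory CategoryTheory.Limits AlgebraicGeometry TensorProduct

namespace Groth.Agent.H06EGA12

/-- The geometrically normal primes of a flat finitely presented algebra contain a basic open around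
each of them. -/
theorem exists_forall_GN {R C : Type u} [CommRing R] [CommRing C] [Algebra R C] [Algebra.FinitePresentation R C]
    [Module.Flat R C] (q : Ideal C) [q.IsPrime] (h : GN R C q) :
    ∃ g ∉ q, ∀ (q' : Ideal (Localization.Away g)) [q'.IsPrime], GN R (Localization.Away g) q' := by
  let f := Spec.map (CommRingCat.ofHom (algebraMap R C))
  haveI : LocallyOfFinitePresentation f := (LocallyOfFinitePresentation.SpecMap_iff _).mpr
    (RingHom.finitePresentation_algebraMap.mpr inferInstance)
  haveI : Flat f := (HasRingHomProperty.Spec_iff (P := @Flat)).mpr (RingHom.flat_algebraMap_iff.mpr inferInstance)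
  let x : Spec (CommRingCat.of C) := ⟨q, inferInstance⟩
  have hx : x ∈ normalLocus f :=
    (mem_normalLocus_chart_iff f (𝟙 _) (𝟙 _) (by simp [f]) x).2 h
  obtain ⟨_, ⟨g, rfl⟩, hxg, hg⟩ :=
    PrimeSpectrum.isTopologicalBasis_basic_opens.exists_subset_of_mem_open hx (isOpen_normalLocus f)
  refine ⟨g, hxg, fun q' _ => ?_⟩
  let a := Spec.map (CommRingCat.ofHom (algebraMap C (Localization.Away g)))
  haveI : IsOpenImmersion a := IsOpenImmersion.of_isLocalization g
  haveI : IsOpenImmersion (𝟙 (Spec (CommRingCat.of R))) := inferInstance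
  refine (mem_normalLocus_chart_iff f a (𝟙 _) ?_ ⟨q', inferInstance⟩).1 (hg ?_)
  · rw [Category.comp_id, ← Spec.map_comp, ← CommRingCat.ofHom_comp, ← IsScalarTower.algebraMap_eq]
  · show g ∉ q'.comap (algebraMap C (Localization.Away g))
    exact fun hm => ‹q'.IsPrime›.ne_top
      (q'.eq_top_of_isUnit_mem hm (IsLocalization.Away.algebraMap_isUnit g))

/-- A flat algebra with all fibre points geometrically normal has normal homomorphism structure map. -/
theorem isNormalHom_of_GN {R C : Type u} [CommRing R] [CommRing C] [Algebra R C] [Module.Flat R C]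
    (h : ∀ (q : Ideal C) [q.IsPrime], GN R C q) : EGA4.IsNormalHom R C := by
  refine ⟨inferInstance, fun p _ k' _ _ _ => ?_⟩
  letI : Algebra R k' := ((algebraMap p.ResidueField k').comp (algebraMap R p.ResidueField)).toAlgebra
  haveI : IsScalarTower R p.ResidueField k' := IsScalarTower.of_algebraMap_eq fun _ => rfl
  refine H05EGA4.isNormalRing_of_ringEquiv
    (Algebra.TensorProduct.cancelBaseChange R p.ResidueField p.ResidueField k' C).symm.toRingEquiv ?_
  intro Q _
  exact h _ k' Q rfl

/-- Geometric unibranchness from a Noetherian model. -/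
theorem geomUnibranch_of_model {R A C C₀ : Type u} [CommRing R] [IsNoetherianRing R] [CommRing A] [CommRing C]
    [CommRing C₀] [Algebra R A] [Algebra R C₀] [Algebra A C] [Algebra.FinitePresentation R C₀]
    [Module.Flat R C₀] (e : A ⊗[R] C₀ ≃ₐ[A] C) (q : Ideal C) [q.IsPrime] (h : GN A C q)
    (hA : CAlg2.IsGeomUnibranch (Localization.AtPrime (q.under A))) :
    CAlg2.IsGeomUnibranch (Localization.AtPrime q) := by
  let ι : C₀ →+* C := e.toRingHom.comp (Algebra.TensorProduct.includeRight : C₀ →ₐ[R] A ⊗[R] C₀).toRingHom
  let q₀ := q.comap ι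
  haveI : q₀.IsPrime := Ideal.IsPrime.comap _
  obtain ⟨g, hg, hall⟩ := exists_forall_GN q₀ (GN.descend e q h)
  let C' := Localization.Away g
  haveI : Module.Flat R C' := Module.Flat.trans R C₀ C'
  haveI : IsNoetherianRing C₀ := Algebra.FiniteType.isNoetherianRing R C₀
  haveI : IsNoetherianRing C' := IsLocalization.isNoetherianRing (Submonoid.powers g) C' inferInstance
  have hN : EGA4.IsNormalHom R C' := isNormalHom_of_GN hall
  let p := q.under A
  let B := Localization.AtPrime p
  letI := Localization.AtPrime.algebraOfLiesOver p q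
  let L := Localization.AtPrime q
  letI : Algebra R L := ((algebraMap A L).comp (algebraMap R A)).toAlgebra
  haveI : IsScalarTower R A L := IsScalarTower.of_algebraMap_eq fun _ => rfl
  have hBA : ∀ a : A, algebraMap B L (algebraMap A B a) = algebraMap A L a := fun a =>
    (IsScalarTower.algebraMap_apply A B L a).symm
  haveI : IsScalarTower R B L := IsScalarTower.of_algebraMap_eq fun r => by
    rw [IsScalarTower.algebraMap_apply R A B, hBA, ← IsScalarTower.algebraMap_apply R A L]
  have hug : IsUnit ((algebraMap C L).comp ι g) := IsLocalization.map_units L (⟨ι g, hg⟩ : q.primeCompl)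
  let χ : C' →+* L := IsLocalization.Away.lift g hug
  have hχι : ∀ c : C₀, χ (algebraMap C₀ C' c) = algebraMap C L (ι c) := fun c =>
    IsLocalization.Away.lift_eq g hug c
  have hιR : ∀ r : R, ι (algebraMap R C₀ r) = algebraMap A C (algebraMap R A r) := fun r => by
    show e ((1 : A) ⊗ₜ[R] algebraMap R C₀ r) = _
    rw [Algebra.algebraMap_eq_smul_one (A := C₀), ← TensorProduct.smul_tmul, ← Algebra.algebraMap_eq_smul_one,
      ← e.commutes (algebraMap R A r)]
    rfl
  have hχR : ∀ r : R, χ (algebraMap R C' r) = algebraMap R L r := fun r => by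
    show χ (algebraMap R C' r) = algebraMap A L (algebraMap R A r)
    rw [IsScalarTower.algebraMap_apply R C₀ C', hχι, hιR, ← IsScalarTower.algebraMap_apply A C L]
  let χA : C' →ₐ[R] L := { χ with commutes' := hχR }
  let φ : B ⊗[R] C' →ₐ[R] L :=
    Algebra.TensorProduct.lift (IsScalarTower.toAlgHom R B L) χA fun _ _ => Commute.all _ _
  let q' : Ideal (B ⊗[R] C') := (IsLocalRing.maximalIdeal L).comap φ.toRingHom
  haveI : q'.IsPrime := Ideal.IsPrime.comap _
  have hq' : q'.comap (algebraMap B (B ⊗[R] C')) = IsLocalRing.maximalIdeal B := by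
    ext b
    show φ (b ⊗ₜ[R] (1 : C')) ∈ IsLocalRing.maximalIdeal L ↔ _
    rw [Algebra.TensorProduct.lift_tmul, map_one, mul_one, IsScalarTower.coe_toAlgHom',
      IsLocalRing.mem_maximalIdeal, IsLocalRing.mem_maximalIdeal, mem_nonunits_iff, mem_nonunits_iff,
      isUnit_map_iff]
  obtain ⟨hgub, -⟩ := H05EGA4.UnibranchBaseChange.isGeomUnibranch_normalHom hN B hA q' hq'
  -- identify the two local rings
  let D := Localization.AtPrime q'
  let σ : A ⊗[R] C₀ →+* D := (algebraMap (B ⊗[R] C') D).comp
    (Algebra.TensorProduct.map (IsScalarTower.toAlgHom R A B) (IsScalarTower.toAlgHom R C₀ C')).toRingHom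
  have hσ : ∀ z, φ (Algebra.TensorProduct.map (IsScalarTower.toAlgHom R A B) (IsScalarTower.toAlgHom R C₀ C') z) =
      algebraMap C L (e z) := fun z => by
    induction z using TensorProduct.induction_on with
    | zero => simp only [map_zero]
    | add x y hx hy => simp only [map_add, hx, hy]
    | tmul a c =>
      rw [Algebra.TensorProduct.map_tmul, Algebra.TensorProduct.lift_tmul, IsScalarTower.coe_toAlgHom',
        IsScalarTower.coe_toAlgHom', IsScalarTower.coe_toAlgHom', hBA]
      show algebraMap A L a * χ (algebraMap C₀ C' c) = _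
      rw [hχι, IsScalarTower.algebraMap_apply A C L, ← map_mul, ← e.commutes a]
      show _ = algebraMap C L (e (a ⊗ₜ[R] c))
      refine congrArg (algebraMap C L) ?_
      show e (algebraMap A (A ⊗[R] C₀) a) * e ((1 : A) ⊗ₜ[R] c) = _
      rw [← map_mul, Algebra.TensorProduct.algebraMap_apply, Algebra.TensorProduct.tmul_mul_tmul, mul_one,
        one_mul]
      rfl
  let τ : C →+* D := σ.comp e.symm.toRingHom
  have hτ : ∀ c : q.primeCompl, IsUnit (τ c) := fun c => by
    refine (IsLocalization.AtPrime.isUnit_to_map_iff D q' _).mpr fun hm => ?_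
    have h1 : φ (Algebra.TensorProduct.map (IsScalarTower.toAlgHom R A B) (IsScalarTower.toAlgHom R C₀ C')
        (e.symm c)) ∈ IsLocalRing.maximalIdeal L := hm
    rw [hσ, e.apply_symm_apply, IsLocalization.AtPrime.to_map_mem_maximal_iff L q] at h1
    exact c.2 h1
  let F : L →+* D := IsLocalization.lift hτ
  have hφu : ∀ z : q'.primeCompl, IsUnit (φ.toRingHom z) := fun z =>
    IsLocalRing.notMem_maximalIdeal.mp z.2
  let G : D →+* L := IsLocalization.lift hφu
  have hGF : G.comp F = RingHom.id L := by
    refine IsLocalization.ringHom_ext q.primeCompl (RingHom.ext fun c => ?_)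
    show G (F (algebraMap C L c)) = algebraMap C L c
    rw [IsLocalization.lift_eq]
    show G (algebraMap (B ⊗[R] C') D _) = _
    rw [IsLocalization.lift_eq]
    exact (hσ _).trans (congrArg _ (e.apply_symm_apply c))
  have hFG : F.comp G = RingHom.id D := by
    refine IsLocalization.ringHom_ext q'.primeCompl ?_
    have hG : ∀ z, G (algebraMap (B ⊗[R] C') D z) = φ z := fun z => IsLocalization.lift_eq hφu z
    have hFA : ∀ a : A, F (algebraMap A L a) = algebraMap (B ⊗[R] C') D (algebraMap A B a ⊗ₜ[R] (1 : C')) := by
      intro a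
      rw [IsScalarTower.algebraMap_apply A C L, IsLocalization.lift_eq]
      show σ (e.symm (algebraMap A C a)) = _
      rw [e.symm.commutes]
      show algebraMap (B ⊗[R] C') D
        (Algebra.TensorProduct.map (IsScalarTower.toAlgHom R A B) (IsScalarTower.toAlgHom R C₀ C') (a ⊗ₜ[R] 1)) = _
      rw [Algebra.TensorProduct.map_tmul, map_one]
      rfl
    have hB : (F.comp (algebraMap B L)) =
        (algebraMap (B ⊗[R] C') D).comp (Algebra.TensorProduct.includeLeftRingHom : B →+* B ⊗[R] C') := by
      refine IsLocalization.ringHom_ext p.primeCompl (RingHom.ext fun a => ?_)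
      simp only [RingHom.comp_apply, hBA, hFA]
      rfl
    have hC : F.comp χ = (algebraMap (B ⊗[R] C') D).comp
        (Algebra.TensorProduct.includeRight : C' →ₐ[R] B ⊗[R] C').toRingHom := by
      refine IsLocalization.ringHom_ext (Submonoid.powers g) (RingHom.ext fun c => ?_)
      simp only [RingHom.comp_apply, hχι, F, IsLocalization.lift_eq]
      show σ (e.symm (e ((1 : A) ⊗ₜ[R] c))) = _
      rw [e.symm_apply_apply]
      show algebraMap (B ⊗[R] C') D
        (Algebra.TensorProduct.map (IsScalarTower.toAlgHom R A B) (IsScalarTower.toAlgHom R C₀ C') (1 ⊗ₜ[R] c)) = _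
      rw [Algebra.TensorProduct.map_tmul, map_one]
      rfl
    refine RingHom.ext fun z => ?_
    simp only [RingHom.comp_apply, RingHom.id_apply, hG]
    induction z using TensorProduct.induction_on with
    | zero => simp only [map_zero]
    | add x y hx hy => simp only [map_add, hx, hy]
    | tmul b c =>
      rw [Algebra.TensorProduct.lift_tmul, IsScalarTower.coe_toAlgHom', map_mul]
      refine (congrArg₂ (· * ·) (RingHom.congr_fun hB b) (RingHom.congr_fun hC c)).trans ?_
      show algebraMap (B ⊗[R] C') D (b ⊗ₜ[R] (1 : C')) * algebraMap (B ⊗[R] C') D ((1 : B) ⊗ₜ[R] c) = _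
      rw [← map_mul, Algebra.TensorProduct.tmul_mul_tmul, mul_one, one_mul]
  exact H06EGA14.isGeomUnibranch_of_ringEquiv (RingEquiv.ofRingHom G F hGF hFG) hgub

/-- A point at which a flat finitely presented algebra is geometrically normal in its fibre is
geometrically unibranch when its image is. -/
theorem geomUnibranch_of_GN {A C : Type u} [CommRing A] [CommRing C] [Algebra A C]
    [Algebra.FinitePresentation A C] [Module.Flat A C] (q : Ideal C) [q.IsPrime] (h : GN A C q)
    (hA : CAlg2.IsGeomUnibranch (Localization.AtPrime (q.under A))) :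
    CAlg2.IsGeomUnibranch (Localization.AtPrime q) := by
  obtain ⟨R, hR, C₀, _, _, hfp, hfl, ⟨e⟩⟩ := H13Flat.exists_flat_stage A C
  haveI := hfp
  haveI := hfl
  haveI : IsNoetherianRing R := H13Flat.isNoetherianRing_stage hR
  exact geomUnibranch_of_model e q h hA

end Groth.Agent.H06EGA12
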