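import Mathlib
import Groth.Prelude.Def_FDesc
import Groth.Prelude.Def_CAlg
import Groth.Agent.H22Alg.GeomRegularAt
import Groth.Agent.H22Alg.FlatSurj
import Groth.Agent.H8Props.Reduced
import Groth.Agent.H05EGA4.FieldSmooth
import Groth.Agent.H17.AssPush

/-!
# The geometric condition (R_k) over a field and the smooth locus
-/

set_option autoImplicit false
set_option linter.style.haveILetI false
set_option backward.isDefEq.respectTransparency false
universe u

open CategoryTheory CategoryTheory.Limits AlgebraicGeometry TopologicalSpace Topology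

namespace Groth.Agent.H06EGA12

/-- The stalk at a generization is a localization of the stalk, of dimension the height of the prime. -/
theorem exists_ringEquiv_localization {X : Scheme.{u}} (x : X) (r : Spec (X.presheaf.stalk x)) :
    haveI : r.asIdeal.IsPrime := r.2
    Nonempty (Localization.AtPrime r.asIdeal ≃+* X.presheaf.stalk (X.fromSpecStalk x r)) ∧
      ((r.asIdeal.height : ℕ∞) : WithBot ℕ∞) = ringKrullDim (X.presheaf.stalk (X.fromSpecStalk x r)) := by
  haveI : r.asIdeal.IsPrime := r.2
  haveI : IsIso ((X.fromSpecStalk x).stalkMap r) :=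
    (ConcreteCategory.isIso_iff_bijective _).mpr (H8Props.bijective_stalkMap_of_flat _ _
      (haveI := H22Alg.flat_fromSpecStalk X x; Flat.stalkMap _ _))
  letI : Algebra (X.presheaf.stalk x) ((Spec (X.presheaf.stalk x)).presheaf.stalk r) :=
    StructureSheaf.stalkAlgebra (X.presheaf.stalk x) r
  haveI : IsLocalization.AtPrime ((Spec (X.presheaf.stalk x)).presheaf.stalk r) r.asIdeal :=
    StructureSheaf.IsLocalization.to_stalk (X.presheaf.stalk x) r
  let e : Localization.AtPrime r.asIdeal ≃+* X.presheaf.stalk (X.fromSpecStalk x r) :=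
    (IsLocalization.algEquiv r.asIdeal.primeCompl (Localization.AtPrime r.asIdeal)
      ((Spec (X.presheaf.stalk x)).presheaf.stalk r)).toRingEquiv.trans
      (asIso ((X.fromSpecStalk x).stalkMap r)).commRingCatIsoToRingEquiv.symm
  exact ⟨⟨e⟩, (IsLocalization.AtPrime.ringKrullDim_eq_height r.asIdeal _).symm.trans e.ringKrullDim⟩

/-- `(R_n)` of a local ring in terms of the generizations of the point. -/
theorem hasRk_stalk_iff {X : Scheme.{u}} (x : X) (n : ℕ) :
    LocCoh.HasRk n (X.presheaf.stalk x) ↔
      ∀ η : X, η ⤳ x → Order.coheight η ≤ n → IsRegularLocalRing (X.presheaf.stalk η) := by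
  constructor
  · intro h η hη hn
    obtain ⟨r, rfl⟩ : η ∈ Set.range (X.fromSpecStalk x) := by rw [Scheme.range_fromSpecStalk]; exact hη
    haveI : r.asIdeal.IsPrime := r.2
    obtain ⟨⟨e⟩, he⟩ := exists_ringEquiv_localization x r
    rw [AlgebraicGeometry.ringKrullDim_stalk_eq_coheight, WithBot.coe_eq_coe] at he
    haveI := h r.asIdeal (he.trans_le hn)
    exact IsRegularLocalRing.of_ringEquiv e
  · intro h p _ hp
    obtain ⟨⟨e⟩, he⟩ := exists_ringEquiv_localization x ⟨p, inferInstance⟩
    rw [AlgebraicGeometry.ringKrullDim_stalk_eq_coheight, WithBot.coe_eq_coe] at he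
    have hmem : X.fromSpecStalk x ⟨p, inferInstance⟩ ∈ Set.range (X.fromSpecStalk x) := ⟨_, rfl⟩
    rw [Scheme.range_fromSpecStalk] at hmem
    haveI := h _ hmem (he.symm.trans_le hp)
    exact IsRegularLocalRing.of_ringEquiv e.symm

/-- Over a flat morphism the codimension can only go up. -/
theorem coheight_le_of_flat {X Y : Scheme.{u}} [IsLocallyNoetherian X] [IsLocallyNoetherian Y] (g : X ⟶ Y)
    [Flat g] (a : X) : Order.coheight (g a) ≤ Order.coheight a := by
  rw [← WithBot.coe_le_coe, ← AlgebraicGeometry.ringKrullDim_stalk_eq_coheight,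
    ← AlgebraicGeometry.ringKrullDim_stalk_eq_coheight]
  algebraize [(g.stalkMap a).hom]
  haveI : Module.Flat (Y.presheaf.stalk (g a)) (X.presheaf.stalk a) := Flat.stalkMap g a
  haveI : IsLocalHom (algebraMap (Y.presheaf.stalk (g a)) (X.presheaf.stalk a)) :=
    inferInstanceAs (IsLocalHom (g.stalkMap a).hom)
  exact H19Grp.ringKrullDim_le_of_flat_of_isLocalHom (R := Y.presheaf.stalk (g a)) (S := X.presheaf.stalk a)

/-- The geometric condition `(R_n)` at a point of a scheme over a field: the generizations of codimension
at most `n` lie in the smooth locus. -/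
theorem geomHasRk_iff {k : Type u} [Field k] {X : Scheme.{u}} (p : X ⟶ Spec (CommRingCat.of k))
    [LocallyOfFinitePresentation p] (y : X) (n : ℕ) :
    (∀ (K : Type u) [Field K] [Algebra k K] (x' : ↥(FBase.bc p K)), (FBase.bcπ p K).base x' = y →
        LocCoh.HasRk n ((FBase.bc p K).presheaf.stalk x')) ↔
      ∀ η : X, η ⤳ y → Order.coheight η ≤ n → η ∈ p.smoothLocus := by
  haveI : IsLocallyNoetherian X := LocallyOfFiniteType.isLocallyNoetherian p
  constructor
  · intro h η hη hn
    let K := AlgebraicClosure k
    let g := Spec.map (CommRingCat.ofHom (algebraMap k K))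
    let π := pullback.fst p g
    let q := pullback.snd p g
    haveI : IsIntegralHom g := IsIntegralHom.SpecMap_iff.mpr Algebra.IsIntegral.isIntegral
    haveI : Flat g := by
      rw [HasRingHomProperty.Spec_iff (P := @Flat)]
      exact RingHom.flat_algebraMap_iff.mpr inferInstance
    haveI : Surjective g := ⟨fun a => ⟨IsLocalRing.closedPoint K, Subsingleton.elim (α := PrimeSpectrum k) _ _⟩⟩
    haveI : LocallyOfFinitePresentation q := MorphismProperty.pullback_snd p g ‹_›
    haveI : IsLocallyNoetherian (pullback p g) := LocallyOfFiniteType.isLocallyNoetherian q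
    obtain ⟨η', rfl⟩ := π.surjective η
    obtain ⟨x', hx', hxy⟩ : ∃ x', η' ⤳ x' ∧ π x' = y := by
      have hcl : IsClosed (π '' closure {η'}) := π.isClosedMap _ isClosed_closure
      obtain ⟨x', hx', he⟩ := hη.mem_closed hcl ⟨η', subset_closure rfl, rfl⟩
      exact ⟨x', specializes_iff_mem_closure.mpr hx', he⟩
    have hmono : StrictMono (fun a : ↥(pullback p g) => π a) := fun a b hab => by
      have hs : b ⤳ a := Scheme.le_iff_specializes.mp hab.le
      refine lt_iff_le_not_ge.mpr ⟨Scheme.le_iff_specializes.mpr (hs.map π.continuous), fun hge => ?_⟩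
      have he : π a = π b :=
        ((hs.map π.continuous).antisymm (Scheme.le_iff_specializes.mp hge)).eq.symm
      have hba : b = a := H17.AssPts.eq_of_specializes_of_map_eq π hs he.symm
      exact lt_irrefl a (hba ▸ hab)
    have hle : Order.coheight η' ≤ n :=
      (Order.coheight_le_coheight_apply_of_strictMono _ hmono η').trans hn
    have hreg : IsRegularLocalRing ((pullback p g).presheaf.stalk η') :=
      (hasRk_stalk_iff x' n).mp (h K x' hxy) η' hx' hle
    letI : (pullback p g).Over (Spec (CommRingCat.of K)) := ⟨q⟩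
    haveI : LocallyOfFinitePresentation (pullback p g ↘ Spec (CommRingCat.of K)) := ‹LocallyOfFinitePresentation q›
    haveI := hreg
    letI := Curv2.stalkAlgebra K (pullback p g) η'
    have hsm : η' ∈ q.smoothLocus :=
      H22Alg.GeomRegularAt.mem_smoothLocus_of_isAdicFormallySmooth K (pullback p g) η'
        (H05EGA4.isAdicFormallySmooth_of_perfectField K ((pullback p g).presheaf.stalk η'))
    exact H17.LocusBC.mem_smoothLocus_of_flat_baseChange (IsPullback.of_hasPullback p g) η' hsm
  · intro h K _ _ x' hx'
    let g := Spec.map (CommRingCat.ofHom (algebraMap k K))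
    let π := pullback.fst p g
    let q := pullback.snd p g
    haveI : Flat g := by
      rw [HasRingHomProperty.Spec_iff (P := @Flat)]
      exact RingHom.flat_algebraMap_iff.mpr inferInstance
    haveI : LocallyOfFinitePresentation q := MorphismProperty.pullback_snd p g ‹_›
    haveI : IsLocallyNoetherian (pullback p g) := LocallyOfFiniteType.isLocallyNoetherian q
    refine (hasRk_stalk_iff (X := pullback p g) x' n).mpr fun η' hη' hn => ?_
    have hsp : π η' ⤳ y := hx' ▸ hη'.map π.continuous
    have hsm : η' ∈ q.smoothLocus :=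
      H17.LocusBC.preimage_smoothLocus_le (IsPullback.of_hasPullback p g)
        (h (π η') hsp ((coheight_le_of_flat π η').trans hn))
    letI : (pullback p g).Over (Spec (CommRingCat.of K)) := ⟨q⟩
    haveI : LocallyOfFinitePresentation (pullback p g ↘ Spec (CommRingCat.of K)) := ‹LocallyOfFinitePresentation q›
    exact H22Alg.GeomRegularAt.regular_of_mem_smoothLocus K (pullback p g) η' hsm

end Groth.Agent.H06EGA12
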