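import Groth.Agent.H06EGA12.GeomRkField

/-!
# The geometric condition (R_k) tested on finite extensions
-/

set_option autoImplicit false
set_option linter.style.haveILetI false
set_option backward.isDefEq.respectTransparency false
universe u

open CategoryTheory CategoryTheory.Limits AlgebraicGeometry TopologicalSpace Topology TensorProduct
open Groth.Agent.H22Alg.GeomReducedAt Groth.Agent.H22Alg.GeomRegularAt

namespace Groth.Agent.H06EGA12

/-- Regularity after finite extensions of the field gives geometric regularity of the local ring. -/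
theorem isGeometricallyRegular_stalk_of_finite (k : Type u) [Field k] (X : Scheme.{u})
    [X.Over (Spec (CommRingCat.of k))] (x : X) [IsLocallyNoetherian X]
    (h : ∀ (K : Type u) [Field K] [Algebra k K], Module.Finite k K →
      ∀ x' : ↥(FBase.bc (X ↘ Spec (CommRingCat.of k)) K), FBase.bcπ (X ↘ Spec (CommRingCat.of k)) K x' = x →
        IsRegularLocalRing ((FBase.bc (X ↘ Spec (CommRingCat.of k)) K).presheaf.stalk x')) :
    letI := Curv2.stalkAlgebra k X x
    CAlg.IsGeometricallyRegular k (X.presheaf.stalk x) := by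
  letI := Curv2.stalkAlgebra k X x
  intro K _ _ hfin
  haveI : IsNoetherianRing (K ⊗[k] X.presheaf.stalk x) := by
    haveI := hfin
    haveI : Module.Finite (X.presheaf.stalk x) (X.presheaf.stalk x ⊗[k] K) := inferInstance
    haveI : IsNoetherianRing (X.presheaf.stalk x ⊗[k] K) := IsNoetherianRing.of_finite (X.presheaf.stalk x) _
    exact isNoetherianRing_of_ringEquiv _ (Algebra.TensorProduct.comm k (X.presheaf.stalk x) K).toRingEquiv
  suffices IsRegularRing (X.presheaf.stalk x ⊗[k] K) from
    IsRegularRing.of_ringEquiv (Algebra.TensorProduct.comm k (X.presheaf.stalk x) K).toRingEquiv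
  haveI : IsNoetherianRing (X.presheaf.stalk x ⊗[k] K) :=
    isNoetherianRing_of_ringEquiv _ (Algebra.TensorProduct.comm k K (X.presheaf.stalk x)).toRingEquiv
  refine isRegularRing_of_maximal fun M hM => ?_
  haveI := hfin
  let s := Spec.map (CommRingCat.ofHom (algebraMap k K))
  let i : pullback (X.fromSpecStalk x ≫ (X ↘ Spec (CommRingCat.of k))) s ≅
      Spec (CommRingCat.of (X.presheaf.stalk x ⊗[k] K)) :=
    pullback.congrHom (fromSpecStalk_over k X x) rfl ≪≫ pullbackSpecIso k (X.presheaf.stalk x) K
  let w : ↥(Spec (CommRingCat.of (X.presheaf.stalk x ⊗[k] K))) := ⟨M, hM.isPrime⟩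
  have hw : IsClosed ({w} : Set ↥(Spec (CommRingCat.of (X.presheaf.stalk x ⊗[k] K)))) :=
    (PrimeSpectrum.isClosed_singleton_iff_isMaximal w).mpr hM
  have he : IsClosed ({i.inv w} : Set ↥(pullback (X.fromSpecStalk x ≫ (X ↘ Spec (CommRingCat.of k))) s)) := by
    have := i.inv.homeomorph.isClosedMap _ hw
    rwa [Set.image_singleton] at this
  haveI : IsFinite s := by
    rw [IsFinite.SpecMap_iff]
    exact RingHom.finite_algebraMap.mpr hfin
  have h1 := (pullback.fst (X.fromSpecStalk x ≫ (X ↘ Spec (CommRingCat.of k))) s).isClosedMap _ he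
  rw [Set.image_singleton] at h1
  have h2 : pullback.fst (X.fromSpecStalk x ≫ (X ↘ Spec (CommRingCat.of k))) s (i.inv w) = IsLocalRing.closedPoint _ :=
    ((IsLocalRing.specializes_closedPoint _).mem_closed h1 rfl).symm
  haveI h3 : IsRegularLocalRing ((pullback (X.fromSpecStalk x ≫ (X ↘ Spec (CommRingCat.of k))) s).presheaf.stalk (i.inv w)) := by
    refine (regular_stalk_iff _ s x _).mpr (h K hfin _ ?_)
    refine (fst_stalkBC _ s x _).trans ?_
    rw [h2, Scheme.fromSpecStalk_closedPoint]
  haveI h4 : IsRegularLocalRing ((Spec (CommRingCat.of (X.presheaf.stalk x ⊗[k] K))).presheaf.stalk w) :=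
    IsRegularLocalRing.of_ringEquiv (asIso (i.inv.stalkMap w)).symm.commRingCatIsoToRingEquiv.symm
  exact IsRegularLocalRing.of_ringEquiv (Spec.stalkIso (CommRingCat.of (X.presheaf.stalk x ⊗[k] K)) w).commRingCatIsoToRingEquiv

/-- The geometric condition `(R_n)` may be tested on finite extensions. -/
theorem geomHasRk_iff_finite {k : Type u} [Field k] {X : Scheme.{u}} (p : X ⟶ Spec (CommRingCat.of k))
    [LocallyOfFinitePresentation p] (y : X) (n : ℕ) :
    (∀ (K : Type u) [Field K] [Algebra k K], Module.Finite k K →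
        ∀ (x' : ↥(FBase.bc p K)), (FBase.bcπ p K).base x' = y →
          LocCoh.HasRk n ((FBase.bc p K).presheaf.stalk x')) ↔
      ∀ η : X, η ⤳ y → Order.coheight η ≤ n → η ∈ p.smoothLocus := by
  refine ⟨fun h η hη hn => ?_, fun h K _ _ _ => (geomHasRk_iff p y n).mpr h K⟩
  haveI : IsLocallyNoetherian X := LocallyOfFiniteType.isLocallyNoetherian p
  letI : X.Over (Spec (CommRingCat.of k)) := ⟨p⟩
  haveI : LocallyOfFinitePresentation (X ↘ Spec (CommRingCat.of k)) := ‹LocallyOfFinitePresentation p›
  letI := Curv2.stalkAlgebra k X η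
  haveI := essFiniteType_stalk k X η
  refine mem_smoothLocus_of_isAdicFormallySmooth k X η
    (H05EGA4.isAdicFormallySmooth_iff_isGeometricallyRegular.mpr
      (isGeometricallyRegular_stalk_of_finite k X η fun K _ _ hK η' hη' => ?_))
  let g := Spec.map (CommRingCat.ofHom (algebraMap k K))
  let π := pullback.fst p g
  haveI : IsIntegralHom g := by
    haveI := hK
    exact IsIntegralHom.SpecMap_iff.mpr Algebra.IsIntegral.isIntegral
  haveI : IsLocallyNoetherian (pullback p g) := LocallyOfFiniteType.isLocallyNoetherian (pullback.snd p g)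
  have hηπ : π η' = η := hη'
  obtain ⟨x', hx', hxy⟩ : ∃ x', η' ⤳ x' ∧ π x' = y := by
    have hcl : IsClosed (π '' closure {η'}) := π.isClosedMap _ isClosed_closure
    obtain ⟨x', hx', he⟩ := hη.mem_closed hcl ⟨η', subset_closure rfl, hηπ⟩
    exact ⟨x', specializes_iff_mem_closure.mpr hx', he⟩
  have hmono : StrictMono (fun a : ↥(pullback p g) => π a) := fun a b hab => by
    have hs : b ⤳ a := Scheme.le_iff_specializes.mp hab.le
    refine lt_iff_le_not_ge.mpr ⟨Scheme.le_iff_specializes.mpr (hs.map π.continuous), fun hge => ?_⟩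
    have he : π a = π b := ((hs.map π.continuous).antisymm (Scheme.le_iff_specializes.mp hge)).eq.symm
    have hba : b = a := H17.AssPts.eq_of_specializes_of_map_eq π hs he.symm
    exact lt_irrefl a (hba ▸ hab)
  have hle : Order.coheight η' ≤ n := by
    refine (Order.coheight_le_coheight_apply_of_strictMono _ hmono η').trans ?_
    show Order.coheight (π η') ≤ _
    rw [hηπ]
    exact hn
  exact (hasRk_stalk_iff (X := pullback p g) x' n).mp (h K hK x' hxy) η' hx' hle

end Groth.Agent.H06EGA12
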