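import Groth.Agent.H06EGA12.GeomRkField
import Groth.Agent.H06EGA9.SmoothFibreLocus
import Groth.Agent.H06EGA9.FibreClosureGeneral
import Groth.Agent.H06EGA15.DimConstructible
import Groth.Agent.H06EGA14.Chevalley2
import Groth.Agent.H06EGA14.MaximalPoint
import Groth.Agent.H06Proper.ConnectedPart

/-!
# Constructibility of the geometric (R_k) locus of the fibres (EGA IV 9.9)
-/

set_option autoImplicit false
set_option linter.style.haveILetI false
set_option backward.isDefEq.respectTransparency false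
universe u

open CategoryTheory CategoryTheory.Limits AlgebraicGeometry TopologicalSpace Topology

namespace Groth.Agent.H06EGA12

open H8Props.FieldDim H06EGA9

variable {X S : Scheme.{u}}

/-- The non-smooth points of codimension at most `n` in their fibre. -/
def lowCodimSingular (f : X ⟶ S) (n : ℕ) : Set X :=
  {z | z ∉ smFib f ∧ FlatMor.fibreDimAt f z ≤ (n : WithBot ℕ∞) + cdim (f.asFiber z)}

/-- The points of the fibres with a non-smooth generization of codimension at most `n`. -/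
def rkBad (f : X ⟶ S) (n : ℕ) : Set X :=
  {x | ∃ η ∈ lowCodimSingular f n, f η = f x ∧ η ⤳ x}

theorem exists_fibreDimAt_eq (f : X ⟶ S) [LocallyOfFiniteType f] (x : X) :
    ∃ d : ℕ, FlatMor.fibreDimAt f x = (d : WithBot ℕ∞) := by
  haveI := locallyOfFiniteType_fiberToSpec f (f x)
  exact exists_nat_localDim (k := S.residueField (f x)) (f.fiberToSpecResidueField (f x)) (f.asFiber x)

theorem coheight_le_iff {f : X ⟶ S} [LocallyOfFiniteType f] {s : S} (η : f.fiber s) (n : ℕ) :
    Order.coheight η ≤ n ↔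
      FlatMor.fibreDimAt f (f.fiberι s η) ≤ (n : WithBot ℕ∞) + cdim (f.asFiber (f.fiberι s η)) := by
  obtain ⟨z, hz⟩ : ∃ z, f.fiberι s η = z := ⟨_, rfl⟩
  have hs : f z = s := by
    have : f.fiberι s η ∈ Set.range (f.fiberι s) := ⟨η, rfl⟩
    rw [f.range_fiberι, hz] at this
    exact this
  subst hs
  obtain rfl : η = f.asFiber z := (f.fiberι (f z)).isEmbedding.injective (by rw [hz, f.fiberι_asFiber])
  rw [f.fiberι_asFiber]
  haveI := locallyOfFiniteType_fiberToSpec f (f z)
  have h := localDim_eq_stalk_add_cdim (k := S.residueField (f z)) (f.fiberToSpecResidueField (f z)) (f.asFiber z)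
  obtain ⟨a, ha⟩ := exists_nat_cdim (k := S.residueField (f z)) (f.fiberToSpecResidueField (f z)) (f.asFiber z)
  show _ ↔ FlatMor.localDim (f.fiber (f z)) (f.asFiber z) ≤ _
  rw [h, ha, AlgebraicGeometry.ringKrullDim_stalk_eq_coheight]
  induction Order.coheight (f.asFiber z) using WithTop.recTopCoe with
  | top =>
    refine iff_of_false (fun hle => WithTop.coe_ne_top (top_le_iff.mp hle)) fun hle => ?_
    rw [show ((⊤ : ℕ∞) : WithBot ℕ∞) + (a : WithBot ℕ∞) = ((⊤ + (a : ℕ∞) : ℕ∞) : WithBot ℕ∞) from rfl,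
      top_add] at hle
    exact WithTop.coe_ne_top (top_le_iff.mp (WithBot.coe_le_coe.mp hle))
  | coe c =>
    show ((c : ℕ) : ℕ∞) ≤ (n : ℕ∞) ↔ ((c : ℕ) : WithBot ℕ∞) + (a : ℕ) ≤ _
    norm_cast
    omega

/-- The geometric `(R_n)` condition on the fibre. -/
theorem geomHasRk_fibre_iff (f : X ⟶ S) [LocallyOfFinitePresentation f] (x : X) (n : ℕ) :
    (∀ (K : Type u) [Field K] [Algebra (IsLocalRing.ResidueField (S.presheaf.stalk (f.base x))) K]
        (x' : ↥(FBase.bc (f.fiberToSpecResidueField (f.base x)) K)),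
        (FBase.bcπ (f.fiberToSpecResidueField (f.base x)) K).base x' = f.asFiber x →
          LocCoh.HasRk n ((FBase.bc (f.fiberToSpecResidueField (f.base x)) K).presheaf.stalk x')) ↔
      x ∉ rkBad f n := by
  haveI : LocallyOfFinitePresentation (f.fiberToSpecResidueField (f x)) :=
    MorphismProperty.of_isPullback (P := @LocallyOfFinitePresentation)
      (IsPullback.of_hasPullback f (S.fromSpecResidueField (f x))) ‹_›
  refine (geomHasRk_iff (k := IsLocalRing.ResidueField (S.presheaf.stalk (f.base x)))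
    (f.fiberToSpecResidueField (f x)) (f.asFiber x) n).trans ⟨fun h => ?_, fun h η hη hn => ?_⟩
  · rintro ⟨z, ⟨hzs, hzd⟩, hfz, hzx⟩
    obtain ⟨η, hη⟩ : z ∈ Set.range (f.fiberι (f x)) := by rw [f.range_fiberι]; exact hfz
    refine hzs ((mem_smFib_iff f η hη).mpr (h η ?_ ((coheight_le_iff η n).mpr (hη.symm ▸ hzd))))
    rw [← (f.fiberι (f x)).isEmbedding.isInducing.specializes_iff, hη, f.fiberι_asFiber]
    exact hzx
  · by_contra hsm
    refine h ⟨f.fiberι (f x) η, ⟨fun hc => hsm ((mem_smFib_iff f η rfl).mp hc),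
      (coheight_le_iff η n).mp hn⟩, ?_, ?_⟩
    · have : f.fiberι (f x) η ∈ Set.range (f.fiberι (f x)) := ⟨η, rfl⟩
      rwa [f.range_fiberι] at this
    · have hh := hη.map (f.fiberι (f x)).continuous
      rwa [f.fiberι_asFiber] at hh

theorem mem_lowCodimSingular_comp_openImmersion {V : Scheme.{u}} (a : V ⟶ X) [IsOpenImmersion a]
    (f : X ⟶ S) [LocallyOfFiniteType f] (n : ℕ) (z : V) :
    z ∈ lowCodimSingular (a ≫ f) n ↔ a z ∈ lowCodimSingular f n := by
  show _ ∧ _ ↔ _ ∧ _
  rw [smFib_comp_openImmersion_iff f a z, fibreDimAt_openImmersion_comp a f z, H06Equidim.cdim_asFiber_comp,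
    H06EGA14.cdim_asFiber_openImmersion a, zero_add]

theorem rkBad_comp_openImmersion {V : Scheme.{u}} (a : V ⟶ X) [IsOpenImmersion a]
    (f : X ⟶ S) [LocallyOfFiniteType f] (n : ℕ) : rkBad (a ≫ f) n = a ⁻¹' rkBad f n := by
  ext v
  constructor
  · rintro ⟨η, hη, hf, hs⟩
    exact ⟨a η, (mem_lowCodimSingular_comp_openImmersion a f n η).mp hη,
      by rw [← Scheme.Hom.comp_apply, hf, Scheme.Hom.comp_apply], hs.map a.continuous⟩
  · rintro ⟨η, hη, hf, hs⟩
    obtain ⟨η', rfl⟩ : η ∈ Set.range a := hs.mem_open a.isOpenEmbedding.isOpen_range ⟨v, rfl⟩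
    exact ⟨η', (mem_lowCodimSingular_comp_openImmersion a f n η').mpr hη,
      by rw [Scheme.Hom.comp_apply, hf, Scheme.Hom.comp_apply],
      a.isOpenEmbedding.isInducing.specializes_iff.mp hs⟩

theorem rkBad_comp_openImmersion_right {T : Scheme.{u}} (f : X ⟶ S) [LocallyOfFinitePresentation f]
    (j : S ⟶ T) [IsOpenImmersion j] (n : ℕ) : rkBad (f ≫ j) n = rkBad f n := by
  have hsq : IsPullback (𝟙 X) f (f ≫ j) j := IsPullback.of_horiz_isIso_mono ⟨Category.id_comp _⟩
  haveI : LocallyOfFinitePresentation (f ≫ j) := inferInstance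
  have key : ∀ z, z ∈ lowCodimSingular (f ≫ j) n ↔ z ∈ lowCodimSingular f n := fun z => by
    show _ ∧ _ ↔ _ ∧ _
    rw [show z ∈ smFib (f ≫ j) ↔ z ∈ smFib f from (smFib_baseChange_iff (f ≫ j) hsq z).symm,
      fibreDimAt_comp_openImmersion f j z, H06Equidim.cdim_asFiber_comp f j z,
      H06EGA14.cdim_asFiber_openImmersion j, add_zero]
  ext v
  constructor
  · rintro ⟨η, hη, hf, hs⟩
    exact ⟨η, (key η).mp hη, j.isOpenEmbedding.injective hf, hs⟩
  · rintro ⟨η, hη, hf, hs⟩
    exact ⟨η, (key η).mpr hη, congrArg j hf, hs⟩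

/-- A basic constructible subset of an affine scheme is the range of a finitely presented immersion. -/
theorem exists_piece {A : Type u} [CommRing A] (C : PrimeSpectrum.BasicConstructibleSetData A) :
    ∃ (P : Scheme.{u}) (ι : P ⟶ Spec (CommRingCat.of A)), IsImmersion ι ∧ IsAffine P ∧
      LocallyOfFinitePresentation ι ∧ QuasiCompact ι ∧ Set.range ι = C.toSet := by
  let I : Ideal A := Ideal.span (Set.range C.g)
  let c : A →+* A ⧸ I := Ideal.Quotient.mk I
  let Q := Localization.Away (c C.f)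
  let ι₁ := Spec.map (CommRingCat.ofHom c)
  let ι₂ := Spec.map (CommRingCat.ofHom (algebraMap (A ⧸ I) Q))
  haveI : IsClosedImmersion ι₁ := IsClosedImmersion.spec_of_surjective _ Ideal.Quotient.mk_surjective
  haveI : LocallyOfFinitePresentation ι₁ := (HasRingHomProperty.Spec_iff (P := @LocallyOfFinitePresentation)).mpr
    (RingHom.FinitePresentation.of_surjective _ Ideal.Quotient.mk_surjective
      (by rw [CommRingCat.hom_ofHom, Ideal.mk_ker]; exact Submodule.fg_span (Set.finite_range C.g)))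
  haveI : IsOpenImmersion ι₂ := IsOpenImmersion.of_isLocalization (R := A ⧸ I) (S := Q) (c C.f)
  refine ⟨_, ι₂ ≫ ι₁, inferInstance, inferInstance, inferInstance, inferInstance, ?_⟩
  rw [Scheme.Hom.comp_base, TopCat.coe_comp, Set.range_comp]
  have h1 : Set.range ι₂ = (PrimeSpectrum.basicOpen (c C.f) : Set (PrimeSpectrum (A ⧸ I))) :=
    PrimeSpectrum.localization_away_comap_range Q (c C.f)
  rw [h1]
  ext p
  constructor
  · rintro ⟨q, hq, rfl⟩
    refine ⟨fun a ha => ?_, fun (hf : ({C.f} : Set A) ⊆ _) => hq (hf (Set.mem_singleton C.f))⟩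
    obtain ⟨i, rfl⟩ := ha
    show c (C.g i) ∈ q.asIdeal
    rw [Ideal.Quotient.eq_zero_iff_mem.mpr (Ideal.subset_span (Set.mem_range_self i))]
    exact zero_mem _
  · rintro ⟨hg, hf⟩
    have hIp : I ≤ p.asIdeal := Ideal.span_le.mpr hg
    obtain ⟨q, rfl⟩ : p ∈ Set.range (PrimeSpectrum.comap c) := by
      rw [range_comap_of_surjective _ c Ideal.Quotient.mk_surjective, PrimeSpectrum.mem_zeroLocus,
        SetLike.coe_subset_coe, Ideal.mk_ker]
      exact hIp
    exact ⟨q, fun hq => hf (fun a ha => ha ▸ hq), rfl⟩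

/-- The points of a piece of large dimension relative to the fibre. -/
theorem isConstructible_pieceLow {P Z B : Scheme.{u}} [CompactSpace P] [QuasiSeparatedSpace P]
    (ι : P ⟶ Z) (φ : Z ⟶ B) [LocallyOfFinitePresentation ι] [LocallyOfFinitePresentation φ] (n m : ℕ) :
    IsConstructible {w : P | (m : WithBot ℕ∞) ≤ FlatMor.fibreDimAt (ι ≫ φ) w + (n : ℕ) ∧
      FlatMor.fibreDimAt φ (ι w) ≤ (m : ℕ)} := by
  have h2 : IsLocallyConstructible {w : P | FlatMor.fibreDimAt φ (ι w) ≤ (m : ℕ)} :=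
    H7Lim.isLocallyConstructible_preimage (H06EGA15.isLocallyConstructible_fibreDimAt_le φ _) ι
  rcases Nat.eq_zero_or_pos (m - n) with h0 | hpos
  · convert! h2.isConstructible using 1
    ext w
    refine ⟨fun h => h.2, fun h => ⟨?_, h⟩⟩
    obtain ⟨d, hd⟩ := exists_fibreDimAt_eq (ι ≫ φ) w
    have hnn : (0 : WithBot ℕ∞) ≤ FlatMor.fibreDimAt (ι ≫ φ) w := hd ▸ Nat.cast_nonneg' d
    exact le_trans (by exact_mod_cast (Nat.sub_eq_zero_iff_le.mp h0))
      (le_trans (zero_add ((n : ℕ) : WithBot ℕ∞)).ge (add_le_add hnn le_rfl))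
  · have h1 : IsLocallyConstructible {w : P | FlatMor.fibreDimAt (ι ≫ φ) w ≤ ((m - n - 1 : ℕ) : WithBot ℕ∞)} :=
      H06EGA15.isLocallyConstructible_fibreDimAt_le _ _
    convert! h1.isConstructible.compl.inter h2.isConstructible using 1
    ext w
    refine and_congr_left fun _ => ?_
    obtain ⟨d, hd⟩ := exists_fibreDimAt_eq (ι ≫ φ) w
    show _ ↔ ¬ (FlatMor.fibreDimAt (ι ≫ φ) w ≤ _)
    rw [hd, ← Nat.cast_add, Nat.cast_le, Nat.cast_le]
    omega

theorem cdim_asFiber_immersion {P Z : Scheme.{u}} (ι : P ⟶ Z) [IsImmersion ι] [LocallyOfFiniteType ι] (w : P) :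
    cdim (ι.asFiber w) = 0 := by
  obtain ⟨a, ha, -⟩ := H06Equidim.exists_trdeg_asFiber ι w
  refine le_antisymm ?_ (ha ▸ Nat.cast_nonneg' a)
  exact (H06Equidim.cdim_asFiber_le_fibreDimAt ι w).trans
    (fibreDimAt_le_zero_of_quasiFiniteAt ι (ι.quasiFiniteAt w))

/-- The affine case. -/
theorem isConstructible_rkBad_affine {R A : CommRingCat.{u}} (φ : Spec A ⟶ Spec R)
    [LocallyOfFinitePresentation φ] (n : ℕ) : IsConstructible (rkBad φ n) := by
  classical
  have hN : IsConstructible ((smFib φ)ᶜ) := (isLocallyConstructible_smFib φ).isConstructible.compl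
  obtain ⟨D, hD⟩ := PrimeSpectrum.exists_constructibleSetData_iff.2 hN
  choose P ι hι hP hfp hqc hrange using fun C : PrimeSpectrum.BasicConstructibleSetData A => exists_piece C
  obtain ⟨t, ht⟩ := isCompact_univ.elim_finite_subcover
    (fun k : ℕ => {x : Spec A | FlatMor.fibreDimAt φ x ≤ (k : ℕ)}) (fun k => H7Flat.isOpen_fibreDimAt_le' φ _)
    (fun x _ => Set.mem_iUnion.2 ((exists_fibreDimAt_eq φ x).imp fun d hd => hd.le))
  let M := t.sup id
  let E : Set (Spec A) := ⋃ C ∈ D, ⋃ m ∈ Finset.range (M + 1),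
    ι C '' {w | (m : WithBot ℕ∞) ≤ FlatMor.fibreDimAt (ι C ≫ φ) w + (n : ℕ) ∧
      FlatMor.fibreDimAt φ (ι C w) ≤ (m : ℕ)}
  have hE : IsConstructible E := by
    refine IsConstructible.biUnion D.finite_toSet fun C _ => IsConstructible.biUnion (Finset.finite_toSet _)
      fun m _ => ?_
    haveI := hP C
    haveI := hfp C
    haveI := hqc C
    exact (ι C).isConstructible_image (isConstructible_pieceLow (ι C) φ n m)
  suffices h : rkBad φ n = fibClosure φ E by
    rw [h]
    exact isConstructible_fibClosure_affine φ hE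
  have hM : ∀ x (d : ℕ), FlatMor.fibreDimAt φ x = (d : ℕ) → d ≤ M := fun x d hd => by
    obtain ⟨k, hk, hxk⟩ := Set.mem_iUnion₂.mp (ht (Set.mem_univ x))
    have hdk : d ≤ k := by
      have h1 : (d : WithBot ℕ∞) ≤ (k : ℕ) := hd ▸ hxk
      exact_mod_cast h1
    exact hdk.trans (Finset.le_sup (f := id) hk)
  ext x
  constructor
  · rintro ⟨η, ⟨hηs, hηd⟩, hfη, hηx⟩
    refine closure_mono ?_ (specializes_iff_mem_closure.mp hηx)
    rw [Set.singleton_subset_iff]
    refine ⟨?_, hfη⟩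
    have hη' : η ∈ D.toSet := hD.ge hηs
    obtain ⟨C, hC, hηC⟩ := Set.mem_iUnion₂.mp hη'
    obtain ⟨w, rfl⟩ := (hrange C).ge hηC
    haveI := hι C
    haveI := hfp C
    obtain ⟨d, hd⟩ := exists_fibreDimAt_eq φ (ι C w)
    refine Set.mem_iUnion₂.2 ⟨C, hC, Set.mem_iUnion₂.2
      ⟨d, Finset.mem_range.2 (Nat.lt_succ_of_le (hM _ d hd)), w, ⟨?_, hd.le⟩, rfl⟩⟩
    rw [← hd]
    refine hηd.trans ?_
    rw [add_comm]
    refine add_le_add ?_ le_rfl
    refine le_of_eq_of_le ?_ (H06Equidim.cdim_asFiber_le_fibreDimAt (ι C ≫ φ) w)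
    rw [H06Equidim.cdim_asFiber_comp, cdim_asFiber_immersion (ι C), zero_add]
  · intro hx
    have hE' : IsConstructible (φ.fiberι (φ x) ⁻¹' E) := (φ.fiberι (φ x)).isConstructible_preimage hE
    have hxE : φ.asFiber x ∈ closure (φ.fiberι (φ x) ⁻¹' E) := by
      rw [(φ.fiberι (φ x)).isEmbedding.isInducing.closure_eq_preimage_closure_image]
      rw [Set.mem_preimage, φ.fiberι_asFiber, Set.image_preimage_eq_inter_range, φ.range_fiberι]
      exact hx
    obtain ⟨e', he', hse⟩ := H06Proper.exists_specializes_of_mem_closure' hE'.isLocallyConstructible hxE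
    have hex : φ.fiberι (φ x) e' ⤳ x := by
      have hh := hse.map (φ.fiberι (φ x)).continuous
      rwa [φ.fiberι_asFiber] at hh
    have hfe : φ (φ.fiberι (φ x) e') = φ x := by
      have : φ.fiberι (φ x) e' ∈ Set.range (φ.fiberι (φ x)) := ⟨e', rfl⟩
      rwa [φ.range_fiberι] at this
    obtain ⟨C, hC, hm⟩ := Set.mem_iUnion₂.mp he'
    obtain ⟨m, -, w, ⟨hw1, hw2⟩, hwe⟩ := Set.mem_iUnion₂.mp hm
    rw [← hwe] at hex hfe
    haveI := hι C
    haveI := hfp C
    obtain ⟨ξ, hξw, hfξ, -, hξd⟩ := H06EGA14.exists_maximal_generization (ι C ≫ φ) w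
    refine ⟨ι C ξ, ⟨hD.le (Set.mem_iUnion₂.2 ⟨C, hC, (hrange C).le ⟨ξ, rfl⟩⟩), ?_⟩, ?_,
      (hξw.map (ι C).continuous).trans hex⟩
    · have h1 : FlatMor.fibreDimAt φ (ι C ξ) ≤ (m : ℕ) :=
        (hξw.map (ι C).continuous).mem_open (H7Flat.isOpen_fibreDimAt_le' φ _) hw2
      refine h1.trans (hw1.trans ?_)
      rw [← hξd, H06Equidim.cdim_asFiber_comp, cdim_asFiber_immersion (ι C), zero_add, add_comm]
    · exact ((Scheme.Hom.comp_apply _ _ _).symm.trans (hfξ.trans (Scheme.Hom.comp_apply _ _ _))).trans hfe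

/-- The locus of fibre points satisfying the geometric `(R_n)` is locally constructible. -/
theorem isLocallyConstructible_rkBad (f : X ⟶ S) [LocallyOfFinitePresentation f] (n : ℕ) :
    IsLocallyConstructible (rkBad f n) := by
  intro x
  obtain ⟨(U : S.Opens), (hU : IsAffineOpen U), hxU, -⟩ := Opens.isBasis_iff_nbhd.mp S.isBasis_affineOpens
    (show f x ∈ (⊤ : S.Opens) from trivial)
  obtain ⟨(V : X.Opens), (hV : IsAffineOpen V), hxV, hVU⟩ := Opens.isBasis_iff_nbhd.mp X.isBasis_affineOpens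
    (show x ∈ f ⁻¹ᵁ U from hxU)
  refine ⟨V, V.2.mem_nhds hxV, V.2, ?_⟩
  let φ := Spec.map (f.appLE U V hVU)
  haveI : LocallyOfFinitePresentation φ := (HasRingHomProperty.Spec_iff (P := @LocallyOfFinitePresentation)).mpr
    (f.finitePresentation_appLE hU hV hVU)
  have h := isConstructible_rkBad_affine φ n
  rw [← rkBad_comp_openImmersion_right φ hU.fromSpec n, IsAffineOpen.SpecMap_appLE_fromSpec f hU hV hVU,
    rkBad_comp_openImmersion hV.fromSpec f n] at h
  convert! hV.isoSpec.hom.isConstructible_preimage h using 1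
  ext z
  show z.1 ∈ rkBad f n ↔ hV.fromSpec (hV.isoSpec.hom z) ∈ rkBad f n
  rw [← Scheme.Hom.comp_apply, IsAffineOpen.isoSpec_hom_fromSpec]
  rfl

end Groth.Agent.H06EGA12
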