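import Groth.Agent.H06EGA12.GeomRkLocus
import Groth.Agent.H06EGA12.GeomRkFinite
import Groth.Agent.H06EGA12.Scheme2
import Groth.Agent.H06EGA12.Components
import Groth.Agent.H1CAlg.Serre

/-!
# Openness of the geometric (R_k) locus of equidimensional fibres without embedded points (EGA IV 12.1.6)
-/

set_option autoImplicit false
set_option linter.style.haveILetI false
set_option backward.isDefEq.respectTransparency false
set_option maxSynthPendingDepth 4
universe u

open CategoryTheory CategoryTheory.Limits AlgebraicGeometry TopologicalSpace Topology TensorProduct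

namespace Groth.Agent.H06EGA12

open H8Props.FieldDim H06EGA9

variable {X Y : Scheme.{u}}

/-- At an equidimensional point without embedded points the associated points all have the same dimension. -/
theorem cdim_eq_of_equidim {f : X ⟶ Y} [LocallyOfFinitePresentation f] {F : X.Modules} (hF : CohB1.IsFP F)
    {s : Y} (z : f.fiber s)
    (hz : OnFibre f F (fun A _ _ M _ _ => EGA4.IsEquidimModule A M ∧ LocCoh.HasSk 1 A M) z)
    {z₁ z₂ : f.fiber s} (h₁ : z₁ ∈ AssSch.Ass ((Scheme.Modules.pullback (f.fiberι s)).obj F))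
    (h₂ : z₂ ∈ AssSch.Ass ((Scheme.Modules.pullback (f.fiberι s)).obj F)) (hs₁ : z₁ ⤳ z) (hs₂ : z₂ ⤳ z) :
    cdim z₁ = cdim z₂ := by
  obtain ⟨c, hc⟩ := exists_chart f F hF (f.fiberι s z)
  obtain ⟨p, Q, hQ⟩ := c.exists_corr z hc
  letI : Algebra p.asIdeal.ResidueField (c.Fib p) := Algebra.TensorProduct.rightAlgebra
  obtain ⟨_, _, _, h4⟩ := polynomial_fibre (R := c.R) (n := c.n) p.asIdeal.ResidueField
  obtain ⟨he, hk⟩ := (hQ.onFibre_iff (semilinearInvariant_equidim 1)).1 hz
  rw [hasSk_localization_iff _ Q 1, skNum_iff p.asIdeal.ResidueField _ h4 1 Q] at hk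
  have hnum := (equidim_iff p.asIdeal.ResidueField _ h4 le_rfl Q hk).1 he
  obtain ⟨Q₁, hle₁, hc₁⟩ := hQ.exists_of_specializes hs₁
  obtain ⟨Q₂, hle₂, hc₂⟩ := hQ.exists_of_specializes hs₂
  rw [hc₁.cdim_eq, hc₂.cdim_eq, hnum _ _
    ((dimOn_compSet_iff_isAssPt p.asIdeal.ResidueField _ h4 Q _).2 ⟨Q₁, hle₁, (isAssPt_iff_mem_ass hc₁).1 h₁, rfl⟩)
    ((dimOn_compSet_iff_isAssPt p.asIdeal.ResidueField _ h4 Q _).2 ⟨Q₂, hle₂, (isAssPt_iff_mem_ass hc₂).1 h₂, rfl⟩)]

theorem inSupp_structureModule (f : X ⟶ Y) {s : Y} (z : f.fiber s) : InSupp f (Coh.structureModule X) z :=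
  (onFibre_structureModule_iff f semilinearInvariant_nontrivial z).2 inferInstance

theorem isFlatOver_structureModule (f : X ⟶ Y) [Flat f] : FlatMod.IsFlatOver f (Coh.structureModule X) :=
  fun x => (isFlatOverAt_structureModule_iff f x).2 (Flat.stalkMap f x)

/-- Equidimensional points without embedded points, as a locus. -/
def equiLocus (f : X ⟶ Y) : Set X :=
  {x | OnFibre f (Coh.structureModule X)
    (fun A _ _ M _ _ => EGA4.IsEquidimModule A M ∧ LocCoh.HasSk 1 A M) (f.asFiber x)}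

theorem isOpen_equiLocus (f : X ⟶ Y) [Flat f] [LocallyOfFinitePresentation f] : IsOpen (equiLocus f) :=
  isOpen_setOf_onFibre f _ isFP_structureModule (isFlatOver_structureModule f)
    (semilinearInvariant_equidim 1) (affineOpen_equidim 1 le_rfl)

/-- The local dimension of the fibres cannot drop at the generizations of such a point. -/
theorem fibreDimAt_le_of_specializes (f : X ⟶ Y) [Flat f] [LocallyOfFinitePresentation f] {x η : X}
    (hx : x ∈ equiLocus f) (h : η ⤳ x) : FlatMor.fibreDimAt f x ≤ FlatMor.fibreDimAt f η := by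
  let F := Coh.structureModule X
  have hF : CohB1.IsFP F := isFP_structureModule
  have hflat : FlatMod.IsFlatOver f F := isFlatOver_structureModule f
  have hass : ∀ (ξ : X), (∀ x', f x' = f ξ → x' ⤳ ξ → x' = ξ) →
      f.asFiber ξ ∈ AssSch.Ass ((Scheme.Modules.pullback (f.fiberι (f ξ))).obj F) := fun ξ hξ => by
    refine mem_ass_of_maximal hF hflat (inSupp_structureModule f _) fun z' hz' _ => ?_
    apply (f.fiberι (f ξ)).isEmbedding.injective
    rw [f.fiberι_asFiber]
    refine hξ _ ((f.range_fiberι (f ξ)).subset (Set.mem_range_self z')) ?_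
    have hh := hz'.map (f.fiberι (f ξ)).continuous
    rwa [f.fiberι_asFiber] at hh
  obtain ⟨e, he⟩ := exists_fibreDimAt_eq f x
  have htr : ∀ (a b : X), a ⤳ b → ∀ (hab : f a = f b), ∃ z' : f.fiber (f b),
      f.fiberι (f b) z' = a ∧ z' ⤳ f.asFiber b := fun a b hs hab => by
    obtain ⟨z', hz'⟩ : a ∈ Set.range (f.fiberι (f b)) := by rw [f.range_fiberι]; exact hab
    refine ⟨z', hz', ?_⟩
    rw [← (f.fiberι (f b)).isEmbedding.isInducing.specializes_iff, hz', f.fiberι_asFiber]
    exact hs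
  have hA : ∀ z' ∈ AssSch.Ass ((Scheme.Modules.pullback (f.fiberι (f x))).obj F),
      f.asFiber x ∈ closure {z'} →
      ∃ n ∈ ({e} : Finset ℕ), topologicalKrullDim (closure ({z'} : Set (f.fiber (f x)))) = (n : WithBot ℕ∞) := by
    intro z' hz' hcl
    refine ⟨e, Finset.mem_singleton_self e, ?_⟩
    obtain ⟨ξ, hξx, hfξ, hξmax, hξd⟩ := H06EGA14.exists_maximal_generization f x
    obtain ⟨zξ, hzξ, hzξx⟩ := htr ξ x hξx hfξ
    have hξass : zξ ∈ AssSch.Ass ((Scheme.Modules.pullback (f.fiberι (f x))).obj F) :=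
      (property_iff_asFiber (fun s z => z ∈ AssSch.Ass ((Scheme.Modules.pullback (f.fiberι s)).obj F)) zξ ξ hzξ).2
        (hass ξ hξmax)
    show cdim z' = (e : WithBot ℕ∞)
    rw [cdim_eq_of_equidim hF (f.asFiber x) hx hz' hξass (specializes_iff_mem_closure.2 hcl) hzξx, ← he, ← hξd]
    exact (property_iff_asFiber (fun s z => cdim z = cdim (f.asFiber ξ)) zξ ξ hzξ).2 rfl
  have hopen := isOpen_setOf_property hF hflat
    (fun s z => ∀ z' ∈ AssSch.Ass ((Scheme.Modules.pullback (f.fiberι s)).obj F), z ∈ closure {z'} →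
      ∃ n ∈ ({e} : Finset ℕ), topologicalKrullDim (closure ({z'} : Set (f.fiber s))) = (n : WithBot ℕ∞))
    (isOpen_assDims {e})
  have hη := h.mem_open hopen hA
  obtain ⟨ξ, hξη, hfξ, hξmax, hξd⟩ := H06EGA14.exists_maximal_generization f η
  obtain ⟨zξ, hzξ, hzξη⟩ := htr ξ η hξη hfξ
  have hξass : zξ ∈ AssSch.Ass ((Scheme.Modules.pullback (f.fiberι (f η))).obj F) :=
    (property_iff_asFiber (fun s z => z ∈ AssSch.Ass ((Scheme.Modules.pullback (f.fiberι s)).obj F)) zξ ξ hzξ).2
      (hass ξ hξmax)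
  obtain ⟨n, hn, hd⟩ := hη zξ hξass (specializes_iff_mem_closure.1 hzξη)
  have hd' : cdim zξ = cdim (f.asFiber ξ) :=
    (property_iff_asFiber (fun s z => cdim z = cdim (f.asFiber ξ)) zξ ξ hzξ).2 rfl
  rw [he, ← hξd, ← hd', show cdim zξ = (n : WithBot ℕ∞) from hd, Finset.mem_singleton.1 hn]

/-- A low-codimensional singular generization of such a point gives one in its fibre. -/
theorem mem_rkBad_of_specializes (f : X ⟶ Y) [Flat f] [LocallyOfFinitePresentation f] (n : ℕ) {x η : X}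
    (hx : x ∈ equiLocus f) (hη : η ∈ lowCodimSingular f n) (h : η ⤳ x) : x ∈ rkBad f n := by
  have hsm : ∀ z : X, z ∈ smFib f ↔ z ∈ f.smoothLocus := fun z =>
    mem_smFib_iff_mem_smoothLocus_of_flat f (Flat.stalkMap f z)
  let Z : Closeds X := ⟨closure {η}, isClosed_closure⟩
  let i := (Scheme.IdealSheafData.vanishingIdeal Z).subschemeι
  have hrange : Set.range i = closure {η} := (Scheme.IdealSheafData.range_subschemeι _).trans rfl
  obtain ⟨η₀, hη₀⟩ : η ∈ Set.range i := hrange.ge (subset_closure rfl)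
  obtain ⟨x₀, hx₀⟩ : x ∈ Set.range i := hrange.ge (specializes_iff_mem_closure.1 h)
  have hs : η₀ ⤳ x₀ := by
    rw [← i.isEmbedding.isInducing.specializes_iff, hη₀, hx₀]
    exact h
  obtain ⟨ξ₀, hξx, hfξ, -, hξd⟩ := H06EGA14.exists_maximal_generization (i ≫ f) x₀
  have hcd : ∀ w, cdim ((i ≫ f).asFiber w) = cdim (f.asFiber (i w)) := fun w => by
    rw [H06Equidim.cdim_asFiber_comp, cdim_asFiber_immersion i, zero_add]
  have hsing : i ξ₀ ∉ smFib f := fun hc => by
    have hcl : i ξ₀ ∈ closure {η} := hrange.le ⟨ξ₀, rfl⟩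
    exact hη.1 ((hsm η).2 ((specializes_iff_mem_closure.2 hcl).mem_open f.smoothLocus.2 ((hsm _).1 hc)))
  have hle : cdim (f.asFiber η) ≤ cdim (f.asFiber (i ξ₀)) := by
    rw [← hη₀, ← hcd, ← hcd, hξd]
    obtain ⟨d, hd⟩ := exists_fibreDimAt_eq (i ≫ f) x₀
    refine (H06Equidim.cdim_asFiber_le_fibreDimAt (i ≫ f) η₀).trans ?_
    exact hs.mem_open (H7Flat.isOpen_fibreDimAt_le' (i ≫ f) (FlatMor.fibreDimAt (i ≫ f) x₀))
      (le_refl (FlatMor.fibreDimAt (i ≫ f) x₀))
  have hξx' : i ξ₀ ⤳ x := hx₀ ▸ hξx.map i.continuous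
  have hfξ' : f (i ξ₀) = f x := by
    rw [← hx₀, ← Scheme.Hom.comp_apply, hfξ, Scheme.Hom.comp_apply]
  refine ⟨i ξ₀, ⟨hsing, ?_⟩, hfξ', hξx'⟩
  refine (hξx'.mem_open (H7Flat.isOpen_fibreDimAt_le' f (FlatMor.fibreDimAt f x))
    (le_refl (FlatMor.fibreDimAt f x))).trans ?_
  exact (fibreDimAt_le_of_specializes f hx h).trans (hη.2.trans (add_le_add le_rfl hle))

/-- EGA IV 12.1.6: openness of the locus. -/
theorem isOpen_equiLocus_diff_rkBad (f : X ⟶ Y) [Flat f] [LocallyOfFinitePresentation f] (n : ℕ) :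
    IsOpen (equiLocus f \ rkBad f n) := by
  have : equiLocus f \ rkBad f n = equiLocus f \ closure (rkBad f n) := by
    refine Set.Subset.antisymm (fun x hx => ⟨hx.1, fun hc => hx.2 ?_⟩)
      (Set.sdiff_subset_sdiff_right subset_closure)
    obtain ⟨x', ⟨η, hη, -, hηx'⟩, hs⟩ :=
      H06Proper.exists_specializes_of_mem_closure' (isLocallyConstructible_rkBad f n) hc
    exact mem_rkBad_of_specializes f n hx.1 hη (hηx'.trans hs)
  rw [this]
  exact (isOpen_equiLocus f).sdiff isClosed_closure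

theorem isEquidim_iff_isEquidimModule (R : Type u) [CommRing R] :
    EGA4.IsEquidim R ↔ EGA4.IsEquidimModule R R := by
  unfold EGA4.IsEquidim EGA4.IsEquidimModule
  rw [Module.annihilator_eq_bot.mpr inferInstance, Module.supportDim_self_eq_ringKrullDim]

theorem mem_equiLocus_iff (f : X ⟶ Y) [LocallyOfFinitePresentation f] (x : X) :
    x ∈ equiLocus f ↔
      EGA4.IsEquidim ↑((f.fiber (f x)).presheaf.stalk (f.asFiber x)) ∧
        (∀ p ∈ associatedPrimes ↑((f.fiber (f x)).presheaf.stalk (f.asFiber x))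
            ↑((f.fiber (f x)).presheaf.stalk (f.asFiber x)),
          p ∈ minimalPrimes ↑((f.fiber (f x)).presheaf.stalk (f.asFiber x))) := by
  haveI := locallyOfFiniteType_fiberToSpec f (f x)
  haveI : IsLocallyNoetherian (f.fiber (f x)) := LocallyOfFiniteType.isLocallyNoetherian (f.fiberToSpecResidueField (f x))
  refine (onFibre_structureModule_iff f (semilinearInvariant_equidim 1) (f.asFiber x)).trans ?_
  rw [isEquidim_iff_isEquidimModule, H1CAlg.hasSk_one_self_iff]

end Groth.Agent.H06EGA12
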