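import Groth.Agent.H06EGA12.Scheme
import Groth.Agent.H06EGA12.FibreSpec



/-!
# Points of the fibres in a chart
-/

set_option autoImplicit false
set_option linter.style.haveILetI false
set_option linter.unusedVariables false
set_option maxSynthPendingDepth 4
universe u

open CategoryTheory CategoryTheory.Limits AlgebraicGeometry TopologicalSpace TensorProduct Topology

namespace Groth.Agent.H06EGA12

variable {X Y : Scheme.{u}}

/-- An affine chart of `f` and `F`, presented in a polynomial ring. -/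
structure Chart (f : X ⟶ Y) (F : X.Modules) where
  R : Type u
  [commRing : CommRing R]
  n : ℕ
  M : Type u
  [addCommGroup : AddCommGroup M]
  [moduleP : Module (MvPolynomial (Fin n) R) M]
  [moduleR : Module R M]
  [isScalarTower : IsScalarTower R (MvPolynomial (Fin n) R) M]
  [finitePresentation : Module.FinitePresentation (MvPolynomial (Fin n) R) M]
  U : X.Opens
  ψ : U → PrimeSpectrum (MvPolynomial (Fin n) R)
  isClosedEmbedding : IsClosedEmbedding ψ
  support_subset : Module.support (MvPolynomial (Fin n) R) M ⊆ Set.range ψ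
  W : Y.Opens
  β : W ≃ₜ PrimeSpectrum R
  le : U ≤ f ⁻¹ᵁ W
  comap_ψ : ∀ y : U, PrimeSpectrum.comap (algebraMap R (MvPolynomial (Fin n) R)) (ψ y) = β ⟨f y.1, le y.2⟩
  base : ∀ y y' : U, f y.1 = f y'.1 ↔
    PrimeSpectrum.comap (algebraMap R (MvPolynomial (Fin n) R)) (ψ y) =
      PrimeSpectrum.comap (algebraMap R (MvPolynomial (Fin n) R)) (ψ y')
  stalk : ∀ {s : Y} (z : f.fiber s) (y : U), f.fiberι s z = y.1 → ∀ (p : PrimeSpectrum R)
    (Q : PrimeSpectrum ((MvPolynomial (Fin n) R) ⊗[R] p.asIdeal.ResidueField)),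
    PrimeSpectrum.comap (algebraMap (MvPolynomial (Fin n) R) _) Q = ψ y →
    ∀ ⦃Φ : ∀ (A : Type u) [CommRing A] [IsLocalRing A] (M : Type u) [AddCommGroup M] [Module A M], Prop⦄,
      SemilinearInvariant Φ → (OnFibre f F Φ z ↔ Φ (Localization.AtPrime Q.asIdeal)
        (LocalizedModule Q.asIdeal.primeCompl
          (((MvPolynomial (Fin n) R) ⊗[R] p.asIdeal.ResidueField) ⊗[MvPolynomial (Fin n) R] M)))

attribute [instance] Chart.commRing Chart.addCommGroup Chart.moduleP Chart.moduleR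
  Chart.isScalarTower Chart.finitePresentation

/-- An affine chart with `F` flat over the base. -/
structure FlatChart (f : X ⟶ Y) (F : X.Modules) extends Chart f F where
  [flat : Module.Flat R M]

attribute [instance] FlatChart.flat

theorem exists_chart_of_affine (f : X ⟶ Y) [LocallyOfFinitePresentation f] (F : X.Modules)
    (hF : CohB1.IsFP F) {W : Y.Opens} (hW : IsAffineOpen W) {U : X.Opens} (hU : IsAffineOpen U)
    (hUW : U ≤ f ⁻¹ᵁ W) (hfp : Module.FinitePresentation Γ(X, U) Γ(F, U)) :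
    letI := Module.compHom Γ(F, U) (f.appLE W U hUW).hom
    ∃ c : Chart f F, c.U = U ∧ (Module.Flat Γ(Y, W) Γ(F, U) → Module.Flat c.R c.M) := by
  letI := Module.compHom Γ(F, U) (f.appLE W U hUW).hom
  letI := (f.appLE W U hUW).hom.toAlgebra
  haveI : IsScalarTower Γ(Y, W) Γ(X, U) Γ(F, U) := .of_algebraMap_smul fun _ _ => rfl
  haveI : Algebra.FinitePresentation Γ(Y, W) Γ(X, U) :=
    HasRingHomProperty.appLE @LocallyOfFinitePresentation f ‹_› ⟨W, hW⟩ ⟨U, hU⟩ hUW
  obtain ⟨n, π, hπ, hπker⟩ := Algebra.FinitePresentation.out (R := Γ(Y, W)) (A := Γ(X, U))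
  letI : Algebra (MvPolynomial (Fin n) Γ(Y, W)) Γ(X, U) := π.toRingHom.toAlgebra
  haveI : IsScalarTower Γ(Y, W) (MvPolynomial (Fin n) Γ(Y, W)) Γ(X, U) :=
    .of_algebraMap_eq fun r => (π.commutes r).symm
  letI := Module.compHom Γ(F, U) π.toRingHom
  haveI : IsScalarTower (MvPolynomial (Fin n) Γ(Y, W)) Γ(X, U) Γ(F, U) := .of_algebraMap_smul fun _ _ => rfl
  haveI : IsScalarTower Γ(Y, W) (MvPolynomial (Fin n) Γ(Y, W)) Γ(F, U) := .of_algebraMap_smul fun r m => by
    show π (algebraMap Γ(Y, W) (MvPolynomial (Fin n) Γ(Y, W)) r) • m = r • m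
    rw [π.commutes, algebraMap_smul]
  haveI : Module.FinitePresentation (MvPolynomial (Fin n) Γ(Y, W)) Γ(X, U) :=
    Module.finitePresentation_of_surjective (Algebra.linearMap _ _) hπ hπker
  haveI : Module.FinitePresentation (MvPolynomial (Fin n) Γ(Y, W)) Γ(F, U) :=
    Module.FinitePresentation.trans (R := MvPolynomial (Fin n) Γ(Y, W)) (M := Γ(F, U)) Γ(X, U)
  have hbase : ∀ y : U, PrimeSpectrum.comap (algebraMap Γ(Y, W) (MvPolynomial (Fin n) Γ(Y, W)))
      (PrimeSpectrum.comap π.toRingHom (hU.primeIdealOf y)) = hW.primeIdealOf ⟨f y.1, hUW y.2⟩ := by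
    intro y
    rw [← PrimeSpectrum.comap_comp_apply,
      show π.toRingHom.comp (algebraMap _ _) = (f.appLE W U hUW).hom from π.comp_algebraMap]
    exact IsAffineOpen.comap_primeIdealOf_appLE W hW U hU hUW y.2
  refine ⟨{
    R := Γ(Y, W), n := n, M := Γ(F, U), U := U
    ψ := fun y => PrimeSpectrum.comap π.toRingHom (hU.primeIdealOf y)
    isClosedEmbedding := (PrimeSpectrum.isClosedEmbedding_comap_of_surjective _ π.toRingHom hπ).comp
      hU.isoSpec.hom.homeomorph.isClosedEmbedding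
    support_subset := fun Q hQ => ?_
    W := W
    β := hW.isoSpec.hom.homeomorph
    le := hUW
    comap_ψ := hbase
    base := fun y y' => ?_
    stalk := fun {s} z y hzy p Q hQ Φ hΦ => ?_ }, rfl, fun h => h⟩
  · obtain ⟨q, rfl⟩ : Q ∈ Set.range (PrimeSpectrum.comap π.toRingHom) := by
      rw [range_comap_of_surjective _ _ hπ]
      exact ker_le_of_mem_support (O := Γ(X, U)) Q hQ
    obtain ⟨y, rfl⟩ := hU.isoSpec.hom.homeomorph.surjective q
    exact ⟨y, rfl⟩
  · rw [hbase, hbase]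
    exact ⟨fun h => by congr 1; exact Subtype.ext h, fun h =>
      congrArg Subtype.val (hW.isoSpec.hom.homeomorph.injective h)⟩
  · have hmem : f.fiberι s z ∈ U := by rw [hzy]; exact y.2
    obtain rfl : y = ⟨f.fiberι s z, hmem⟩ := Subtype.ext hzy.symm
    obtain ⟨p₀, Q₀, hQ₀, h⟩ := exists_chart_prime f F hF hW hU hUW π.toRingHom hπ π.comp_algebraMap z hmem
    obtain rfl := fibre_comap_inj _ _ (hQ.trans hQ₀.symm)
    obtain rfl := (fibre_embedding _ _ p).1.injective (hQ.trans hQ₀.symm)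
    exact h hΦ


theorem exists_chart (f : X ⟶ Y) [LocallyOfFinitePresentation f] (F : X.Modules)
    (hF : CohB1.IsFP F) (x : X) : ∃ c : Chart f F, x ∈ c.U := by
  obtain ⟨W, (hW : IsAffineOpen W), hxW, -⟩ :=
    Opens.isBasis_iff_nbhd.mp Y.isBasis_affineOpens (show f x ∈ (⊤ : Y.Opens) from trivial)
  obtain ⟨U₀, (hU₀ : IsAffineOpen U₀), hxU₀, hU₀le⟩ :=
    Opens.isBasis_iff_nbhd.mp X.isBasis_affineOpens (show x ∈ f ⁻¹ᵁ W from hxW)
  obtain ⟨t, hxt, hfp⟩ := H29Fitt.exists_basicOpen_finitePresentation F hF hU₀ ⟨x, hxU₀⟩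
  obtain ⟨c, hc, -⟩ := exists_chart_of_affine f F hF hW (hU₀.basicOpen t) ((X.basicOpen_le t).trans hU₀le) hfp
  exact ⟨c, hc ▸ hxt⟩

theorem exists_flatChart (f : X ⟶ Y) [LocallyOfFinitePresentation f] (F : X.Modules)
    (hF : CohB1.IsFP F) (x : X) (hx : FlatMod.IsFlatOverAt f F x) :
    ∃ c : FlatChart f F, x ∈ c.U ∧ ∀ y ∈ c.U, FlatMod.IsFlatOverAt f F y := by
  obtain ⟨W, (hW : IsAffineOpen W), hxW, -⟩ :=
    Opens.isBasis_iff_nbhd.mp Y.isBasis_affineOpens (show f x ∈ (⊤ : Y.Opens) from trivial)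
  let Fl : X.Opens := ⟨_, H8Props.FlatLocus.isOpen_setOf_isFlatOverAt f F hF⟩
  obtain ⟨U₀, (hU₀ : IsAffineOpen U₀), hxU₀, hU₀le⟩ :=
    Opens.isBasis_iff_nbhd.mp X.isBasis_affineOpens (show x ∈ f ⁻¹ᵁ W ⊓ Fl from ⟨hxW, hx⟩)
  obtain ⟨t, hxt, hfp⟩ := H29Fitt.exists_basicOpen_finitePresentation F hF hU₀ ⟨x, hxU₀⟩
  set U := X.basicOpen t
  have hU : IsAffineOpen U := hU₀.basicOpen t
  have hUle : U ≤ f ⁻¹ᵁ W ⊓ Fl := (X.basicOpen_le t).trans hU₀le
  have hUW : U ≤ f ⁻¹ᵁ W := fun y hy => (hUle hy).1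
  letI := Module.compHom Γ(F, U) (f.appLE W U hUW).hom
  letI := (f.appLE W U hUW).hom.toAlgebra
  haveI : IsScalarTower Γ(Y, W) Γ(X, U) Γ(F, U) := .of_algebraMap_smul fun _ _ => rfl
  haveI : Algebra.FinitePresentation Γ(Y, W) Γ(X, U) :=
    HasRingHomProperty.appLE @LocallyOfFinitePresentation f ‹_› ⟨W, hW⟩ ⟨U, hU⟩ hUW
  haveI hflatM : Module.Flat Γ(Y, W) Γ(F, U) := by
    refine Module.flat_of_isLocalized_maximal (S := Γ(X, U)) _
      (fun P _ => LocalizedModule P.primeCompl Γ(F, U))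
      (fun P _ => LocalizedModule.mkLinearMap P.primeCompl Γ(F, U)) fun P hP => ?_
    let w : PrimeSpectrum Γ(X, U) := ⟨P, hP.isPrime⟩
    have hw : hU.fromSpec w ∈ U := hU.range_fromSpec.subset ⟨w, rfl⟩
    have h1 := (H8Props.FlatLocus.isFlatOverAt_iff_localizedModule f F (H29Fitt.isQCoh_of_isFP F hF)
      hW hU hUW ⟨_, hw⟩).1 (hUle hw).2
    have e : hU.primeIdealOf ⟨hU.fromSpec w, hw⟩ = w :=
      hU.fromSpec.isOpenEmbedding.injective (hU.fromSpec_primeIdealOf _)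
    rwa [e] at h1
  obtain ⟨c, hc, hfl⟩ := exists_chart_of_affine f F hF hW hU hUW hfp
  haveI := hfl hflatM
  exact ⟨{ c with }, hc ▸ hxt, fun y hy => (hUle (hc ▸ hy)).2⟩

namespace Chart

variable {f : X ⟶ Y} {F : X.Modules} (c : Chart f F)

/-- The coordinate ring of the chart over the field of a point of the base. -/
abbrev Fib (p : PrimeSpectrum c.R) : Type u := (MvPolynomial (Fin c.n) c.R) ⊗[c.R] p.asIdeal.ResidueField

/-- `Q` is the prime of the point `z`. -/
def Corr {s : Y} (z : f.fiber s) {p : PrimeSpectrum c.R} (Q : PrimeSpectrum (c.Fib p)) : Prop :=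
  ∃ y : c.U, f.fiberι s z = y.1 ∧
    PrimeSpectrum.comap (algebraMap (MvPolynomial (Fin c.n) c.R) (c.Fib p)) Q = c.ψ y

theorem exists_corr {s : Y} (z : f.fiber s) (hz : f.fiberι s z ∈ c.U) :
    ∃ (p : PrimeSpectrum c.R) (Q : PrimeSpectrum (c.Fib p)), c.Corr z Q := by
  let p := PrimeSpectrum.comap (algebraMap c.R (MvPolynomial (Fin c.n) c.R)) (c.ψ ⟨_, hz⟩)
  obtain ⟨Q, hQ⟩ : c.ψ ⟨_, hz⟩ ∈ Set.range (PrimeSpectrum.comap
      (algebraMap (MvPolynomial (Fin c.n) c.R) (c.Fib p))) := by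
    rw [(fibre_embedding c.R (MvPolynomial (Fin c.n) c.R) p).2]; rfl
  exact ⟨p, Q, ⟨_, hz⟩, rfl, hQ⟩

variable {c} {s : Y} {z : f.fiber s} {p : PrimeSpectrum c.R} {Q : PrimeSpectrum (c.Fib p)}

theorem Corr.onFibre_iff (h : c.Corr z Q)
    {Φ : ∀ (A : Type u) [CommRing A] [IsLocalRing A] (M : Type u) [AddCommGroup M] [Module A M], Prop}
    (hΦ : SemilinearInvariant Φ) :
    OnFibre f F Φ z ↔ Φ (Localization.AtPrime Q.asIdeal)
      (LocalizedModule Q.asIdeal.primeCompl ((c.Fib p) ⊗[MvPolynomial (Fin c.n) c.R] c.M)) := by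
  obtain ⟨y, hy, hQ⟩ := h
  exact c.stalk z y hy p Q hQ hΦ

theorem Corr.exists_of_specializes (h : c.Corr z Q) {z' : f.fiber s} (hz' : z' ⤳ z) :
    ∃ Q' : PrimeSpectrum (c.Fib p), Q' ≤ Q ∧ c.Corr z' Q' := by
  obtain ⟨y, hy, hQ⟩ := h
  have hs : f.fiberι s z' ⤳ f.fiberι s z := hz'.map (f.fiberι s).continuous
  have hmem : f.fiberι s z' ∈ c.U := hs.mem_open c.U.2 (hy ▸ y.2)
  let y' : c.U := ⟨_, hmem⟩
  have hfy : f y'.1 = f y.1 := by
    rw [← hy]
    exact ((f.range_fiberι s).subset (Set.mem_range_self z')).trans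
      ((f.range_fiberι s).subset (Set.mem_range_self z)).symm
  obtain ⟨Q', hQ'⟩ : c.ψ y' ∈ Set.range (PrimeSpectrum.comap
      (algebraMap (MvPolynomial (Fin c.n) c.R) (c.Fib p))) := by
    rw [(fibre_embedding c.R (MvPolynomial (Fin c.n) c.R) p).2, Set.mem_preimage, (c.base y' y).1 hfy, ← hQ]
    exact (fibre_embedding c.R (MvPolynomial (Fin c.n) c.R) p).2.subset (Set.mem_range_self Q)
  refine ⟨Q', (fibre_comap_le_iff _ _ p Q Q').2 ?_, y', rfl, hQ'⟩
  rw [hQ, hQ', PrimeSpectrum.le_iff_specializes, c.isClosedEmbedding.isInducing.specializes_iff]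
  exact (subtype_specializes_iff _ _).2 (hy ▸ hs)

theorem Corr.exists_of_le (h : c.Corr z Q) {Q' : PrimeSpectrum (c.Fib p)} (hle : Q' ≤ Q)
    (hsupp : Q' ∈ Module.support (c.Fib p) ((c.Fib p) ⊗[MvPolynomial (Fin c.n) c.R] c.M)) :
    ∃ z' : f.fiber s, z' ⤳ z ∧ c.Corr z' Q' := by
  obtain ⟨y, hy, hQ⟩ := h
  obtain ⟨y', hy'⟩ := c.support_subset ((mem_support_baseChange_iff c.M Q').1 hsupp)
  have hfy : f y'.1 = f y.1 := by
    rw [c.base, hy', ← hQ]
    exact ((fibre_embedding c.R (MvPolynomial (Fin c.n) c.R) p).2.subset (Set.mem_range_self Q')).trans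
      ((fibre_embedding c.R (MvPolynomial (Fin c.n) c.R) p).2.subset (Set.mem_range_self Q)).symm
  obtain ⟨z', hz'⟩ : y'.1 ∈ Set.range (f.fiberι s) := by
    rw [f.range_fiberι]
    exact hfy.trans (by rw [← hy]; exact (f.range_fiberι s).subset (Set.mem_range_self z))
  refine ⟨z', (f.fiberι s).isEmbedding.isInducing.specializes_iff.1 ?_, y', hz', hy'.symm⟩
  rw [hz', hy, ← subtype_specializes_iff, ← c.isClosedEmbedding.isInducing.specializes_iff, hy', ← hQ,
    ← PrimeSpectrum.le_iff_specializes]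
  exact (fibre_comap_le_iff _ _ p Q Q').1 hle

theorem Corr.le_iff (h : c.Corr z Q) {z' : f.fiber s} {Q' : PrimeSpectrum (c.Fib p)} (h' : c.Corr z' Q') :
    Q' ≤ Q ↔ z' ⤳ z := by
  obtain ⟨y, hy, hQ⟩ := h
  obtain ⟨y', hy', hQ'⟩ := h'
  rw [fibre_comap_le_iff, hQ, hQ', PrimeSpectrum.le_iff_specializes,
    c.isClosedEmbedding.isInducing.specializes_iff, subtype_specializes_iff,
    ← (f.fiberι s).isEmbedding.isInducing.specializes_iff, hy, hy']

theorem Corr.eq_of_corr (h : c.Corr z Q) {z' : f.fiber s} (h' : c.Corr z' Q) : z' = z := by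
  obtain ⟨y, hy, hQ⟩ := h
  obtain ⟨y', hy', hQ'⟩ := h'
  apply (f.fiberι s).isEmbedding.injective
  rw [hy, hy', c.isClosedEmbedding.injective (hQ'.symm.trans hQ)]

set_option backward.isDefEq.respectTransparency false in
theorem Corr.cdim_eq [LocallyOfFiniteType f] (h : c.Corr z Q) :
    H8Props.FieldDim.cdim z = (tdim Q : WithBot ℕ∞) := by
  letI : Algebra p.asIdeal.ResidueField (c.Fib p) := Algebra.TensorProduct.rightAlgebra
  haveI : LocallyOfFiniteType (f.fiberToSpecResidueField s)  :=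
    MorphismProperty.pullback_snd (P := @LocallyOfFiniteType) _ _ ‹_›
  obtain ⟨hft, -, -, -⟩ := polynomial_fibre (R := c.R) (n := c.n) p.asIdeal.ResidueField
  rw [← coe_tdim (K := p.asIdeal.ResidueField), ← dim_closure_eq]
  obtain ⟨y, hy, hQ⟩ := h
  rw [hQ]
  let V := (f.fiberι s) ⁻¹ᵁ c.U
  have hzV : z ∈ V := show f.fiberι s z ∈ c.U from hy ▸ y.2
  have h1 : H8Props.FieldDim.cdim z = topologicalKrullDim (closure ({z} : Set (f.fiber s)) ∩ V : Set _) := by
    obtain ⟨V', (hV' : IsAffineOpen V'), hzV', hle⟩ :=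
      Opens.isBasis_iff_nbhd.mp (f.fiber s).isBasis_affineOpens hzV
    refine le_antisymm ?_ (H8Props.FieldDim.dim_mono Set.inter_subset_left)
    rw [H8Props.FieldDim.cdim_eq_inter (f.fiberToSpecResidueField s) z hV' hzV']
    exact H8Props.FieldDim.dim_mono (Set.inter_subset_inter_right _ hle)
  have hfib : closure ({z} : Set (f.fiber s)) ∩ V =
      (f.fiberι s) ⁻¹' (closure {y.1} ∩ c.U) := by
    rw [Set.preimage_inter, (f.fiberι s).isEmbedding.closure_eq_preimage_closure_image, Set.image_singleton, hy]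
    rfl
  have hs : f y.1 = s := hy ▸ (f.range_fiberι s).subset (Set.mem_range_self z)
  have hU : closure {y.1} ∩ c.U ∩ Set.range (f.fiberι s) =
      Subtype.val '' (closure {y} ∩ {y' : c.U | f y'.1 = s}) := by
    rw [f.range_fiberι, IsEmbedding.subtypeVal.closure_eq_preimage_closure_image, Set.image_singleton]
    ext a
    constructor
    · rintro ⟨⟨ha, haU⟩, has⟩
      exact ⟨⟨a, haU⟩, ⟨ha, has⟩, rfl⟩
    · rintro ⟨a, ⟨ha, has⟩, rfl⟩
      exact ⟨⟨ha, a.2⟩, has⟩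
  have hp : PrimeSpectrum.comap (algebraMap c.R (MvPolynomial (Fin c.n) c.R)) (c.ψ y) = p := by
    rw [← hQ]
    exact (fibre_embedding c.R (MvPolynomial (Fin c.n) c.R) p).2.subset (Set.mem_range_self Q)
  have hψ : c.ψ '' (closure {y} ∩ {y' : c.U | f y'.1 = s}) =
      closure {c.ψ y} ∩ PrimeSpectrum.comap (algebraMap c.R (MvPolynomial (Fin c.n) c.R)) ⁻¹' {p} := by
    have : {y' : c.U | f y'.1 = s} =
        c.ψ ⁻¹' (PrimeSpectrum.comap (algebraMap c.R (MvPolynomial (Fin c.n) c.R)) ⁻¹' {p}) := by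
      ext y'
      show f y'.1 = s ↔ _ = p
      rw [← hs, ← hp]
      exact c.base y' y
    rw [this, Set.image_inter_preimage, ← c.isClosedEmbedding.isClosedMap.closure_image_eq_of_continuous
      c.isClosedEmbedding.continuous, Set.image_singleton]
  rw [h1, hfib, H8Props.FieldDim.dim_preimage (f.fiberι s).isEmbedding, hU, ← hψ]
  rw [Set.image_eq_range, Set.image_eq_range, H8Props.FieldDim.dim_range, H8Props.FieldDim.dim_range]
  · exact c.isClosedEmbedding.isEmbedding.comp IsEmbedding.subtypeVal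
  · exact IsEmbedding.subtypeVal.comp IsEmbedding.subtypeVal

end Chart

end Groth.Agent.H06EGA12
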