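import Groth.Agent.H06EGA12.Scheme2

/-!
# Openness on the base of a property of all points of the fibres of a proper morphism
-/

set_option autoImplicit false
universe u

open CategoryTheory AlgebraicGeometry

namespace Groth.Agent.H06EGA12

/-- For a proper morphism an open property of the points of the fibres gives an open set of the base. -/
theorem isOpen_setOf_forall_fibre {X Y : Scheme.{u}} (f : X ⟶ Y) [IsProper f]
    (P : ∀ s : Y, f.fiber s → Prop) {G : Set X} (hG : IsOpen G)
    (hGP : ∀ x, x ∈ G ↔ P (f x) (f.asFiber x)) : IsOpen {y : Y | ∀ z : f.fiber y, P y z} := by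
  have : {y : Y | ∀ z : f.fiber y, P y z} = (f '' Gᶜ)ᶜ := by
    ext y
    constructor
    · rintro hy ⟨x, hx, rfl⟩
      exact hx ((hGP x).2 ((property_iff_asFiber P (f.asFiber x) x (f.fiberι_asFiber x)).1 (hy _)))
    · intro hy z
      refine (property_iff_asFiber P z _ rfl).2 ((hGP _).1 (not_not.1 fun hx => hy ⟨f.fiberι y z, hx, ?_⟩))
      exact (f.range_fiberι y).subset (Set.mem_range_self z)
  rw [this]
  exact (f.isClosedMap _ hG.isClosed_compl).isOpen_compl

end Groth.Agent.H06EGA12
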