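import Groth.Agent.H06EGA12.Chart
import Groth.Agent.H06EGA9.StructureStalk

/-!
# EGA IV 12.1 / 12.2: openness of the loci of the fibre stalks
-/

set_option autoImplicit false
set_option linter.style.haveILetI false
set_option maxSynthPendingDepth 4
universe u

open CategoryTheory CategoryTheory.Limits AlgebraicGeometry TopologicalSpace TensorProduct

namespace Groth.Agent.H06EGA12

variable {X Y : Scheme.{u}} (f : X ⟶ Y) (F : X.Modules)

/-- The affine input: openness on `Spec` of a polynomial ring, uniformly in the field. -/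
def AffineOpen
    (Φ : ∀ (A : Type u) [CommRing A] [IsLocalRing A] (M : Type u) [AddCommGroup M] [Module A M], Prop) : Prop :=
  ∀ (R : Type u) [CommRing R] (n : ℕ) (M : Type u) [AddCommGroup M]
    [Module (MvPolynomial (Fin n) R) M] [Module R M] [IsScalarTower R (MvPolynomial (Fin n) R) M]
    [Module.FinitePresentation (MvPolynomial (Fin n) R) M] [Module.Flat R M],
    ∃ U : Set (PrimeSpectrum (MvPolynomial (Fin n) R)), IsOpen U ∧ Cuts U fun K _ _ Q =>
      Φ (Localization.AtPrime Q.asIdeal)
        (LocalizedModule Q.asIdeal.primeCompl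
          (((MvPolynomial (Fin n) R) ⊗[R] K) ⊗[MvPolynomial (Fin n) R] M))

variable {Φ : ∀ (A : Type u) [CommRing A] [IsLocalRing A] (M : Type u) [AddCommGroup M] [Module A M], Prop}

theorem isOpen_setOf_flat_and_onFibre [LocallyOfFinitePresentation f] (hF : CohB1.IsFP F)
    (hΦ : SemilinearInvariant Φ) (haff : AffineOpen Φ) :
    IsOpen {x : X | FlatMod.IsFlatOverAt f F x ∧ OnFibre f F Φ (f.asFiber x)} := by
  refine isOpen_iff_forall_mem_open.2 fun x hx => ?_
  obtain ⟨V, hxV, hVfl, ho⟩ := exists_nhd_isOpen_onFibre f F hF hΦ haff x hx.1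
  exact ⟨_, fun y hy => ⟨hVfl y hy.1, hy.2⟩, ho, hxV, hx.2⟩

theorem isOpen_setOf_onFibre [LocallyOfFinitePresentation f] (hF : CohB1.IsFP F)
    (hflat : FlatMod.IsFlatOver f F) (hΦ : SemilinearInvariant Φ) (haff : AffineOpen Φ) :
    IsOpen {x : X | OnFibre f F Φ (f.asFiber x)} := by
  have := isOpen_setOf_flat_and_onFibre f F hF hΦ haff
  simpa [hflat _] using this

/-- For a proper morphism the base locus of fibres all of whose stalks satisfy `Φ` is open. -/
theorem isOpen_setOf_forall_onFibre [LocallyOfFinitePresentation f] [IsProper f] (hF : CohB1.IsFP F)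
    (hflat : FlatMod.IsFlatOver f F) (hΦ : SemilinearInvariant Φ) (haff : AffineOpen Φ) :
    IsOpen {y : Y | ∀ z : f.fiber y, OnFibre f F Φ z} := by
  have hA := isOpen_setOf_onFibre f F hF hflat hΦ haff
  have : {y : Y | ∀ z : f.fiber y, OnFibre f F Φ z} = (f '' {x : X | OnFibre f F Φ (f.asFiber x)}ᶜ)ᶜ := by
    ext y
    constructor
    · rintro h ⟨x, hx, rfl⟩
      exact hx ((onFibre_iff_asFiber f F Φ (f.asFiber x) x (f.fiberι_asFiber x)).1 (h _))
    · intro h z
      refine (onFibre_iff_asFiber f F Φ z _ rfl).2 (not_not.1 fun hx => h ⟨f.fiberι y z, hx, ?_⟩)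
      exact (f.range_fiberι y).subset (Set.mem_range_self z)
  rw [this]
  exact (f.isClosedMap _ hA.isClosed_compl).isOpen_compl

/-- The local rings of the fibres are the stalks of the restriction of the structure module. -/
theorem onFibre_structureModule_iff (hΦ : SemilinearInvariant Φ) {s : Y} (z : f.fiber s) :
    OnFibre f (Coh.structureModule X) Φ z ↔ Φ ((f.fiber s).presheaf.stalk z) ((f.fiber s).presheaf.stalk z) := by
  let e := (LinearEquiv.ofBijective (LinearMap.toSpanSingleton ((f.fiber s).presheaf.stalk z) _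
      (H06EGA9.oneStalk z)) (H06EGA9.bijective_smul_oneStalk z)).trans
    (H06EGA9.stalkIso (H16Derived.KFlat.Stalk.structurePullbackIso (f.fiberι s)) z).symm
  exact hΦ (RingHom.id _) Function.surjective_id e.toAddEquiv (fun a m => e.map_smul a m)

theorem affineOpen_cm : AffineOpen.{u} fun A _ _ M _ _ =>
    Subsingleton M ∨ LocCoh.IsCohenMacaulayModule A M := fun R _ n M _ _ _ _ _ _ => exists_open_cm (R := R) (n := n) M

theorem affineOpen_hasSk (k : ℕ) : AffineOpen.{u} fun A _ _ M _ _ => LocCoh.HasSk k A M :=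
  fun R _ n M _ _ _ _ _ _ => exists_open_hasSk (R := R) (n := n) M k

theorem affineOpen_equidim (k : ℕ) (hk : 1 ≤ k) : AffineOpen.{u} fun A _ _ M _ _ =>
    EGA4.IsEquidimModule A M ∧ LocCoh.HasSk k A M :=
  fun R _ n M _ _ _ _ _ _ => exists_open_equidim (R := R) (n := n) M k hk

end Groth.Agent.H06EGA12
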