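import Groth.Agent.H06EGA12.Scheme2
import Groth.Agent.H06EGA12.Constructible
import Groth.Agent.H06EGA9.FlatLocallyConstructible

/-!
# EGA IV 9.9.2 / 9.9.3: constructibility of loci of fibre stalks
-/

set_option autoImplicit false
set_option linter.style.haveILetI false
set_option linter.unusedVariables false
set_option maxSynthPendingDepth 4
universe u

open CategoryTheory CategoryTheory.Limits AlgebraicGeometry TopologicalSpace TensorProduct Topology

namespace Groth.Agent.H06EGA12

variable {X Y : Scheme.{u}} (f : X ⟶ Y) (F : X.Modules)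
variable {Φ : ℕ → ∀ (A : Type u) [CommRing A] [IsLocalRing A] (M : Type u) [AddCommGroup M] [Module A M], Prop}

theorem isConstructible_preimage_of_isClosedEmbedding {U : Type u} [TopologicalSpace U] {A : Type u}
    [CommRing A] {ψ : U → PrimeSpectrum A} (hψ : IsClosedEmbedding ψ) {S : Set (PrimeSpectrum A)}
    (hS : IsConstructible S) : IsConstructible (ψ ⁻¹' S) := by
  have hlift : ∀ t : Set U, IsOpen t → IsCompact t →
      ∃ K : Set (PrimeSpectrum A), IsOpen K ∧ IsCompact K ∧ t = ψ ⁻¹' K := by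
    intro t hto htc
    obtain ⟨O, hO, rfl⟩ := hψ.isInducing.isOpen_iff.1 hto
    choose g hgx hgO using fun x : (ψ ⁻¹' O) =>
      PrimeSpectrum.isTopologicalBasis_basic_opens.exists_subset_of_mem_open x.2 hO
    choose gg hgg using fun x => hgx x
    obtain ⟨T, hT⟩ := htc.elim_finite_subcover (fun x => ψ ⁻¹' (g x))
      (fun x => (PrimeSpectrum.isTopologicalBasis_basic_opens.isOpen (hgx x)).preimage hψ.continuous)
      (fun x hx => Set.mem_iUnion.2 ⟨⟨x, hx⟩, (hgO ⟨x, hx⟩).1⟩)
    refine ⟨⋃ x ∈ T, g x, isOpen_biUnion fun x _ => ?_, T.isCompact_biUnion fun x _ => ?_, ?_⟩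
    · exact PrimeSpectrum.isTopologicalBasis_basic_opens.isOpen ⟨gg x, hgg x⟩
    · rw [← hgg x]
      exact PrimeSpectrum.isCompact_basicOpen (gg x)
    · refine Set.Subset.antisymm (hT.trans (by simp)) ?_
      rw [Set.preimage_iUnion₂]
      exact Set.iUnion₂_subset fun x _ => Set.preimage_mono (hgO x).2
  refine hS.preimage hψ.continuous fun s hs hs' t htc hto => ?_
  obtain ⟨K, hKo, hKc, rfl⟩ := hlift t hto htc
  rw [← Set.preimage_inter]
  exact hψ.isCompact_preimage (hs' hKc hKo)

/-- `Φ t` at a point of a fibre, `t` being the dimension of its closure in the fibre. -/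
def OnFibreDim (Φ : ℕ → ∀ (A : Type u) [CommRing A] [IsLocalRing A] (M : Type u) [AddCommGroup M] [Module A M], Prop)
    {s : Y} (z : f.fiber s) : Prop :=
  OnFibre f F (Φ ((H8Props.FieldDim.cdim z).unbotD 0).toNat) z

theorem isLocallyConstructible_onFibreDim [LocallyOfFinitePresentation f] (hF : CohB1.IsFP F)
    (hΦ : ∀ t, SemilinearInvariant (Φ t)) (hA : AffineOpenDim Φ) :
    IsLocallyConstructible {x : X | OnFibreDim f F Φ (f.asFiber x)} := by
  intro x
  obtain ⟨c, hxc⟩ := exists_chart f F hF x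
  obtain ⟨S, hSc, hS⟩ := exists_constructible_cuts (n := c.n) hΦ hA (R := c.R) c.M
  refine ⟨c.U, c.U.2.mem_nhds hxc, c.U.2, ?_⟩
  have hset : Subtype.val ⁻¹' {x : X | OnFibreDim f F Φ (f.asFiber x)} = c.ψ ⁻¹' S := by
    ext y
    have hy : f.fiberι (f y.1) (f.asFiber y.1) ∈ c.U := by rw [f.fiberι_asFiber]; exact y.2
    obtain ⟨p, Q, hQ⟩ := c.exists_corr (f.asFiber y.1) hy
    have hq : OnFibreDim f F Φ (f.asFiber y.1) ↔ PrimeSpectrum.comap (algebraMap (MvPolynomial (Fin c.n) c.R) (c.Fib p)) Q ∈ S := by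
      unfold OnFibreDim
      rw [hQ.cdim_eq]
      exact (hQ.onFibre_iff (hΦ _)).trans (hS _ Q)
    obtain ⟨y', hy', hQ'⟩ := hQ
    obtain rfl : y' = y := Subtype.ext (hy'.symm.trans (f.fiberι_asFiber _))
    show OnFibreDim f F Φ (f.asFiber y'.1) ↔ c.ψ y' ∈ S
    rw [hq, hQ']
  exact hset ▸ isConstructible_preimage_of_isClosedEmbedding c.isClosedEmbedding hSc

end Groth.Agent.H06EGA12
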