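import Groth.Agent.H8Props.FlatDepth
import Groth.Prelude.Def_EGA4b
import Mathlib.RingTheory.KrullDimension.Module
import Mathlib.RingTheory.Localization.Module
import Mathlib.RingTheory.Ideal.MinimalPrime.Localization

/-!
# Transport of depth, dimension, `(S_k)` and equidimensionality along surjections of rings
-/

set_option autoImplicit false
set_option linter.style.haveILetI false
universe u

open IsLocalRing

namespace Groth.Agent.H06EGA12

section SameModule

variable {A O : Type u} [CommRing A] [CommRing O] [Algebra A O]
  {N : Type u} [AddCommGroup N] [Module A N] [Module O N] [IsScalarTower A O N]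

theorem ker_le_of_mem_support (p : PrimeSpectrum A) (hp : p ∈ Module.support A N) :
    RingHom.ker (algebraMap A O) ≤ p.asIdeal := by
  intro r hr
  by_contra hrp
  obtain ⟨m, hm⟩ := Module.mem_support_iff'.1 hp
  refine hm r hrp ?_
  rw [← algebraMap_smul O r m, RingHom.mem_ker.1 hr, zero_smul]

theorem mem_support_comap_iff (h : Function.Surjective (algebraMap A O)) (P : PrimeSpectrum O) :
    PrimeSpectrum.comap (algebraMap A O) P ∈ Module.support A N ↔ P ∈ Module.support O N := by
  simp only [Module.mem_support_iff']
  refine exists_congr fun m => ⟨fun hm r hr => ?_, fun hm r hr => ?_⟩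
  · obtain ⟨a, rfl⟩ := h r
    rw [algebraMap_smul]
    exact hm a hr
  · rw [← algebraMap_smul O r m]
    exact hm _ hr

theorem supportDim_eq_of_surjective (h : Function.Surjective (algebraMap A O)) :
    Module.supportDim O N = Module.supportDim A N := by
  have hex : ∀ p ∈ Module.support A N, ∃ P : PrimeSpectrum O, PrimeSpectrum.comap (algebraMap A O) P = p := by
    intro p hp
    have : p ∈ Set.range (PrimeSpectrum.comap (algebraMap A O)) := by
      rw [range_comap_of_surjective _ _ h]
      exact ker_le_of_mem_support (O := O) p hp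
    exact this
  let g : Module.support O N → Module.support A N :=
    fun P => ⟨PrimeSpectrum.comap (algebraMap A O) P.1, (mem_support_comap_iff h P.1).2 P.2⟩
  have hg : ∀ P Q, g P ≤ g Q ↔ P ≤ Q := fun P Q => by
    show (P.1.asIdeal.comap (algebraMap A O)) ≤ Q.1.asIdeal.comap (algebraMap A O) ↔ _
    rw [← Ideal.map_le_iff_le_comap, Ideal.map_comap_of_surjective _ h]
    rfl
  have hs : Function.Surjective g := fun p => by
    obtain ⟨P, hP⟩ := hex p.1 p.2
    exact ⟨⟨P, (mem_support_comap_iff h P).1 (hP.symm ▸ p.2)⟩, Subtype.ext hP⟩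
  exact Order.krullDim_eq_of_orderIso
    (RelIso.ofSurjective (OrderEmbedding.ofMapLEIff g hg) hs)

theorem isEquidimModule_iff_of_surjective (h : Function.Surjective (algebraMap A O)) :
    EGA4.IsEquidimModule O N ↔ EGA4.IsEquidimModule A N := by
  have hann : Module.annihilator A N = (Module.annihilator O N).comap (algebraMap A O) := by
    ext r
    simp only [Ideal.mem_comap, Module.mem_annihilator, algebraMap_smul]
  have hdim : ∀ P : Ideal O, ringKrullDim (A ⧸ P.comap (algebraMap A O)) = ringKrullDim (O ⧸ P) := fun P => by
    refine ringKrullDim_eq_of_ringEquiv (RingEquiv.ofBijective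
      (Ideal.quotientMap P (algebraMap A O) le_rfl) ⟨Ideal.quotientMap_injective, ?_⟩)
    exact Ideal.quotientMap_surjective h
  unfold EGA4.IsEquidimModule
  rw [hann, Ideal.comap_minimalPrimes_eq_of_surjective h, Set.forall_mem_image,
    supportDim_eq_of_surjective h]
  exact forall_congr' fun P => imp_congr_right fun _ => by rw [hdim]

/-- Localisation at a prime of the quotient ring. -/
theorem isLocalizedModule_comap (h : Function.Surjective (algebraMap A O)) (Q : Ideal O) [Q.IsPrime] :
    IsLocalizedModule (Q.comap (algebraMap A O)).primeCompl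
      ((LocalizedModule.mkLinearMap Q.primeCompl N).restrictScalars A) where
  map_units s := by
    have hs : algebraMap A O s.1 ∈ Q.primeCompl := fun hm => s.2 (Ideal.mem_comap.2 hm)
    have := IsLocalizedModule.map_units (S := Q.primeCompl) (LocalizedModule.mkLinearMap Q.primeCompl N)
      ⟨algebraMap A O s.1, hs⟩
    rw [Module.End.isUnit_iff] at this ⊢
    convert this using 1
    ext x
    simp [Module.algebraMap_end_apply]
  surj y := by
    obtain ⟨⟨m, t⟩, hmt⟩ := IsLocalizedModule.surj Q.primeCompl (LocalizedModule.mkLinearMap Q.primeCompl N) y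
    obtain ⟨s, hs⟩ := h t.1
    refine ⟨(m, ⟨s, fun hm => absurd (Ideal.mem_comap.1 hm) (by rw [hs]; exact t.2)⟩), ?_⟩
    exact ((algebraMap_smul O s y).symm.trans (congrArg (· • y) hs)).trans hmt
  exists_of_eq {m n} hmn := by
    obtain ⟨t, ht⟩ := IsLocalizedModule.exists_of_eq (S := Q.primeCompl)
      (f := LocalizedModule.mkLinearMap Q.primeCompl N) hmn
    obtain ⟨s, hs⟩ := h t.1
    refine ⟨⟨s, fun hm => absurd (Ideal.mem_comap.1 hm) (by rw [hs]; exact t.2)⟩, ?_⟩
    show s • m = s • n
    rw [← algebraMap_smul O s m, ← algebraMap_smul O s n, hs]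
    exact ht

theorem localization_invariants (h : Function.Surjective (algebraMap A O)) (Q : Ideal O) [Q.IsPrime] :
    LocCoh.depth (Localization.AtPrime Q) (LocalizedModule Q.primeCompl N) =
        LocCoh.depth (Localization.AtPrime (Q.comap (algebraMap A O)))
          (LocalizedModule (Q.comap (algebraMap A O)).primeCompl N) ∧
      Module.supportDim (Localization.AtPrime Q) (LocalizedModule Q.primeCompl N) =
        Module.supportDim (Localization.AtPrime (Q.comap (algebraMap A O)))
          (LocalizedModule (Q.comap (algebraMap A O)).primeCompl N) := by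
  set P := Q.comap (algebraMap A O)
  let AP := Localization.AtPrime P
  let OQ := Localization.AtPrime Q
  let L := LocalizedModule Q.primeCompl N
  letI : Algebra AP OQ := (Localization.localRingHom P Q (algebraMap A O) rfl).toAlgebra
  haveI : IsScalarTower A AP OQ := IsScalarTower.of_algebraMap_eq fun a => by
    rw [RingHom.algebraMap_toAlgebra, Localization.localRingHom_to_map,
      ← IsScalarTower.algebraMap_apply A O OQ]
  have hsurj : Function.Surjective (algebraMap AP OQ) := by
    intro z
    obtain ⟨o, t, rfl⟩ := IsLocalization.exists_mk'_eq Q.primeCompl z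
    obtain ⟨a, rfl⟩ := h o
    obtain ⟨s, hs⟩ := h t.1
    refine ⟨IsLocalization.mk' AP a (⟨s, fun hm => absurd (Ideal.mem_comap.1 hm) (by rw [hs]; exact t.2)⟩ : P.primeCompl), ?_⟩
    rw [RingHom.algebraMap_toAlgebra, Localization.localRingHom_mk']
    congr 1
    exact Subtype.ext hs
  letI : Module AP L := Module.compHom L (algebraMap AP OQ)
  haveI : IsScalarTower AP OQ L := .of_algebraMap_smul fun _ _ => rfl
  haveI : IsScalarTower A AP L := .of_algebraMap_smul fun a x => by
    show algebraMap AP OQ (algebraMap A AP a) • x = a • x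
    rw [← IsScalarTower.algebraMap_apply, algebraMap_smul]
  haveI := isLocalizedModule_comap (N := N) h Q
  let e : LocalizedModule P.primeCompl N ≃ₗ[AP] L :=
    (IsLocalizedModule.iso P.primeCompl
      ((LocalizedModule.mkLinearMap Q.primeCompl N).restrictScalars A)).extendScalarsOfIsLocalization
        P.primeCompl AP
  exact ⟨(H8Props.FlatDepth.depth_eq_of_surjective hsurj).trans (H4Depth.depth_congr e).symm,
    (supportDim_eq_of_surjective hsurj).trans (Module.supportDim_eq_of_equiv e).symm⟩

theorem hasSk_iff_of_surjective (h : Function.Surjective (algebraMap A O)) (k : ℕ) :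
    LocCoh.HasSk k O N ↔ LocCoh.HasSk k A N := by
  refine ⟨fun H p _ => ?_, fun H Q _ => ?_⟩
  · by_cases hp : (⟨p, ‹_›⟩ : PrimeSpectrum A) ∈ Module.support A N
    · obtain ⟨P, hP⟩ : (⟨p, ‹_›⟩ : PrimeSpectrum A) ∈ Set.range (PrimeSpectrum.comap (algebraMap A O)) := by
        rw [range_comap_of_surjective _ _ h]
        exact ker_le_of_mem_support (O := O) _ hp
      obtain rfl : P.asIdeal.comap (algebraMap A O) = p := congrArg PrimeSpectrum.asIdeal hP
      obtain ⟨h1, h2⟩ := localization_invariants (N := N) h P.asIdeal
      rw [← h1, ← h2]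
      exact H P.asIdeal
    · have : Subsingleton (LocalizedModule p.primeCompl N) := Module.notMem_support_iff.1 hp
      rw [Module.supportDim_eq_bot_of_subsingleton]
      simp
  · obtain ⟨h1, h2⟩ := localization_invariants (N := N) h Q
    rw [h1, h2]
    exact H _

end SameModule

section Semilinear

variable {A O : Type u} [CommRing A] [CommRing O] (φ : A →+* O) (hφ : Function.Surjective φ)
  {M N : Type u} [AddCommGroup M] [AddCommGroup N] [Module A M] [Module O N]
  (e : M ≃+ N) (he : ∀ (a : A) (m : M), e (a • m) = φ a • e m)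
include hφ he

theorem hasSk_iff_of_semilinear (k : ℕ) : LocCoh.HasSk k O N ↔ LocCoh.HasSk k A M := by
  letI := φ.toAlgebra
  letI : Module A N := Module.compHom N φ
  haveI : IsScalarTower A O N := .of_algebraMap_smul fun _ _ => rfl
  let l : M ≃ₗ[A] N := e.toLinearEquiv he
  rw [hasSk_iff_of_surjective hφ]
  refine forall_congr' fun p => forall_congr' fun _ => ?_
  let l' := IsLocalizedModule.mapEquiv p.primeCompl (LocalizedModule.mkLinearMap p.primeCompl M)
    (LocalizedModule.mkLinearMap p.primeCompl N) (Localization.AtPrime p) l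
  rw [Module.supportDim_eq_of_equiv l', H4Depth.depth_congr l']

theorem invariants_of_semilinear [IsLocalRing A] [IsLocalRing O] :
    LocCoh.depth O N = LocCoh.depth A M ∧ Module.supportDim O N = Module.supportDim A M ∧
      (EGA4.IsEquidimModule O N ↔ EGA4.IsEquidimModule A M) ∧ (Subsingleton N ↔ Subsingleton M) ∧
      (LocCoh.IsCohenMacaulayModule O N ↔ LocCoh.IsCohenMacaulayModule A M) := by
  letI := φ.toAlgebra
  letI : Module A N := Module.compHom N φ
  haveI : IsScalarTower A O N := .of_algebraMap_smul fun _ _ => rfl
  let l : M ≃ₗ[A] N := e.toLinearEquiv he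
  have hd : LocCoh.depth O N = LocCoh.depth A M :=
    (H8Props.FlatDepth.depth_eq_of_surjective hφ).trans (H4Depth.depth_congr l).symm
  have hs : Module.supportDim O N = Module.supportDim A M :=
    (supportDim_eq_of_surjective hφ).trans (Module.supportDim_eq_of_equiv l).symm
  refine ⟨hd, hs, ?_, e.toEquiv.subsingleton_congr.symm, ?_⟩
  · rw [isEquidimModule_iff_of_surjective hφ]
    unfold EGA4.IsEquidimModule
    rw [← l.annihilator_eq, ← Module.supportDim_eq_of_equiv l]
  · unfold LocCoh.IsCohenMacaulayModule
    rw [hd, hs]

end Semilinear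

end Groth.Agent.H06EGA12
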